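import Cfsg.Agent.ThreeTransposition.TwoCorePerp.Unitary.Descend

/-!
If the common neighbours of a noncommuting pair commute pairwise only trivially, the group is an image of the
special unitary group of degree four or five, which gives the coordinates.
-/

set_option autoImplicit false
set_option linter.unusedSectionVars false
set_option linter.style.haveILetI false

namespace Cfsg.Lib.ThreeTr.TwoCorePerp.Unitary

open Cfsg Subgroup Cfsg.Lib.ThreeTr Cfsg.Lib.CosetTable Cfsg.Lib.Classical Cfsg.Lib.TTUnitary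
open Cfsg.Lib.ThreeTr.SolvablePerp (cls perp_symm self_mem_cls)
open Cfsg.Lib.ThreeTr.SolvablePerp.Model (HS four)
open Cfsg.Lib.PrimeGraph (KQuad)

universe u

variable {G : Type u} [Group G] [Finite G] {S : Set G}

theorem tv_not_commute {n : ℕ} {v r : Vec n} (hv : Iso n v) (hr : Iso n r) (h : (HS n).h r v ≠ 0) :
    ¬ Commute (tv (four n) r) (tv (four n) v) := by
  intro c
  have e := congrArg (fun g : (HS n).SIsom => g.1.1 r) c.eq
  simp only [(HS n).smul_mul_apply] at e
  rw [tv_fix (four n) hr.2 hr.2, tv_apply (four n) hv.2, map_add, map_smul, tv_fix (four n) hr.2 hr.2,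
    tv_apply (four n) hr.2, smul_add, smul_smul, (HS n).symm v r, (four n).norm _ h, one_smul,
    ← add_assoc] at e
  exact hr.1 (add_eq_left.1 e)

theorem base_class (U : Uni S) : IsThreeTranspositionClass S := by
  obtain ⟨x, hx, -⟩ := U.twin
  refine ⟨U.tr, ⟨x, hx, ?_⟩, U.top⟩
  ext d
  rw [mem_conjugatesOf', isConj_iff]
  constructor
  · intro hd
    obtain ⟨g, -, hg⟩ := U.trans x hx d hd
    exact ⟨g, hg⟩
  · rintro ⟨g, rfl⟩
    exact (U.mem_iff (U.top ▸ mem_top g) x).2 hx

theorem base_quad (U : Uni S) {x z : G} (hx : x ∈ S) (hz : z ∈ S) (hxz : ¬ Commute x z)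
    (hno : ∀ p ∈ perp S x ∩ perp S z, ∀ q ∈ perp S x ∩ perp S z, Commute p q → p = q) :
    SolvablePerp.Quad S 4 := by
  have key : ∀ y ∈ S, ∀ a ∈ perp S y, perp S y ∩ perp S a = cls S y a \ {a} := by
    have atx : ∀ a ∈ perp S x, ∀ b ∈ perp S x, Commute a b → b ∈ cls S x a := by
      intro a ha b hb hab
      obtain ⟨s, ⟨hs, hsa⟩, -⟩ := U.existsUnique_inter hx hz hxz ha
      obtain ⟨t, ⟨ht, htb⟩, -⟩ := U.existsUnique_inter hx hz hxz hb
      have c1 : Commute s b := (hsa.2 b hb).1 hab
      have c2 : Commute t s := (htb.2 s hs.1).1 c1.symm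
      obtain rfl := hno s hs t ht c2.symm
      rw [← cls_eq_cls hsa]
      exact mem_cls_symm htb hb
    intro y hy a ha
    ext b
    constructor
    · rintro ⟨hby, hba⟩
      obtain ⟨g, hg, rfl⟩ := U.trans x hx y hy
      rw [← U.perp_image hg x] at ha hby
      obtain ⟨a₀, ha₀, rfl⟩ := ha
      obtain ⟨b₀, hb₀, rfl⟩ := hby
      refine ⟨?_, hba.2.1⟩
      rw [← U.cls_image hg]
      exact ⟨b₀, atx a₀ ha₀ b₀ hb₀ ((conj_commute_iff g a₀ b₀).1 hba.2.2), rfl⟩
    · rintro ⟨hb, hne⟩
      exact ⟨hb.1, hb.1.1, hne, (hb.2 b hb.1).2 (Commute.refl _)⟩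
  refine ⟨⟨base_class U, fun hy => U.exists_perp hy, fun hy ha => U.exists_sep hy ha,
    fun hy hw h => U.exists_inter hy hw h, fun {y d} hy hd => ?_⟩, by norm_num, fun y hy a ha => ?_,
    fun y hy a ha b hb b' hb' => ?_, ?_⟩
  · by_cases h : Commute y d
    · exact Relation.ReflTransGen.single ⟨hy, hd, h⟩
    · obtain ⟨t, ht⟩ := U.exists_inter hy hd h
      exact (Relation.ReflTransGen.single (r := fun a b => a ∈ S ∧ b ∈ S ∧ Commute a b) ⟨hy, ht.1.1, ht.1.2.2⟩).tail
        ⟨ht.1.1, hd, ht.2.2.2.symm⟩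
  · rw [key y hy a ha, Set.ncard_sdiff_singleton_of_mem (self_mem_cls ha), U.wid y hy a ha]
  · rw [key y hy a ha] at hb hb'
    exact cls_comm hb.1 hb'.1
  · rw [Subgroup.eq_bot_iff_forall]
    exact fun g hg => U.cent g fun d _ => (mem_center_iff.1 hg d).symm

/-- A homomorphism with prescribed values on generators. -/
theorem exists_hom_values {M : Type*} [Group M] [Finite M] {k : ℕ} {im : ℕ → G} {mm : ℕ → M}
    (hG : closure (im '' Set.Iio k) = ⊤) (hM : closure (mm '' Set.Iio k) = ⊤)
    [Finite (closure ((fun i => (im i, mm i)) '' Set.Iio k))]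
    (hcard : Nat.card (closure ((fun i => (im i, mm i)) '' Set.Iio k)) ≤ Nat.card M) :
    ∃ φ : M →* G, Function.Surjective φ ∧ ∀ i < k, φ (mm i) = im i := by
  set Δ := closure ((fun i => (im i, mm i)) '' Set.Iio k) with hΔ
  set p : Δ →* M := (MonoidHom.snd G M).comp Δ.subtype with hp
  set q : Δ →* G := (MonoidHom.fst G M).comp Δ.subtype with hq
  have hps : Function.Surjective p := by
    rw [← MonoidHom.range_eq_top, hp, MonoidHom.range_comp, range_subtype, hΔ, MonoidHom.map_closure,
      ← Set.image_comp]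
    exact hM
  have hqs : Function.Surjective q := by
    rw [← MonoidHom.range_eq_top, hq, MonoidHom.range_comp, range_subtype, hΔ, MonoidHom.map_closure,
      ← Set.image_comp]
    exact hG
  have hb : Function.Bijective p :=
    (Nat.bijective_iff_surjective_and_card p).2 ⟨hps, le_antisymm hcard (Nat.card_le_card_of_surjective p hps)⟩
  refine ⟨q.comp (MulEquiv.ofBijective p hb).symm.toMonoidHom, hqs.comp (MulEquiv.surjective _), fun i hi => ?_⟩
  have : (MulEquiv.ofBijective p hb).symm (mm i) = ⟨(im i, mm i), subset_closure ⟨i, hi, rfl⟩⟩ := by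
    rw [MulEquiv.symm_apply_eq]; rfl
  show q _ = _
  rw [MulEquiv.coe_toMonoidHom, this]
  rfl

/-- A surjection from the special unitary group which carries one transvection into the class gives
coordinates. -/
theorem coord_of_hom (U : Uni S) {n : ℕ} (hn : 4 ≤ n) (φ : (HS n).SIsom →* G) (hφ : Function.Surjective φ)
    {v₀ : Vec n} (hv₀ : (HS n).h v₀ v₀ = 0) (hmem : φ (tv (four n) v₀) ∈ S) : ∃ f, Coord S n f := by
  classical
  have hD := base_class U
  have hv00 : v₀ ≠ 0 := by
    intro e
    have h1 : tv (four n) v₀ = 1 := (HS n).sisom_ext fun x => by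
      rw [tv_apply (four n) hv₀, e, smul_zero, add_zero]; rfl
    rw [h1, map_one] at hmem
    have := U.tr.1 _ hmem
    simp at this
  have hv : Iso n v₀ := ⟨hv00, hv₀⟩
  set f : Vec n → G := fun v => φ (tv (four n) v) with hf
  have hS : ∀ v, Iso n v → f v ∈ S := by
    intro v hv'
    obtain ⟨l, -, rfl⟩ := trans_iso (four n) nondeg_top (by rw [finrank_top, Module.finrank_fin_fun]; omega)
      (Submodule.mem_top (x := v₀)) (Submodule.mem_top (x := v)) hv.1 hv'.1 hv.2 hv'.2
    rw [hf]
    simp only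
    rw [← tv_conj (four n) l hv₀, map_mul, map_mul, map_inv]
    exact conj_mem hD _ hmem
  have hker : φ.ker ≤ Subgroup.center _ := by
    haveI := Cfsg.Lib.Balance.su_quot_simple (k := KQuad) (q := 2) SolvablePerp.Model.hK (n := n) (by omega) (by omega)
    set e := suEquiv n SolvablePerp.Model.hK
    set ψ : Cfsg.SU n KQuad 2 →* G := φ.comp e.symm.toMonoidHom with hψ
    set Z := Subgroup.center (Cfsg.SU n KQuad 2) with hZdef
    have hψs : Function.Surjective ψ := hφ.comp e.symm.surjective
    have hZker : Z ≤ ψ.ker := by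
      intro z hz
      rw [MonoidHom.mem_ker]
      refine U.cent _ fun d _ => ?_
      obtain ⟨s, rfl⟩ := hψs d
      show ψ z * ψ s = ψ s * ψ z
      rw [← map_mul, ← map_mul, mem_center_iff.1 hz s]
    have hn' : (ψ.ker.map (QuotientGroup.mk' Z)).Normal := Subgroup.Normal.map inferInstance _
      (QuotientGroup.mk'_surjective _)
    have hcm : (ψ.ker.map (QuotientGroup.mk' Z)).comap (QuotientGroup.mk' Z) = ψ.ker := by
      rw [comap_map_eq, QuotientGroup.ker_mk', sup_eq_left.2 hZker]
    have hker : ψ.ker ≤ Z := by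
      rcases IsSimpleGroup.eq_bot_or_eq_top_of_normal _ hn' with h | h
      · rw [h, MonoidHom.comap_bot, QuotientGroup.ker_mk'] at hcm
        exact le_of_eq hcm.symm
      · rw [h, comap_top] at hcm
        have h1 : φ (tv (four n) v₀) = 1 := by
          have := MonoidHom.mem_ker.1 (hcm ▸ mem_top (e (tv (four n) v₀)) : e (tv (four n) v₀) ∈ ψ.ker)
          rwa [hψ, MonoidHom.comp_apply, MulEquiv.coe_toMonoidHom, MulEquiv.symm_apply_apply] at this
        have := U.tr.1 _ hmem
        rw [h1, orderOf_one] at this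
        omega
    intro g hg
    have hz := hker (show e g ∈ ψ.ker by
      rw [MonoidHom.mem_ker, hψ, MonoidHom.comp_apply, MulEquiv.coe_toMonoidHom, MulEquiv.symm_apply_apply]
      exact hg)
    rw [mem_center_iff]
    exact fun k => e.injective (by rw [map_mul, map_mul]; exact mem_center_iff.1 hz (e k))
  have hinj : ∀ v w, Iso n v → Iso n w → f v = f w → ∃ a : KQuad, a ≠ 0 ∧ w = a • v := by
    intro v w hv hw h
    have hc : (tv (four n) v)⁻¹ * tv (four n) w ∈ Subgroup.center (HS n).SIsom := hker (by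
      rw [MonoidHom.mem_ker, map_mul, map_inv]; exact inv_mul_eq_one.2 h)
    have hsame : ∀ r, Iso n r → (HS n).h r v = 0 → (HS n).h r w = 0 := by
      intro r hr hrv
      by_contra hne
      refine tv_not_commute hw hr hne ?_
      have c1 := tv_commute (four n) hr.2 hv.2 (h_swap hrv)
      have := c1.mul_right (mem_center_iff.1 hc (tv (four n) r))
      rwa [mul_inv_cancel_left] at this
    have hvw : (HS n).h v w = 0 := hsame v hv hv.2
    obtain ⟨p, hp, hpv⟩ := exists_iso_one (by omega) hv.1 1 one_ne_zero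
    have hvp : (HS n).h v p = 1 := by rw [(HS n).symm, hpv, map_one]
    have hk : (HS n).h w p ≠ 0 := by
      intro h0
      refine tv_not_commute hv hp (by rw [hpv]; exact one_ne_zero) ?_
      have c1 := tv_commute (four n) hp.2 hw.2 h0
      have hi := inv_mem (s := Subgroup.center _) hc
      rw [mul_inv_rev, inv_inv] at hi
      have := c1.mul_right (mem_center_iff.1 hi (tv (four n) p))
      rwa [mul_inv_cancel_left] at this
    obtain ⟨a, ha⟩ := exists_smul_of_same (q := ((HS n).h w p)⁻¹ • w) hn hp hv hvp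
      (by rw [(HS n).smul_left, inv_mul_cancel₀ hk]) fun r hr _ hrv => by
        rw [(HS n).smul_right, hsame r hr hrv, mul_zero]
    have ha' := congrArg (fun t => (HS n).h t v) ha
    simp only [(HS n).smul_left, h_swap hvw, mul_zero, (HS n).add_left, hv.2, hpv, mul_one, zero_add] at ha'
    rw [← ha', zero_smul, add_zero] at ha
    exact ⟨_, hk, by rw [← ha, smul_smul, mul_inv_cancel₀ hk, one_smul]⟩
  refine ⟨f, hn, hS, ?_, ?_, ?_, hinj⟩
  · intro d hd
    obtain ⟨g, hg⟩ := exists_conj hD hmem hd
    obtain ⟨l, rfl⟩ := hφ g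
    exact ⟨_, hv.map l, by rw [← hg, hf]; simp only; rw [← tv_conj (four n) l hv₀, map_mul, map_mul, map_inv]⟩
  · intro v w hv hw
    refine ⟨fun c => ?_, fun h => (tv_commute (four n) hv.2 hw.2 (h_swap h)).map φ⟩
    by_contra hne
    have e : f ((tv (four n) v).1.1 w) = f w := by
      rw [hf]
      simp only
      rw [← tv_conj (four n) _ hw.2, map_mul, map_mul, map_inv]
      exact (Commute.eq c).symm ▸ mul_inv_cancel_right _ _
    obtain ⟨a, -, ha⟩ := hinj _ _ hw (hw.map _) e.symm
    rw [tv_apply (four n) hv.2] at ha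
    have hk : (HS n).h w v ≠ 0 := fun h => hne (h_swap h)
    have h1 := congrArg (fun t => (HS n).h t v) ha
    simp only [(HS n).add_left, (HS n).smul_left, hv.2, mul_zero, add_zero] at h1
    have : a = 1 := (mul_eq_right₀ hk).1 h1.symm
    rw [this, one_smul, add_eq_left, smul_eq_zero] at ha
    exact ha.elim hk hv.1
  · intro v a hv ha
    rw [hf]; simp only; rw [tv_smul (four n) hv.2 ha]

/-- The coordinates in the first case. -/
theorem base (U : Uni S) {x z : G} (hx : x ∈ S) (hz : z ∈ S) (hxz : ¬ Commute x z)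
    (hno : ∀ p ∈ perp S x ∩ perp S z, ∀ q ∈ perp S x ∩ perp S z, Commute p q → p = q) :
    ∃ n f, Coord S n f := by
  have Q := base_quad U hx hz hxz hno
  rcases Q.four_five with ⟨im, himD, hb, h4, htop⟩ | ⟨im, himD, hb, h4, h5, htop⟩
  · set d := SolvablePerp.Model.dataFour with hd
    have hgl : d.gens.length = 6 := rfl
    set mm := SolvablePerp.Model.mm 4 d.gens with hmm
    have hm2 : ∀ i < 6, mm i * mm i = 1 := fun i hi =>
      tv_sq (four 4) (d.iso SolvablePerp.Model.four_gens (hgl ▸ hi))
    obtain ⟨hf, hc⟩ := SolvablePerp.card_four_le (im := fun i => (im i, mm i))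
      (fun i hi => Prod.ext (inv_eq U.tr (himD i hi)) (inv_eq_of_mul_eq_one_right (hm2 i hi)))
      (SolvablePerp.pair_rels hb (d.rels_hold SolvablePerp.Model.four_gens SolvablePerp.Model.four_rels_base))
      (SolvablePerp.pair_rels h4 (d.rels_hold SolvablePerp.Model.four_gens SolvablePerp.Model.four_rels))
    haveI := hf
    haveI : Finite (HS 4).SIsom := Nat.finite_of_card_ne_zero (by rw [SolvablePerp.Model.card_four]; norm_num)
    have hgen : closure (mm '' Set.Iio 6) = ⊤ := hgl ▸ d.generate SolvablePerp.Model.four_gens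
      SolvablePerp.Model.four_orb (hgl ▸ by norm_num) SolvablePerp.Model.four_idx (Or.inl rfl)
    obtain ⟨φ, hφ, hval⟩ := exists_hom_values htop hgen (hc.trans SolvablePerp.Model.card_four.ge)
    obtain ⟨f, hC⟩ := coord_of_hom U le_rfl φ hφ (d.iso SolvablePerp.Model.four_gens (i := 0) (hgl ▸ by norm_num))
      (by have := hval 0 (by norm_num); rw [hmm, SolvablePerp.Model.mm] at this; rw [this]; exact himD 0 (by norm_num))
    exact ⟨4, f, hC⟩
  · set d := SolvablePerp.Model.dataFive with hd
    have hgl : d.gens.length = 7 := rfl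
    set mm := SolvablePerp.Model.mm 5 d.gens with hmm
    have hm2 : ∀ i < 7, mm i * mm i = 1 := fun i hi =>
      tv_sq (four 5) (d.iso SolvablePerp.Model.five_gens (hgl ▸ hi))
    obtain ⟨hf, hc⟩ := SolvablePerp.card_five_le (im := fun i => (im i, mm i))
      (fun i hi => Prod.ext (inv_eq U.tr (himD i hi)) (inv_eq_of_mul_eq_one_right (hm2 i hi)))
      (SolvablePerp.pair_rels hb (d.rels_hold SolvablePerp.Model.five_gens SolvablePerp.Model.five_rels_base))
      (SolvablePerp.pair_rels h4 (d.rels_hold SolvablePerp.Model.five_gens SolvablePerp.Model.five_rels_four))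
      (SolvablePerp.pair_rels h5 (d.rels_hold SolvablePerp.Model.five_gens SolvablePerp.Model.five_rels))
    haveI := hf
    haveI : Finite (HS 5).SIsom := Nat.finite_of_card_ne_zero (by rw [SolvablePerp.Model.card_five]; norm_num)
    have hgen : closure (mm '' Set.Iio 7) = ⊤ := hgl ▸ d.generate SolvablePerp.Model.five_gens
      SolvablePerp.Model.five_orb (hgl ▸ by norm_num) SolvablePerp.Model.five_idx (Or.inr rfl)
    obtain ⟨φ, hφ, hval⟩ := exists_hom_values htop hgen (hc.trans SolvablePerp.Model.card_five.ge)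
    obtain ⟨f, hC⟩ := coord_of_hom U (by norm_num) φ hφ
      (d.iso SolvablePerp.Model.five_gens (i := 0) (hgl ▸ by norm_num))
      (by have := hval 0 (by norm_num); rw [hmm, SolvablePerp.Model.mm] at this; rw [this]; exact himD 0 (by norm_num))
    exact ⟨5, f, hC⟩

end Cfsg.Lib.ThreeTr.TwoCorePerp.Unitary
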