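import Cfsg.Agent.ThreeTransposition.TwoCorePerp.Unitary.Extend
import Cfsg.Agent.ThreeTransposition.TwoCorePerp.Unitary.Base

/-!
Induction on the number of members: unitary geometry has coordinates.
-/

set_option autoImplicit false
set_option linter.unusedSectionVars false
set_option linter.style.haveILetI false

namespace Cfsg.Lib.ThreeTr.TwoCorePerp.Unitary

open Cfsg Subgroup Cfsg.Lib.ThreeTr
open Cfsg.Lib.ThreeTr.SolvablePerp (cls perp_symm self_mem_cls)

universe u

theorem coords_le : ∀ (N : ℕ) {G : Type u} [Group G] [Finite G] {S : Set G}, S.ncard ≤ N → Uni S →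
    ∃ n f, Coord S n f := by
  intro N
  induction N using Nat.strong_induction_on with
  | _ N ih =>
    intro G _ _ S hN U
    obtain ⟨x, hx, a, ha, -⟩ := U.twin
    obtain ⟨z, hz, -, hxz⟩ := U.exists_sep hx ha
    by_cases hno : ∀ p ∈ perp S x ∩ perp S z, ∀ q ∈ perp S x ∩ perp S z, Commute p q → p = q
    · exact base U hx hz hxz hno
    push Not at hno
    obtain ⟨p, hp, q, hq, hc, hne⟩ := hno
    obtain ⟨K, iK, fK, π, hinj, hcomm, hmem, U'⟩ := exists_descent U hx hz hxz ⟨p, hp, q, hq, hne, hc⟩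
    have hlt : (π '' (perp S x ∩ perp S z)).ncard < N := by
      rw [Set.ncard_image_of_injOn hinj]
      refine lt_of_lt_of_le (Set.ncard_lt_ncard ?_ (Set.toFinite S)) hN
      exact Set.ssubset_iff_subset_ne.2 ⟨fun y hy => hy.1.1, fun e => ((Set.ext_iff.1 e x).2 hx).1.2.1 rfl⟩
    obtain ⟨m, f, C⟩ := ih _ hlt le_rfl U'
    obtain ⟨c, F⟩ := exists_frame U hx hz hxz hinj hcomm hmem U' C
    obtain ⟨e, L⟩ := exists_label F
    obtain ⟨g, hC⟩ := exists_coord F L
    exact ⟨m + 2, g, hC⟩

/-- Unitary geometry has coordinates. -/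
theorem exists_coords {G : Type u} [Group G] [Finite G] {S : Set G} (U : Uni S) : ∃ n f, Coord S n f :=
  coords_le _ le_rfl U

end Cfsg.Lib.ThreeTr.TwoCorePerp.Unitary
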