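import Cfsg.Agent.ThreeTransposition.TwoCorePerp.Unitary.Space

/-!
A function on isotropic vectors which is additive on isotropic triangles extends additively.
-/

set_option autoImplicit false
set_option linter.unusedSectionVars false
set_option linter.style.haveILetI false

namespace Cfsg.Lib.ThreeTr.TwoCorePerp.Unitary

open Cfsg Subgroup Cfsg.Lib.Classical Cfsg.Lib.TTUnitary
open Cfsg.Lib.ThreeTr.SolvablePerp.Model (HS four)
open Cfsg.Lib.PrimeGraph (KQuad)

variable {n : ℕ}

/-- The first hyperbolic coordinate. -/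
noncomputable def ca (p : Vec (n + 2)) : KQuad := (pt_surj p).choose

/-- The second hyperbolic coordinate. -/
noncomputable def cb (p : Vec (n + 2)) : KQuad := (pt_surj p).choose_spec.choose

/-- The remainder. -/
noncomputable def cw (p : Vec (n + 2)) : Vec n := (pt_surj p).choose_spec.choose_spec.choose

theorem pt_coords (p : Vec (n + 2)) : p = pt n (ca p) (cb p) (cw p) :=
  (pt_surj p).choose_spec.choose_spec.choose_spec

theorem coords_pt (a b : KQuad) (w : Vec n) :
    ca (pt n a b w) = a ∧ cb (pt n a b w) = b ∧ cw (pt n a b w) = w :=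
  pt_inj (pt_coords (pt n a b w)).symm

theorem coords_add (p q : Vec (n + 2)) : ca (p + q) = ca p + ca q ∧ cb (p + q) = cb p + cb q ∧ cw (p + q) = cw p + cw q := by
  have h : p + q = pt n (ca p + ca q) (cb p + cb q) (cw p + cw q) := by rw [← pt_add, ← pt_coords, ← pt_coords]
  rw [h]
  exact coords_pt _ _ _

theorem sol_aux : ∀ a b h : KQuad, b ≠ 0 → (h = 0 ∨ h = 1) →
    (h + ((if h = 0 then 0 else b * om) * (b * b) + b * ((if h = 0 then 0 else b * om) * (if h = 0 then 0 else b * om))) = 0 ∧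
      (h + (a * (b * b) + b * (a * a)) = 0 → a = (if h = 0 then 0 else b * om) ∨ a = (if h = 0 then 0 else b * om) + b)) ∧
      (h + (a * (b * b) + b * (a * a)) = 0 → h + ((a + b) * (b * b) + b * ((a + b) * (a + b))) = 0) := by
  simp only [KQuad.forall_iff]; decide +kernel

theorem shift_aux : ∀ b b' k : KQuad, b ≠ 0 → b' ≠ 0 → b ≠ b' →
    k + k * k = 0 ∨ (k + b * (b' * b')) + (k + b * (b' * b')) * (k + b * (b' * b')) = 0 := by
  simp only [KQuad.forall_iff]; decide +kernel

/-- Additivity on triangles extends. -/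
theorem exists_additive {M : Type*} [AddCommGroup M] (h2 : ∀ a : M, a + a = 0) (f : Vec (n + 2) → M)
    (hadd : ∀ r r', Iso (n + 2) r → Iso (n + 2) r' → Iso (n + 2) (r + r') → f (r + r') = f r + f r') :
    ∃ Λ : Vec (n + 2) →+ M, ∀ r, Iso (n + 2) r → Λ r = f r := by
  classical
  set f₀ : Vec (n + 2) → M := fun v => if v = 0 then 0 else f v with hf₀
  set h := (HS (n + 2)).h with hh
  have hadd₀ : ∀ r r', h r r = 0 → h r' r' = 0 → h (r + r') (r + r') = 0 → f₀ (r + r') = f₀ r + f₀ r' := by
    intro r r' hr hr' hs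
    by_cases e1 : r = 0
    · simp [hf₀, e1]
    by_cases e2 : r' = 0
    · simp [hf₀, e2]
    by_cases e3 : r + r' = 0
    · rw [(four _).eq_of_vadd e3, (four _).vadd_self, h2]; simp [hf₀]
    · simp only [hf₀, if_neg e1, if_neg e2, if_neg e3]
      exact hadd r r' ⟨e1, hr⟩ ⟨e2, hr'⟩ ⟨e3, hs⟩
  have hz : (HS n).h 0 0 = 0 := (HS n).zero_left 0
  set g : KQuad → M := fun a => f₀ (pt n a 0 0) with hg
  set g' : KQuad → M := fun b => f₀ (pt n 0 b 0) with hg'
  have iso_a : ∀ a : KQuad, h (pt n a 0 0) (pt n a 0 0) = 0 := fun a => by rw [hh, h_pt, hz]; simp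
  have iso_b : ∀ b : KQuad, h (pt n 0 b 0) (pt n 0 b 0) = 0 := fun b => by rw [hh, h_pt, hz]; simp
  have hga : ∀ a a', g (a + a') = g a + g a' := fun a a' => by
    have e := pt_add a 0 a' 0 (0 : Vec n) 0
    rw [add_zero, add_zero] at e
    show f₀ _ = f₀ _ + f₀ _
    rw [← e]
    exact hadd₀ _ _ (iso_a a) (iso_a a') (e ▸ iso_a _)
  have hgb : ∀ b b', g' (b + b') = g' b + g' b' := fun b b' => by
    have e := pt_add 0 b 0 b' (0 : Vec n) 0
    rw [add_zero, add_zero] at e
    show f₀ _ = f₀ _ + f₀ _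
    rw [← e]
    exact hadd₀ _ _ (iso_b b) (iso_b b') (e ▸ iso_b _)
  have hg0 : g 0 = 0 := by simp [hg, hf₀, pt_zero]
  set sol : KQuad → Vec n → KQuad := fun b w => if (HS n).h w w = 0 then 0 else b * om with hsol
  set L : KQuad → Vec n → M := fun b w => f₀ (pt n (sol b w) b w) + g (sol b w) + g' b with hL
  have indep : ∀ a b w, b ≠ 0 → h (pt n a b w) (pt n a b w) = 0 → f₀ (pt n a b w) + g a + g' b = L b w := by
    intro a b w hb hi
    have hsc := (four n).self_cases w
    have hi' := hi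
    rw [hh, h_pt] at hi'
    obtain ⟨⟨s1, s2⟩, -⟩ := sol_aux a b _ hb hsc
    rcases s2 hi' with e | e
    · rw [hL, e]
    have hse : a = sol b w + b := e
    subst hse
    have hs0 : h (pt n (sol b w) b w) (pt n (sol b w) b w) = 0 := by rw [hh, h_pt]; exact s1
    have e' := pt_add (sol b w) b b 0 w 0
    rw [add_zero, add_zero] at e'
    rw [← e', hadd₀ _ _ hs0 (iso_a b) (e' ▸ hi), hga,
      show f₀ (pt n b 0 0) = g b from rfl]
    simp only [hL]
    rw [show f₀ (pt n (sol b w) b w) + g b + (g (sol b w) + g b) + g' b =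
      f₀ (pt n (sol b w) b w) + g (sol b w) + g' b + (g b + g b) by abel, h2, add_zero]
  have step : ∀ b b' w w', b ≠ 0 → b' ≠ 0 → b ≠ b' → L b w + L b' w' = L (b + b') (w + w') := by
    intro b b' w w' hb hb' hne
    have hbb : b + b' ≠ 0 := fun e => hne ((four n).eq_of_add e)
    have s : ∀ b w, b ≠ 0 → h (pt n (sol b w) b w) (pt n (sol b w) b w) = 0 := fun b w hb => by
      rw [hh, h_pt]; exact (sol_aux 0 b _ hb ((four n).self_cases w)).1.1
    set a' := sol b' w'
    have ha' := s b' w' hb'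
    obtain ⟨a, ha, hk⟩ : ∃ a, h (pt n a b w) (pt n a b w) = 0 ∧
        h (pt n a b w + pt n a' b' w') (pt n a b w + pt n a' b' w') = 0 := by
      have hexp : ∀ a, h (pt n a b w) (pt n a b w) = 0 →
          h (pt n a b w + pt n a' b' w') (pt n a b w + pt n a' b' w') =
            h (pt n a b w) (pt n a' b' w') + h (pt n a b w) (pt n a' b' w') * h (pt n a b w) (pt n a' b' w') := by
        intro a ha
        simp only [hh] at ha ha' ⊢
        rw [(HS _).add_left, (HS _).add_right, (HS _).add_right, ha, ha',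
          (HS _).symm (pt n a' b' w') (pt n a b w), conj_eq]
        abel
      rcases shift_aux b b' (h (pt n (sol b w) b w) (pt n a' b' w')) hb hb' hne with e | e
      · exact ⟨_, s b w hb, (hexp _ (s b w hb)).trans e⟩
      · have hi : h (pt n (sol b w + b) b w) (pt n (sol b w + b) b w) = 0 := by
          have := s b w hb
          rw [hh, h_pt] at this ⊢
          exact (sol_aux (sol b w) b _ hb ((four n).self_cases w)).2 this
        refine ⟨_, hi, (hexp _ hi).trans ?_⟩
        have e' : h (pt n (sol b w + b) b w) (pt n a' b' w') =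
            h (pt n (sol b w) b w) (pt n a' b' w') + b * (b' * b') := by
          rw [hh, h_pt, h_pt]; ring
        rw [e', e]
    rw [← indep a b w hb ha, ← indep a' b' w' hb' ha',
      ← indep (a + a') (b + b') (w + w') hbb (by rw [← pt_add]; exact hk), ← pt_add, hga, hgb,
      hadd₀ _ _ ha ha' hk]
    abel
  have hL0 : ∀ b, L b 0 = 0 := fun b => by
    simp only [hL, hsol, hz, if_true, hg0, add_zero]
    exact h2 _
  obtain ⟨f1, -, -, f4, -⟩ := om_facts
  have ho2 : om * om ≠ 0 := mul_ne_zero om_ne_zero om_ne_zero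
  have ho1 : (1 : KQuad) ≠ om := by decide +kernel
  have l1 : ∀ w, L 1 w = L (om * om) w := fun w => by
    have := step 1 om w 0 one_ne_zero om_ne_zero ho1
    rwa [hL0, add_zero, f4, add_zero] at this
  have l2 : ∀ w, L om w = L (om * om) w := fun w => by
    have := step 1 om 0 w one_ne_zero om_ne_zero ho1
    rwa [hL0, zero_add, f4, zero_add] at this
  have lall : ∀ b w, b ≠ 0 → L b w = L (om * om) w := fun b w hb => by
    rcases k_cases b with rfl | rfl | rfl | rfl
    exacts [absurd rfl hb, l1 w, l2 w, rfl]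
  have ladd : ∀ w w', L (om * om) (w + w') = L (om * om) w + L (om * om) w' := fun w w' => by
    have := step 1 om w w' one_ne_zero om_ne_zero ho1
    rw [f4, l1, l2] at this
    exact this.symm
  refine ⟨AddMonoidHom.mk' (fun v => g (ca v) + g' (cb v) + L (om * om) (cw v)) fun p q => by
    obtain ⟨e1, e2, e3⟩ := coords_add p q
    rw [e1, e2, e3, hga, hgb, ladd]; abel, fun r hr => ?_⟩
  show g (ca r) + g' (cb r) + L (om * om) (cw r) = f r
  obtain ⟨a, b, w, rfl⟩ := pt_surj r
  obtain ⟨e1, e2, e3⟩ := coords_pt a b w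
  rw [e1, e2, e3]
  have hfr : f (pt n a b w) = f₀ (pt n a b w) := (if_neg hr.1).symm
  rw [hfr]
  by_cases hb : b = 0
  · subst hb
    have hw : (HS n).h w w = 0 := by have := hr.2; rw [h_pt] at this; simpa using this
    have i0 : h (pt n 0 0 w) (pt n 0 0 w) = 0 := by rw [hh, h_pt, hw]; simp
    have i1 : h (pt n 0 1 w) (pt n 0 1 w) = 0 := by rw [hh, h_pt, hw]; simp
    have ea := pt_add a 0 0 0 (0 : Vec n) w
    have e1' := pt_add 0 1 0 0 (0 : Vec n) w
    simp only [add_zero, zero_add] at ea e1'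
    have d1 : f₀ (pt n a 0 w) = g a + f₀ (pt n 0 0 w) := by
      rw [← ea]; exact hadd₀ _ _ (iso_a a) i0 (ea ▸ hr.2)
    have d2 : L 1 w = f₀ (pt n 0 0 w) := by
      rw [← indep 0 1 w one_ne_zero i1, hg0, add_zero, ← e1', hadd₀ _ _ (iso_b 1) i0 (e1' ▸ i1),
        show f₀ (pt n 0 1 0) = g' 1 from rfl, add_comm (g' 1), add_assoc, h2, add_zero]
    have hg'0 : g' 0 = 0 := by simp [hg', hf₀, pt_zero]
    rw [d1, hg'0, add_zero, ← l1, d2]
  · rw [← lall b w hb, ← indep a b w hb hr.2,
      show g a + g' b + (f₀ (pt n a b w) + g a + g' b) = f₀ (pt n a b w) + (g a + g a) + (g' b + g' b) by abel,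
      h2, h2, add_zero, add_zero]

end Cfsg.Lib.ThreeTr.TwoCorePerp.Unitary
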