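import Cfsg.Agent.ThreeTransposition.TwoCorePerp.Unitary.Space
import Cfsg.Agent.ThreeTransposition.TwoCorePerp.Inter
import Cfsg.Agent.ThreeTransposition.SolvablePerp.Main

/-!
Coordinates: a map from the isotropic points of a unitary space onto the set of 3-transpositions under which
orthogonality is commuting. It carries transvections to conjugation, so determines the group.
-/

set_option autoImplicit false
set_option linter.unusedSectionVars false
set_option linter.style.haveILetI false

namespace Cfsg.Lib.ThreeTr.TwoCorePerp.Unitary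

open Cfsg Subgroup Cfsg.Lib.ThreeTr Cfsg.Lib.Classical Cfsg.Lib.TTUnitary
open Cfsg.Lib.ThreeTr.SolvablePerp.Model (HS four)
open Cfsg.Lib.ThreeTr.SolvablePerp (cls perp_symm self_mem_cls)
open Cfsg.Lib.PrimeGraph (KQuad)

universe u

variable {G : Type u} [Group G] {S : Set G} {n : ℕ} {f : Vec n → G}

/-- Unitary geometry in a centreless group. -/
structure Uni (S : Set G) : Prop extends Geo S where
  wid : ∀ x ∈ S, ∀ a ∈ perp S x, (cls S x a).ncard = 4
  top : closure S = ⊤
  cent : ∀ g : G, (∀ d ∈ S, Commute g d) → g = 1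

/-- Coordinates. -/
structure Coord (S : Set G) (n : ℕ) (f : Vec n → G) : Prop where
  dim : 4 ≤ n
  mem : ∀ v, Iso n v → f v ∈ S
  surj : ∀ d ∈ S, ∃ v, Iso n v ∧ f v = d
  comm : ∀ v w, Iso n v → Iso n w → (Commute (f v) (f w) ↔ (HS n).h v w = 0)
  smul : ∀ v, ∀ a : KQuad, Iso n v → a ≠ 0 → f (a • v) = f v
  inj : ∀ v w, Iso n v → Iso n w → f v = f w → ∃ a : KQuad, a ≠ 0 ∧ w = a • v

namespace Coord

theorem exists_scaled (C : Coord S n f) {v : Vec n} (hv : Iso n v) {d : G} (hd : d ∈ S)
    (hn : ¬ Commute d (f v)) : ∃ w, Iso n w ∧ f w = d ∧ (HS n).h w v = 1 := by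
  obtain ⟨w, hw, rfl⟩ := C.surj d hd
  have h0 : (HS n).h w v ≠ 0 := fun h => hn ((C.comm w v hw hv).2 h)
  exact ⟨((HS n).h w v)⁻¹ • w, hw.smul (inv_ne_zero h0), C.smul w _ hw (inv_ne_zero h0),
    by rw [(HS n).smul_left, inv_mul_cancel₀ h0]⟩

theorem conj_one (C : Coord S n f) (P : Geo S) {v w : Vec n} (hv : Iso n v) (hw : Iso n w)
    (h : (HS n).h w v = 1) : f v * f w * f v = f (w + v) := by
  have hvS := C.mem v hv
  have hwS := C.mem w hw
  have hnc : ¬ Commute (f v) (f w) := fun c => by
    have := (C.comm v w hv hw).1 c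
    rw [(HS n).symm, h, map_one] at this
    exact one_ne_zero this
  have hv2 := sq_eq_one P.tr hvS
  have hu := P.invol_mem hvS hwS
  have hcu : ¬ Commute (f v * f w * f v) (f v) := fun c => hnc (by
    have := ((Commute.refl (f v)).mul_right c.symm).mul_right (Commute.refl (f v))
    rwa [invol_conj_conj hv2] at this)
  obtain ⟨q, hq, hqu, hqv⟩ := C.exists_scaled hv hu hcu
  obtain ⟨a, ha⟩ := exists_smul_of_same C.dim hv hw h hqv fun r hr hrv hrw => by
    rw [← C.comm r q hr hq, hqu]
    have c1 := (C.comm r v hr hv).2 hrv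
    exact (c1.mul_right ((C.comm r w hr hw).2 hrw)).mul_right c1
  have hiso := hq.2
  rw [ha, (HS n).add_left, (HS n).add_right, (HS n).add_right, (HS n).smul_left, (HS n).smul_right,
    (HS n).smul_right, (HS n).smul_left, hw.2, hv.2, h, show (HS n).h v w = 1 by rw [(HS n).symm, h, map_one]] at hiso
  have hiso' : a + (HS n).σ a = 0 := by linear_combination hiso
  rcases (four n).fixed_cases ((four n).eq_of_add (by rw [add_comm]; exact hiso')) with rfl | rfl
  · rw [zero_smul, add_zero] at ha
    subst ha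
    exfalso
    refine hcu ?_
    exfalso
    have e : f v * f q = f q * f v := by
      calc f v * f q = f v * f q * f v * f v := by rw [mul_assoc (f v * f q) (f v), hv2, mul_one]
        _ = f q * f v := by rw [← hqu]
    exact hnc e
  · rw [one_smul] at ha
    rw [← hqu, ha]

/-- Conjugation is the transvection. -/
theorem conj (C : Coord S n f) (P : Geo S) {v w : Vec n} (hv : Iso n v) (hw : Iso n w) :
    f v * f w * f v = f ((tv (four n) v).1.1 w) := by
  rw [tv_apply (four n) hv.2]
  by_cases h : (HS n).h w v = 0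
  · rw [h, zero_smul, add_zero, ((C.comm w v hw hv).2 h).symm.eq, mul_assoc, sq_eq_one P.tr (C.mem v hv), mul_one]
  · set k := (HS n).h w v with hk
    have hk' := inv_ne_zero h
    have hw' := hw.smul hk'
    have h1 := C.conj_one P hv hw' (by rw [(HS n).smul_left, ← hk, inv_mul_cancel₀ h])
    rw [C.smul w _ hw hk'] at h1
    have hi : Iso n (w + k • v) := by
      have := hw.map (tv (four n) v)
      rwa [tv_apply (four n) hv.2, ← hk] at this
    rw [h1, show k⁻¹ • w + v = k⁻¹ • (w + k • v) by rw [smul_add, smul_smul, inv_mul_cancel₀ h, one_smul],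
      C.smul _ _ hi hk']

/-- The group is the projective special unitary group. -/
theorem equiv_psu [Finite G] (C : Coord S n f) (P : Geo S) (htop : closure S = ⊤)
    (hcent : ∀ g : G, (∀ d ∈ S, Commute g d) → g = 1) : Nonempty (G ≃* Cfsg.PSU n KQuad 2) := by
  classical
  let R : (HS n).SIsom → G → Prop := fun g k => ∀ w, Iso n w → k * f w * k⁻¹ = f (g.1.1 w)
  have huniq : ∀ {g k k'}, R g k → R g k' → k = k' := by
    intro g k k' h h'
    refine inv_mul_eq_one.1 (hcent _ fun d hd => ?_)
    obtain ⟨w, hw, rfl⟩ := C.surj d hd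
    have := (h w hw).trans (h' w hw).symm
    show k⁻¹ * k' * f w = f w * (k⁻¹ * k')
    calc k⁻¹ * k' * f w = k⁻¹ * (k' * f w * k'⁻¹) * k' := by group
      _ = k⁻¹ * (k * f w * k⁻¹) * k' := by rw [this]
      _ = f w * (k⁻¹ * k') := by group
  have hmul : ∀ {g g' k k'}, R g k → R g' k' → R (g * g') (k * k') := by
    intro g g' k k' h h' w hw
    rw [(HS n).smul_mul_apply, show k * k' * f w * (k * k')⁻¹ = k * (k' * f w * k'⁻¹) * k⁻¹ by group, h' w hw]
    exact h _ (hw.map g')
  have hone : R 1 1 := fun w _ => by rw [one_mul, inv_one, mul_one]; rfl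
  have htv : ∀ {v}, Iso n v → R (tv (four n) v) (f v) := fun {v} hv w hw => by
    rw [inv_eq P.tr (C.mem v hv)]; exact C.conj P hv hw
  have hgen : ∀ g : (HS n).SIsom, g ∈ closure {t | ∃ v, Iso n v ∧ t = tv (four n) v} := by
    intro g
    have hg : g.1 ∈ (HS n).transvGroup := by
      rw [(HS n).transvGroup_eq_SIsom (Or.inl (by rw [Module.finrank_fin_fun]; exact C.dim))]
      exact g.2
    suffices ∀ k ∈ (HS n).transvGroup, ∃ hk : k ∈ (HS n).SIsom,
        (⟨k, hk⟩ : (HS n).SIsom) ∈ closure {t | ∃ v, Iso n v ∧ t = tv (four n) v} by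
      obtain ⟨_, h⟩ := this _ hg
      exact h
    intro k hk
    induction hk using closure_induction with
    | mem k hk =>
      obtain ⟨v, hv, c, hc, rfl⟩ := hk
      refine ⟨(HS n).uT_mem_SIsom hv hc, ?_⟩
      show (HS n).sT hv hc ∈ _
      by_cases hv0 : v = 0
      · rw [show (HS n).sT hv hc = 1 from (HS n).sisom_ext fun x => by
          rw [(HS n).sT_apply, hv0, smul_zero, add_zero]; rfl]
        exact one_mem _
      rcases (four n).fixed_cases ((four n).eq_of_add (by rw [add_comm]; exact hc)) with rfl | rfl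
      · rw [show (HS n).sT hv hc = 1 from (HS n).sisom_ext fun x => by
          rw [(HS n).sT_apply, zero_mul, zero_smul, add_zero]; rfl]
        exact one_mem _
      · exact subset_closure ⟨v, ⟨hv0, hv⟩, (HS n).sisom_ext fun x => by
          rw [(HS n).sT_apply, tv_apply (four n) hv, one_mul]⟩
    | one => exact ⟨one_mem _, one_mem _⟩
    | mul k l _ _ hk hl =>
      obtain ⟨hk, hk'⟩ := hk
      obtain ⟨hl, hl'⟩ := hl
      exact ⟨mul_mem hk hl, mul_mem hk' hl'⟩
    | inv k _ hk =>
      obtain ⟨hk, hk'⟩ := hk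
      exact ⟨inv_mem hk, inv_mem hk'⟩
  have hex : ∀ g, ∃ k, R g k := by
    intro g
    induction hgen g using closure_induction with
    | mem t ht => obtain ⟨v, hv, rfl⟩ := ht; exact ⟨_, htv hv⟩
    | one => exact ⟨1, hone⟩
    | mul a b _ _ ha hb => obtain ⟨k, hk⟩ := ha; obtain ⟨l, hl⟩ := hb; exact ⟨_, hmul hk hl⟩
    | inv a _ ha =>
      obtain ⟨k, hk⟩ := ha
      refine ⟨k⁻¹, fun w hw => ?_⟩
      have h' := hk _ (hw.map a⁻¹)
      rw [show a.1.1 ((a⁻¹).1.1 w) = w from (HS n).apply_inv_self a.1 w] at h'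
      rw [← h']
      group
  let φ : (HS n).SIsom →* G :=
    { toFun := fun g => (hex g).choose
      map_one' := huniq (hex 1).choose_spec hone
      map_mul' := fun a b => huniq (hex _).choose_spec (hmul (hex a).choose_spec (hex b).choose_spec) }
  have hφ : Function.Surjective φ := by
    rw [← MonoidHom.range_eq_top, eq_top_iff, ← htop, closure_le]
    intro d hd
    obtain ⟨v, hv, rfl⟩ := C.surj d hd
    exact ⟨tv (four n) v, huniq (hex _).choose_spec (htv hv)⟩
  refine SolvablePerp.psu_equiv C.dim φ hφ ?_ ?_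
  · rw [Subgroup.eq_bot_iff_forall]
    exact fun g hg => hcent g fun d _ => (mem_center_iff.1 hg d).symm
  · obtain ⟨x, hx, a, ha, -⟩ := P.twin
    obtain ⟨e, he, -, hne⟩ := P.exists_sep hx ha
    exact ⟨x, e, hne⟩

end Coord

end Cfsg.Lib.ThreeTr.TwoCorePerp.Unitary
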