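import Cfsg.Agent.ThreeTransposition.TwoCorePerp.Unitary.Kappa

/-!
The number of members not commuting with `x` is the number of isotropic points off the perp of a point.
-/

set_option autoImplicit false
set_option linter.unusedSectionVars false
set_option linter.style.haveILetI false

namespace Cfsg.Lib.ThreeTr.TwoCorePerp.Unitary

open Cfsg Subgroup Cfsg.Lib.ThreeTr Cfsg.Lib.Classical Cfsg.Lib.TTUnitary
open Cfsg.Lib.ThreeTr.SolvablePerp (cls perp_symm self_mem_cls)
open Cfsg.Lib.ThreeTr.SolvablePerp.Model (HS four)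
open Cfsg.Lib.PrimeGraph (KQuad)

universe u

variable {G : Type u} [Group G] [Finite G] {S : Set G} {x z : G} {m n : ℕ} {c e : Vec m → G}

/-- The members not commuting with `x`. -/
def Off (S : Set G) (x : G) : Set G := {y | y ∈ S ∧ ¬ Commute x y}

theorem apt_iff (q : KQuad × Vec n) :
    (HS (n + 2)).h (pt n q.1 1 q.2) (pt n q.1 1 q.2) = 0 ↔ q.1 + q.1 * q.1 = (HS n).h q.2 q.2 := by
  rw [h_pt, mul_one, mul_one, one_mul]
  exact ⟨fun h => ((four n).eq_of_add (by rw [add_comm] at h; exact h)), fun h => by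
    rw [h]; exact (four n).add_self _⟩

theorem iso_apt (q : APt n) : Iso (n + 2) (pt n q.1.1 1 q.1.2) :=
  ⟨fun h => one_ne_zero (pt_eq_zero.1 h).2.1, (apt_iff q.1).2 q.2⟩

theorem ncard_perp_noncommute {m : ℕ} {c e : Vec (m + 2) → G} (F : Frame S x z (m + 2) c)
    (L : Label S x z (m + 2) c e) :
    {b | b ∈ perp S x ∧ ¬ Commute b (c (pt m 1 0 0))}.ncard = 8 * 4 ^ m := by
  classical
  have hrt : Iso (m + 2) (pt m 1 0 0) := (flat_x one_ne_zero).iso
  have hw : ∀ q : APt m, (HS (m + 2)).h (pt m q.1.1 1 q.1.2) (pt m 1 0 0) = 1 := fun q => by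
    rw [h_pt, (HS m).zero_right]; simp
  let f : KQuad × APt m → G := fun p => phi x c e p.1 (pt m p.2.1.1 1 p.2.1.2)
  have himg : {b | b ∈ perp S x ∧ ¬ Commute b (c (pt m 1 0 0))} = Set.range f := by
    ext b
    constructor
    · rintro ⟨hb, hbn⟩
      obtain ⟨a, w, hfl, rfl⟩ := phi_surj F L (Or.inr hb)
      have h0 : (HS (m + 2)).h w (pt m 1 0 0) ≠ 0 := fun h => hbn (by
        have := (phi_comm F L hfl (flat_of_iso hrt 0)).2 h
        rwa [phi_zero] at this)
      set k := ((HS (m + 2)).h w (pt m 1 0 0))⁻¹ with hk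
      obtain ⟨a1, b1, w1, hp⟩ := pt_surj (k • w)
      have hk0 : k ≠ 0 := inv_ne_zero h0
      have h1 : (HS (m + 2)).h (k • w) (pt m 1 0 0) = 1 := by rw [(HS (m + 2)).smul_left, inv_mul_cancel₀ h0]
      rw [hp, h_pt, (HS m).zero_right] at h1
      obtain rfl : b1 = 1 := by simpa using h1
      have hi : (HS (m + 2)).h (k • w) (k • w) = 0 := by rw [(four (m + 2)).h_smul_smul hk0, hfl.2]
      rw [hp] at hi
      exact ⟨(k * a, ⟨(a1, w1), (apt_iff (a1, w1)).1 hi⟩), by
        show phi x c e (k * a) (pt m a1 1 w1) = _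
        rw [← hp, phi_smul F L hfl hk0]⟩
    · rintro ⟨p, rfl⟩
      have hfl : Flat (m + 2) p.1 (pt m p.2.1.1 1 p.2.1.2) := flat_of_iso (iso_apt p.2) p.1
      have hnc : ¬ Commute (f p) (c (pt m 1 0 0)) := fun h => by
        have := (phi_comm F L hfl (flat_of_iso hrt 0)).1 (by rwa [phi_zero])
        rw [hw] at this
        exact one_ne_zero this
      refine ⟨?_, hnc⟩
      rcases phi_mem F L hfl with h | h
      · exact absurd (by show Commute (phi x c e p.1 _) _; rw [h]; exact (F.mem _ hrt).1.2.2) hnc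
      · exact h
  have hinj : Function.Injective f := by
    rintro ⟨a, q⟩ ⟨a', q'⟩ h
    obtain ⟨k, -, rfl, hk⟩ := phi_inj F L (flat_of_iso (iso_apt q) a) (flat_of_iso (iso_apt q') a') h
    rw [pt_smul] at hk
    obtain ⟨e1, e2, e3⟩ := pt_inj hk
    rw [mul_one] at e2
    subst e2
    rw [one_mul] at e1 ⊢
    rw [one_smul] at e3
    exact Prod.ext rfl (Subtype.ext (Prod.ext e1.symm e3.symm))
  rw [himg, ← Nat.card_coe_set_eq, Nat.card_range_of_injective hinj, Nat.card_prod, card_apt,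
    Nat.card_eq_fintype_card, KQuad.card_eq]
  ring

/-- The number of members not commuting with `x`. -/
theorem ncard_off (F : Frame S x z m c) (L : Label S x z m c e) : (Off S x).ncard = 2 * 4 ^ m := by
  classical
  obtain ⟨n, rfl⟩ : ∃ n, m = n + 2 := ⟨m - 2, by have := F.dim; omega⟩
  haveI := Fintype.ofFinite G
  have P : Geo S := F.uni.toGeo
  set t := c (pt n 1 0 0)
  have htT : t ∈ perp S x ∩ perp S z := F.mem _ (flat_x one_ne_zero).iso
  set μ := (perp S x ∩ perp S z).ncard with hμ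
  have hμ0 : 0 < μ := (Set.ncard_pos (Set.toFinite _)).2 ⟨t, htT⟩
  have hk : (perp S x).ncard = 4 * μ := by
    rw [P.ncard_perp_inter F.hx F.hz F.hxz htT.1, F.uni.wid x F.hx t htT.1]
  set B := {b | b ∈ perp S x ∧ ¬ Commute b t}
  have key := Finset.sum_card_bipartiteAbove_eq_sum_card_bipartiteBelow (fun y b : G => Commute y b)
    (s := (Off S x).toFinset) (t := (perp S x).toFinset)
  have h1 : ∀ y ∈ (Off S x).toFinset,
      ((perp S x).toFinset.bipartiteAbove (fun y b : G => Commute y b) y).card = μ := by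
    intro y hy
    have hy : y ∈ Off S x := Set.mem_toFinset.1 hy
    rw [hμ, P.ncard_inter F.hx F.hz F.hxz F.hx hy.1 hy.2, Set.ncard_eq_toFinset_card']
    congr 1
    ext b
    simp only [Finset.bipartiteAbove, Finset.mem_filter, Set.mem_toFinset]
    constructor
    · exact fun h => ⟨h.1, h.1.1, fun e => hy.2 (e ▸ h.1.2.2), h.2⟩
    · exact fun h => ⟨h.1, h.2.2.2⟩
  have h2 : ∀ b ∈ (perp S x).toFinset,
      ((Off S x).toFinset.bipartiteBelow (fun y b : G => Commute y b) b).card = B.ncard := by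
    intro b hb
    have hb : b ∈ perp S x := Set.mem_toFinset.1 hb
    have hxb := perp_symm F.hx hb
    have e1 : ((Off S x).toFinset.bipartiteBelow (fun y b : G => Commute y b) b).card =
        (perp S b \ insert x (perp S x ∩ perp S b)).ncard := by
      rw [Set.ncard_eq_toFinset_card']
      congr 1
      ext y
      simp only [Finset.bipartiteBelow, Finset.mem_filter, Set.mem_toFinset, Set.mem_sdiff,
        Set.mem_insert_iff, not_or]
      constructor
      · rintro ⟨⟨hy, hxy⟩, hc⟩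
        exact ⟨⟨hy, fun e => hxy (e ▸ hb.2.2), hc.symm⟩, fun e => hxy (e ▸ Commute.refl x), fun h => hxy h.1.2.2⟩
      · rintro ⟨hyb, hyx, hyn⟩
        exact ⟨⟨hyb.1, fun h => hyn ⟨⟨hyb.1, hyx, h⟩, hyb⟩⟩, hyb.2.2.symm⟩
    have hsub : insert x (perp S x ∩ perp S b) ⊆ perp S b :=
      Set.insert_subset hxb Set.inter_subset_right
    rw [e1, Set.ncard_sdiff hsub, Set.ncard_insert_of_notMem (fun h => h.1.2.1 rfl) (Set.toFinite _),
      P.ncard_common F.hx htT.1 F.hx hb, P.ncard_perp hb.1 F.hx]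
    have e2 : B = perp S x \ insert t (perp S x ∩ perp S t) := by
      ext y
      simp only [B, Set.mem_ofPred_eq, Set.mem_sdiff, Set.mem_insert_iff, not_or]
      constructor
      · rintro ⟨hy, hn⟩
        exact ⟨hy, fun e => hn (e ▸ Commute.refl t), fun h => hn h.2.2.2.symm⟩
      · rintro ⟨hy, hyt, hyn⟩
        exact ⟨hy, fun h => hyn ⟨hy, hy.1, hyt, h.symm⟩⟩
    rw [e2, Set.ncard_sdiff (Set.insert_subset htT.1 Set.inter_subset_left),
      Set.ncard_insert_of_notMem (fun h => h.2.2.1 rfl) (Set.toFinite _)]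
  rw [Finset.sum_congr rfl h1, Finset.sum_congr rfl h2, Finset.sum_const, Finset.sum_const, smul_eq_mul,
    smul_eq_mul, ← Set.ncard_eq_toFinset_card', ← Set.ncard_eq_toFinset_card', hk,
    ncard_perp_noncommute F L] at key
  refine Nat.eq_of_mul_eq_mul_right hμ0 (key.trans ?_)
  rw [pow_add]
  ring

end Cfsg.Lib.ThreeTr.TwoCorePerp.Unitary
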