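import Cfsg.Agent.ThreeTransposition.TwoCorePerp.Unitary.Coord

/-!
The common neighbours of a noncommuting pair, with their centre divided out, carry unitary geometry again.
-/

set_option autoImplicit false
set_option linter.unusedSectionVars false
set_option linter.style.haveILetI false

namespace Cfsg.Lib.ThreeTr.TwoCorePerp.Unitary

open Cfsg Subgroup Cfsg.Lib.ThreeTr
open Cfsg.Lib.ThreeTr.SolvablePerp (cls perp_symm self_mem_cls)

universe u

variable {G : Type u} [Group G] [Finite G] {S : Set G} {x z : G}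

/-- The third member of two noncommuting members commutes with no neighbour of just one. -/
theorem not_commute_third (hE : IsThreeTranspositionSet S) {p q a : G} (hp : p ∈ S) (hq : q ∈ S)
    (hpq : ¬ Commute p q) (h : Commute a p) (h' : ¬ Commute a q) : ¬ Commute a (p * q * p) := fun c => h' (by
  have := (h.mul_right c).mul_right h
  rwa [invol_conj_conj (sq_eq_one hE hp)] at this)

section

variable (U : Uni S) (hx : x ∈ S) (hz : z ∈ S) (hxz : ¬ Commute x z)

local notation "T" => perp S x ∩ perp S z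

include U hx hz hxz

theorem inter_closed {p q : G} (hp : p ∈ T) (hq : q ∈ T) : p * q * p⁻¹ ∈ T := by
  have h1 := (U.mem_perp_conj (subset_closure hp.1.1) (x := x) (y := q)).2 hq.1
  have h2 := (U.mem_perp_conj (subset_closure hp.1.1) (x := z) (y := q)).2 hq.2
  rw [CoreThree.conj_fix hp.1.2.2.symm] at h1
  rw [CoreThree.conj_fix hp.2.2.2.symm] at h2
  exact ⟨h1, h2⟩

theorem inter_twinfree {p q : G} (hp : p ∈ T) (hq : q ∈ T) (h : VRel T p q) : p = q := by
  refine U.eq_of_cls hx hz hxz hp hq ⟨hp.1, fun e he => ?_⟩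
  obtain ⟨t, ⟨ht, htc⟩, -⟩ := U.existsUnique_inter hx hz hxz he
  constructor
  · intro c
    exact ((htc.2 p hp.1).2 ((h t ht).2 ((htc.2 q hq.1).1 c.symm).symm).symm).symm
  · intro c
    exact ((htc.2 q hq.1).2 ((h t ht).1 ((htc.2 p hp.1).1 c.symm).symm).symm).symm

/-- Lines of two common neighbours consist of common neighbours. -/
theorem inter_line {p q l : G} (hp : p ∈ T) (hq : q ∈ perp S p) (hqT : q ∈ T) (hl : l ∈ line S p q) : l ∈ T := by
  have hL := isLine_line hp.1.1 hq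
  have c1 := U.two_all hL hx mem_line_left (mem_line_right hq) hq.2.1 hp.1.2.2 hqT.1.2.2 l hl
  have c2 := U.two_all hL hz mem_line_left (mem_line_right hq) hq.2.1 hp.2.2.2 hqT.2.2.2 l hl
  have hlS := U.line_sub hL hl
  exact ⟨⟨hlS, fun e => hxz (e ▸ c2).symm, c1⟩, hlS, fun e => hxz (e ▸ c1), c2⟩

/-- Members with nonneighbours in a set closed under thirds and lines have a common one. -/
theorem join {A : Set G} (hA : A ⊆ T) (hthird : ∀ p ∈ A, ∀ q ∈ A, ¬ Commute p q → p * q * p ∈ A)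
    {a b : G} (hline : ∀ p ∈ A, ∀ q ∈ A, q ∈ perp S p → ∀ l ∈ line S p q, l ∈ A ∨
      (Commute b p → Commute b q))
    (ha : a ∈ T) (hb : b ∈ T) (hab : Commute a b) (hne : ∃ r ∈ A, ¬ Commute r a)
    (hne' : ∃ r ∈ A, ¬ Commute r b) : ∃ r ∈ A, ¬ Commute r a ∧ ¬ Commute r b := by
  obtain ⟨r, hr, hra⟩ := hne
  obtain ⟨s, hs, hsb⟩ := hne'
  by_cases hrb : Commute r b
  swap
  · exact ⟨r, hr, hra, hrb⟩
  by_cases hsa : Commute s a
  swap
  · exact ⟨s, hs, hsa, hsb⟩
  have hrS := (hA hr).1.1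
  have hsS := (hA hs).1.1
  by_cases hrs : Commute r s
  swap
  · refine ⟨_, hthird r hr s hs hrs, fun c => ?_, fun c => not_commute_third U.tr hrS hsS hrs hrb.symm
      (fun c' => hsb c'.symm) c.symm⟩
    rw [braid U.tr hrS hsS hrs] at c
    exact not_commute_third U.tr hsS hrS (fun c' => hrs c'.symm) hsa.symm (fun c' => hra c'.symm) c.symm
  have hne : s ≠ r := fun e => hsb (e ▸ hrb)
  have hsp : s ∈ perp S r := ⟨hsS, hne, hrs⟩
  have hL := isLine_line hrS hsp
  obtain ⟨l, hl, hlrs⟩ := Set.exists_mem_notMem_of_ncard_lt_ncard (s := ({r, s} : Set G)) (t := line S r s)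
    (by rw [U.ncard_line hL hrS hsp, U.wid r hrS s hsp, Set.ncard_pair hne.symm]; norm_num) (Set.toFinite _)
  simp only [Set.mem_insert_iff, Set.mem_singleton_iff, not_or] at hlrs
  have hla : ¬ Commute l a := fun c => hra (U.two_all hL ha.1.1 (mem_line_right hsp) hl hlrs.2 hsa.symm c.symm
    r mem_line_left).symm
  have hlb : ¬ Commute l b := fun c => hsb (U.two_all hL hb.1.1 mem_line_left hl hlrs.1 hrb.symm c.symm
    s (mem_line_right hsp)).symm
  rcases hline r hr s hs hsp l hl with h | h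
  · exact ⟨l, h, hla, hlb⟩
  · exact absurd (h hrb.symm).symm hsb

theorem inter_trans {a b : G} (ha : a ∈ T) (hb : b ∈ T) : ∃ g ∈ closure T, g * a * g⁻¹ = b := by
  have step : ∀ {p q : G}, p ∈ T → q ∈ T → ¬ Commute p q → ∃ g ∈ closure T, g * p * g⁻¹ = q := fun {p q} hp hq h =>
    ⟨p * q, mul_mem (subset_closure hp) (subset_closure hq), mul_conj_eq U.tr hp.1.1 hq.1.1 h⟩
  by_cases h : Commute a b
  swap
  · exact step ha hb h
  obtain ⟨r, hr, hrn⟩ := U.exists_noncommute_inter hx hz hxz ha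
  obtain ⟨s, hs, hsn⟩ := U.exists_noncommute_inter hx hz hxz hb
  obtain ⟨d, hd, hda, hdb⟩ := join U hx hz hxz (A := T) subset_rfl
    (fun p hp q hq _ => by have := inter_closed U hx hz hxz hp hq; rwa [inv_eq U.tr hp.1.1] at this)
    (fun p hp q hq hpq l hl => Or.inl (inter_line U hx hz hxz hp hpq hq hl)) ha hb h
    ⟨r, hr, fun c => hrn c.symm⟩ ⟨s, hs, fun c => hsn c.symm⟩
  obtain ⟨g, hg, hga⟩ := step ha hd fun c => hda c.symm
  obtain ⟨k, hk, hkd⟩ := step hd hb hdb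
  exact ⟨k * g, mul_mem hk hg, by rw [← hkd, ← hga]; group⟩

theorem inter_ncard_perp {a b : G} (ha : a ∈ T) (hb : b ∈ T) :
    (perp T a).ncard = (perp T b).ncard := by
  obtain ⟨g, hg, rfl⟩ := inter_trans U hx hz hxz ha hb
  have hmem : ∀ k ∈ closure T, ∀ t, t ∈ T → k * t * k⁻¹ ∈ T := by
    intro k hk
    induction hk using closure_induction with
    | mem p hp => exact fun t ht => inter_closed U hx hz hxz hp ht
    | one => intro t ht; simpa using ht
    | mul p q _ _ hp hq =>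
      intro t ht
      rw [show p * q * t * (p * q)⁻¹ = p * (q * t * q⁻¹) * p⁻¹ by group]
      exact hp _ (hq t ht)
    | inv p _ hp =>
      intro t ht
      haveI : Finite ↥T := Set.toFinite _
      have hinj : Function.Injective (fun s : ↥T => (⟨p * s.1 * p⁻¹, hp _ s.2⟩ : ↥T)) := fun s s' h =>
        Subtype.ext (conj_image_injective p (congrArg Subtype.val h))
      obtain ⟨⟨s, hs⟩, hst⟩ := (Finite.injective_iff_surjective.1 hinj) ⟨t, ht⟩
      have hst' : p * s * p⁻¹ = t := congrArg Subtype.val hst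
      rw [← hst', show p⁻¹ * (p * s * p⁻¹) * p⁻¹⁻¹ = s by group]
      exact hs
  rw [← Set.ncard_image_of_injective _ (conj_image_injective g)]
  congr 1
  ext y
  constructor
  · rintro ⟨t, ⟨ht, hne, hc⟩, rfl⟩
    exact ⟨hmem g hg t ht, fun e => hne (conj_image_injective g e), (conj_commute_iff g a t).2 hc⟩
  · rintro ⟨hy, hne, hc⟩
    refine ⟨g⁻¹ * y * g, ⟨by simpa using hmem g⁻¹ (inv_mem hg) y hy, fun e => hne ?_, ?_⟩, by group⟩
    · rw [← e]; group
    · rw [← conj_commute_iff g, show g * (g⁻¹ * y * g) * g⁻¹ = y by group]; exact hc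

theorem inter_sep {p a : G} (hp : p ∈ T) (ha : a ∈ perp T p) : ∃ r ∈ T, Commute p r ∧ ¬ Commute a r := by
  by_contra hcon
  push Not at hcon
  have hpa : p ∈ perp T a := ⟨hp, ha.2.1.symm, ha.2.2.symm⟩
  have hsub : perp T p \ {a} ⊆ perp T a \ {p} := by
    rintro y ⟨⟨hy, hyp, hc⟩, hya⟩
    exact ⟨⟨hy, hya, hcon y hy hc⟩, hyp⟩
  have heq : perp T p \ {a} = perp T a \ {p} := Set.eq_of_subset_of_ncard_le hsub (by
    rw [Set.ncard_sdiff_singleton_of_mem ha, Set.ncard_sdiff_singleton_of_mem hpa,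
      inter_ncard_perp U hx hz hxz hp ha.1]) (Set.toFinite _)
  refine ha.2.1 (inter_twinfree U hx hz hxz hp ha.1 fun e he => ⟨hcon e he, fun h => ?_⟩).symm
  by_cases hep : e = p
  · exact hep ▸ Commute.refl _
  by_cases hea : e = a
  · exact hea ▸ ha.2.2
  have : e ∈ perp T a \ {p} := ⟨⟨he, hea, h⟩, hep⟩
  rw [← heq] at this
  exact this.1.2.2

theorem inter_edge {p a b : G} (hp : p ∈ T) (ha : a ∈ perp T p) (hb : b ∈ perp T p) :
    ∃ g ∈ closure (perp T p), g * a * g⁻¹ = b := by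
  have step : ∀ {q q' : G}, q ∈ perp T p → q' ∈ perp T p → ¬ Commute q q' →
      ∃ g ∈ closure (perp T p), g * q * g⁻¹ = q' := fun {q q'} hq hq' h =>
    ⟨q * q', mul_mem (subset_closure hq) (subset_closure hq'), mul_conj_eq U.tr hq.1.1.1 hq'.1.1.1 h⟩
  by_cases h : Commute a b
  swap
  · exact step ha hb h
  have sep : ∀ q ∈ perp T p, ∃ r ∈ perp T p, ¬ Commute r q := by
    intro q hq
    obtain ⟨r, hr, hpr, hqr⟩ := inter_sep U hx hz hxz hp hq
    exact ⟨r, ⟨hr, fun e => hqr (e ▸ hq.2.2.symm), hpr⟩, fun c => hqr c.symm⟩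
  obtain ⟨d, hd, hda, hdb⟩ := join U hx hz hxz (A := perp T p) (fun y hy => hy.1)
    (fun q hq q' hq' hn => ⟨by
        have := inter_closed U hx hz hxz hq.1 hq'.1
        rwa [inv_eq U.tr hq.1.1.1] at this,
      fun e => hn (by
        have hq2 := sq_eq_one U.tr hq.1.1.1
        have : q' = p := by
          rw [← invol_conj_conj hq2 q', e, ← hq.2.2.eq, mul_assoc, hq2, mul_one]
        exact this ▸ hq.2.2.symm),
      (hq.2.2.mul_right hq'.2.2).mul_right hq.2.2⟩)
    (fun q hq q' hq' hqq l hl => by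
      by_cases hlp : l = p
      · refine Or.inr fun hc => ?_
        subst hlp
        exact U.two_all (isLine_line hq.1.1.1 hqq) hb.1.1.1 mem_line_left hl (fun e => hq.2.1 e.symm) hc
          hb.2.2.symm q' (mem_line_right hqq)
      · refine Or.inl ⟨inter_line U hx hz hxz hq.1 hqq hq'.1 hl, hlp, ?_⟩
        exact U.two_all (isLine_line hq.1.1.1 hqq) hp.1.1 mem_line_left (mem_line_right hqq) hqq.2.1 hq.2.2 hq'.2.2 l hl)
    ha.1 hb.1 h (sep a ha) (sep b hb)
  obtain ⟨g, hg, hga⟩ := step ha hd fun c => hda c.symm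
  obtain ⟨k, hk, hkd⟩ := step hd hb hdb
  exact ⟨k * g, mul_mem hk hg, by rw [← hkd, ← hga]; group⟩

/-- The common neighbours with the centre of their group divided out. -/
theorem exists_quotient : ∃ (K : Type u) (_ : Group K) (_ : Finite K) (π : G → K),
    Set.InjOn π T ∧ (∀ p ∈ T, ∀ q ∈ T, Commute (π p) (π q) ↔ Commute p q) ∧
      (∀ p ∈ T, ∀ q ∈ T, π (p * q * p⁻¹) = π p * π q * (π p)⁻¹) ∧
      IsThreeTranspositionSet (π '' T) ∧ closure (π '' T) = ⊤ ∧
      (∀ k : K, (∀ d ∈ π '' T, Commute k d) → k = 1) ∧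
      (∀ A : Set G, A ⊆ T → ∀ g ∈ closure A, ∃ k ∈ closure (π '' A),
        ∀ q ∈ T, g * q * g⁻¹ ∈ T → π (g * q * g⁻¹) = k * π q * k⁻¹) := by
  classical
  set H := closure T with hH
  set q₀ := QuotientGroup.mk' (Subgroup.center H) with hq₀
  let π : G → H ⧸ Subgroup.center H := fun g => if hg : g ∈ H then q₀ ⟨g, hg⟩ else 1
  have hπ : ∀ g (hg : g ∈ H), π g = q₀ ⟨g, hg⟩ := fun g hg => dif_pos hg
  have hinj : Set.InjOn π T := by
    intro p hp q hq h
    rw [hπ p (subset_closure hp), hπ q (subset_closure hq), QuotientGroup.mk'_apply, QuotientGroup.mk'_apply,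
      QuotientGroup.eq] at h
    refine inter_twinfree U hx hz hxz hp hq fun e he => ?_
    have hc : Commute (p⁻¹ * q) e := (congrArg Subtype.val (mem_center_iff.1 h ⟨e, subset_closure he⟩)).symm
    constructor
    · intro c
      have := c.mul_left hc
      rwa [mul_inv_cancel_left] at this
    · intro c
      have := c.mul_left hc.inv_left
      rwa [show q * (p⁻¹ * q)⁻¹ = p by group] at this
  have hmem : ∀ p ∈ T, ∀ q ∈ T, π (p * q * p⁻¹) = π p * π q * (π p)⁻¹ := by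
    intro p hp q hq
    have hpH : p ∈ H := subset_closure hp
    have hqH : q ∈ H := subset_closure hq
    rw [hπ _ (mul_mem (mul_mem hpH hqH) (inv_mem hpH)), hπ p hpH, hπ q hqH, ← map_mul, ← map_inv, ← map_mul]
    rfl
  have hcomm : ∀ p ∈ T, ∀ q ∈ T, Commute (π p) (π q) ↔ Commute p q := by
    intro p hp q hq
    constructor
    · intro h
      have h1 := hmem p hp q hq
      rw [h.eq, mul_inv_cancel_right] at h1
      exact mul_inv_eq_iff_eq_mul.1 (hinj (inter_closed U hx hz hxz hp hq) hq h1)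
    · intro h
      rw [hπ p (subset_closure hp), hπ q (subset_closure hq)]
      exact (show Commute (⟨p, subset_closure hp⟩ : H) ⟨q, subset_closure hq⟩ from Subtype.ext h).map q₀
  have hgen : ∀ {A : Set G} (hA : A ⊆ T) g (hg : g ∈ closure A),
      q₀ ⟨g, closure_mono hA hg⟩ ∈ closure (π '' A) := by
    intro A hA g hg
    induction hg using closure_induction with
    | mem p hp => exact subset_closure ⟨p, hp, hπ p (subset_closure (hA hp))⟩
    | one => exact one_mem _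
    | mul p q hp hq ihp ihq =>
      rw [show (⟨p * q, _⟩ : H) = ⟨p, closure_mono hA hp⟩ * ⟨q, closure_mono hA hq⟩ from rfl, map_mul]
      exact mul_mem ihp ihq
    | inv p hp ihp =>
      rw [show (⟨p⁻¹, _⟩ : H) = ⟨p, closure_mono hA hp⟩⁻¹ from rfl, map_inv]
      exact inv_mem ihp
  have hq₀s : Function.Surjective q₀ := QuotientGroup.mk'_surjective _
  refine ⟨H ⧸ Subgroup.center H, inferInstance, inferInstance, π, hinj, hcomm, hmem, ⟨?_, ?_⟩, ?_, ?_, ?_⟩
  · rintro _ ⟨p, hp, rfl⟩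
    refine orderOf_eq_prime ?_ fun h1 => ?_
    · rw [hπ p (subset_closure hp), ← map_pow, show (⟨p, subset_closure hp⟩ : H) ^ 2 = 1 from
        Subtype.ext (by simp [sq, sq_eq_one U.tr hp.1.1]), map_one]
    · obtain ⟨r, hr, hpr⟩ := U.exists_noncommute_inter hx hz hxz hp
      exact hpr ((hcomm p hp r hr).1 (h1 ▸ Commute.one_left _))
  · rintro _ ⟨p, hp, rfl⟩ _ ⟨q, hq, rfl⟩
    rw [hπ p (subset_closure hp), hπ q (subset_closure hq), ← map_mul, ← map_pow, ← map_pow]
    rcases U.tr.2 p hp.1.1 q hq.1.1 with h | h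
    · left; rw [show ((⟨p, subset_closure hp⟩ : H) * ⟨q, subset_closure hq⟩) ^ 2 = 1 from Subtype.ext h, map_one]
    · right; rw [show ((⟨p, subset_closure hp⟩ : H) * ⟨q, subset_closure hq⟩) ^ 3 = 1 from Subtype.ext h, map_one]
  · rw [eq_top_iff]
    intro k _
    obtain ⟨⟨g, hg⟩, rfl⟩ := hq₀s k
    exact hgen subset_rfl g hg
  · intro k hk
    obtain ⟨⟨g, hg⟩, rfl⟩ := hq₀s k
    refine (QuotientGroup.eq_one_iff _).2 (mem_center_iff.2 fun h => ?_)
    suffices hle : closure T ≤ centralizer ({g} : Set G) from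
      Subtype.ext (mem_centralizer_singleton_iff.1 (hle h.2))
    rw [closure_le]
    intro p hp
    refine mem_centralizer_singleton_iff.2 ?_
    have h1 : q₀ ⟨g * p * g⁻¹, mul_mem (mul_mem hg (subset_closure hp)) (inv_mem hg)⟩ = π p := by
      rw [show (⟨g * p * g⁻¹, _⟩ : H) = ⟨g, hg⟩ * ⟨p, subset_closure hp⟩ * ⟨g, hg⟩⁻¹ from rfl, map_mul, map_mul,
        map_inv, ← hπ p (subset_closure hp), (hk _ ⟨p, hp, rfl⟩).eq, mul_inv_cancel_right]
    have hgp : g * p * g⁻¹ ∈ T := by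
      have h2 : ∀ k ∈ closure T, ∀ t ∈ perp S x ∩ perp S z, k * t * k⁻¹ ∈ perp S x ∩ perp S z := by
        intro k hk t ht
        have hkx : closure T ≤ centralizer ({x, z} : Set G) := (closure_le _).2 fun s hs =>
          mem_centralizer_iff.2 fun y hy => by
            rcases hy with rfl | rfl
            exacts [hs.1.2.2.eq, hs.2.2.2.eq]
        have cx : Commute k x := (mem_centralizer_iff.1 (hkx hk) x (by simp)).symm
        have cz : Commute k z := (mem_centralizer_iff.1 (hkx hk) z (by simp)).symm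
        have hkS : k ∈ closure S := closure_mono (fun y hy => hy.1.1) hk
        have a1 := (U.mem_perp_conj hkS (x := x) (y := t)).2 ht.1
        have a2 := (U.mem_perp_conj hkS (x := z) (y := t)).2 ht.2
        rw [CoreThree.conj_fix cx] at a1
        rw [CoreThree.conj_fix cz] at a2
        exact ⟨a1, a2⟩
      exact h2 g hg p hp
    rw [← hπ (g * p * g⁻¹)] at h1
    exact (mul_inv_eq_iff_eq_mul.1 (hinj hgp hp h1)).symm
  · intro A hA g hg
    refine ⟨_, hgen hA g hg, fun q hq hgq => ?_⟩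
    rw [hπ q (subset_closure hq), hπ _ (subset_closure hgq), ← map_inv, ← map_mul, ← map_mul]
    rfl

/-- The descended geometry. -/
theorem exists_descent (hpair : ∃ p ∈ T, ∃ q ∈ T, p ≠ q ∧ Commute p q) :
    ∃ (K : Type u) (_ : Group K) (_ : Finite K) (π : G → K),
      Set.InjOn π T ∧ (∀ p ∈ T, ∀ q ∈ T, Commute (π p) (π q) ↔ Commute p q) ∧
        (∀ p ∈ T, ∀ q ∈ T, π (p * q * p⁻¹) = π p * π q * (π p)⁻¹) ∧ Uni (π '' T) := by
  obtain ⟨K, iK, fK, π, hinj, hcomm, hmem, htr, htop, hcent, hgen⟩ := exists_quotient U hx hz hxz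
  refine ⟨K, iK, fK, π, hinj, hcomm, hmem, ?_⟩
  have hperp : ∀ p ∈ T, ∀ y, y ∈ perp (π '' T) (π p) → ∃ q ∈ perp T p, π q = y := by
    rintro p hp _ ⟨⟨q, hq, rfl⟩, hne, hc⟩
    exact ⟨q, ⟨hq, fun e => hne (e ▸ rfl), (hcomm p hp q hq).1 hc⟩, rfl⟩
  have hperp' : ∀ p ∈ T, ∀ q ∈ perp T p, π q ∈ perp (π '' T) (π p) := fun p hp q hq =>
    ⟨⟨q, hq.1, rfl⟩, fun e => hq.2.1 (hinj hq.1 hp e), (hcomm p hp q hq.1).2 hq.2.2⟩
  have hG : Geo (π '' T) := by
    refine ⟨htr, ?_, ?_, ?_, ?_, ?_⟩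
    · rintro _ ⟨p, hp, rfl⟩ _ ⟨q, hq, rfl⟩
      exact ⟨_, inter_closed U hx hz hxz hp hq, hmem p hp q hq⟩
    · rintro _ ⟨p, hp, rfl⟩ _ ⟨q, hq, rfl⟩
      obtain ⟨g, hg, rfl⟩ := inter_trans U hx hz hxz hp hq
      obtain ⟨k, hk, hkq⟩ := hgen T subset_rfl g hg
      exact ⟨k, hk, (hkq p hp hq).symm⟩
    · rintro _ ⟨p, hp, rfl⟩ y hy y' hy'
      obtain ⟨a, ha, rfl⟩ := hperp p hp y hy
      obtain ⟨b, hb, rfl⟩ := hperp p hp y' hy'
      obtain ⟨g, hg, rfl⟩ := inter_edge U hx hz hxz hp ha hb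
      obtain ⟨k, hk, hkq⟩ := hgen (perp T p) (fun y hy => hy.1) g hg
      refine ⟨k, closure_mono ?_ hk, (hkq a ha.1 hb.1).symm⟩
      rintro _ ⟨q, hq, rfl⟩
      exact hperp' p hp q hq
    · rintro _ ⟨p, hp, rfl⟩ _ ⟨q, hq, rfl⟩ h
      refine congrArg π (inter_twinfree U hx hz hxz hp hq fun e he => ?_)
      rw [← hcomm p hp e he, ← hcomm q hq e he]
      exact h _ ⟨e, he, rfl⟩
    · obtain ⟨p, hp, q, hq, hne, hc⟩ := hpair
      have hqp : q ∈ perp S p := ⟨hq.1.1, hne.symm, hc⟩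
      obtain ⟨b, hb, hbq⟩ := Set.exists_ne_of_one_lt_ncard (s := cls S p q)
        (by rw [U.wid p hp.1.1 q hqp]; norm_num) q
      have hbT : b ∈ T := inter_line U hx hz hxz hp hqp hq (Or.inr hb)
      have hb' : b ∈ perp T p := ⟨hbT, hb.1.2.1, hb.1.2.2⟩
      refine ⟨π p, ⟨p, hp, rfl⟩, π q, hperp' p hp q ⟨hq, hne.symm, hc⟩, π b, ⟨hperp' p hp b hb', fun y hy => ?_⟩,
        fun e => hbq (hinj hbT hq e)⟩
      obtain ⟨e, he, rfl⟩ := hperp p hp y hy
      rw [hcomm q hq e he.1, hcomm b hbT e he.1]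
      exact hb.2 e ⟨he.1.1.1, he.2.1, he.2.2⟩
  refine ⟨hG, ?_, htop, hcent⟩
  rintro _ ⟨p, hp, rfl⟩ y hy
  obtain ⟨q, hq, rfl⟩ := hperp p hp y hy
  refine (hG.two_or_four ⟨p, hp, rfl⟩ hy).resolve_left fun h2 => ?_
  have hqp : q ∈ perp S p := ⟨hq.1.1.1, hq.2.1, hq.2.2⟩
  have hbT : ∀ b ∈ cls S p q, b ∈ T := fun b hb => inter_line U hx hz hxz hp hqp hq.1 (Or.inr hb)
  have hle : (π '' cls S p q).ncard ≤ (cls (π '' T) (π p) (π q)).ncard := by
    refine Set.ncard_le_ncard ?_ (Set.toFinite _)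
    rintro _ ⟨b, hb, rfl⟩
    refine ⟨hperp' p hp b ⟨hbT b hb, hb.1.2.1, hb.1.2.2⟩, fun y hy => ?_⟩
    obtain ⟨e, he, rfl⟩ := hperp p hp y hy
    rw [hcomm q hq.1 e he.1, hcomm b (hbT b hb) e he.1]
    exact hb.2 e ⟨he.1.1.1, he.2.1, he.2.2⟩
  rw [Set.ncard_image_of_injOn (fun b hb b' hb' e => hinj (hbT b hb) (hbT b' hb') e), U.wid p hp.1.1 q hqp, h2] at hle
  omega

end

end Cfsg.Lib.ThreeTr.TwoCorePerp.Unitary
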