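import Cfsg.Agent.ThreeTransposition.TwoCorePerp.Unitary.Relations

/-!
The translations act regularly on the affine points and on the members not commuting with `x`, which extends
the coordinates to the whole set.
-/

set_option autoImplicit false
set_option linter.unusedSectionVars false
set_option linter.style.haveILetI false

namespace Cfsg.Lib.ThreeTr.TwoCorePerp.Unitary

open Cfsg Subgroup Cfsg.Lib.ThreeTr Cfsg.Lib.Classical Cfsg.Lib.TTUnitary
open Cfsg.Lib.ThreeTr.SolvablePerp (cls perp_symm self_mem_cls)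
open Cfsg.Lib.ThreeTr.SolvablePerp.Model (HS four)
open Cfsg.Lib.PrimeGraph (KQuad)

universe u

variable {G : Type u} [Group G] [Finite G] {S : Set G} {x z : G} {m : ℕ} {c e : Vec m → G}
  (F : Frame S x z m c) (L : Label S x z m c e)
include F L

theorem translation_inj {g k : G × (HS (m + 2)).SIsom} (hg : g ∈ Eg x c e) (hk : k ∈ Eg x c e)
    (h : g.2.1.1 (vv m) = k.2.1.1 (vv m)) : g = k := by
  classical
  haveI := finite_sisom (m + 2)
  choose A hA using fun g : Eg x c e => exists_affine F L g.2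
  have hsurj : Function.Surjective A := fun q => by
    obtain ⟨g, hg, hgq⟩ := exists_translation F L q
    refine ⟨⟨g, hg⟩, Subtype.ext ?_⟩
    obtain ⟨e1, -, e2⟩ := pt_inj ((hA ⟨g, hg⟩).symm.trans hgq)
    exact Prod.ext e1 e2
  have hbij := hsurj.bijective_of_nat_card_le ((card_translations F L).trans_eq card_apt.symm)
  have hAgk : A ⟨g, hg⟩ = A ⟨k, hk⟩ := by
    obtain ⟨e1, -, e2⟩ := pt_inj (((hA ⟨g, hg⟩).symm.trans h).trans (hA ⟨k, hk⟩))
    exact Subtype.ext (Prod.ext e1 e2)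
  exact congrArg Subtype.val (hbij.1 hAgk)

theorem image_inj {g k : G × (HS (m + 2)).SIsom} (hg : g ∈ Eg x c e) (hk : k ∈ Eg x c e)
    (h : g.1 * z * g.1⁻¹ = k.1 * z * k.1⁻¹) : g = k := by
  classical
  haveI := finite_sisom (m + 2)
  let A : Eg x c e → Off S x := fun g => ⟨g.1.1 * z * g.1.1⁻¹, image_off F L g.2⟩
  have hsurj : Function.Surjective A := fun y => by
    obtain ⟨g, hg, hy⟩ := (off_orbit F L).1 y.1 y.2
    exact ⟨⟨g, hg⟩, Subtype.ext hy.symm⟩
  have hbij := hsurj.bijective_of_nat_card_le ((card_translations F L).trans_eq (by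
    rw [Nat.card_coe_set_eq, ncard_off F L]))
  exact congrArg Subtype.val (hbij.1 (a₁ := ⟨g, hg⟩) (a₂ := ⟨k, hk⟩) (Subtype.ext h))

/-- A translation moves `z` to a member commuting with it exactly when it moves the second vector to a
vector orthogonal to it. -/
theorem commute_image_z {g : G × (HS (m + 2)).SIsom} (hg : g ∈ Eg x c e) {a : KQuad} {w : Vec m}
    (he : g.2.1.1 (vv m) = pt m a 1 w) : Commute (g.1 * z * g.1⁻¹) z ↔ a = 0 := by
  have hE := F.uni.tr
  have hxx := sq_eq_one hE F.hx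
  have hzz := sq_eq_one hE F.hz
  have hbr : x * z * x = z * x * z := braid hE F.hx F.hz F.hxz
  -- the translations over an isotropic remainder and zero
  have hT : ∀ r, Iso m r → (Xp x c e * Tr x c e r).2.1.1 (vv m) = pt m 0 1 r ∧
      (Xp x c e * Tr x c e r).1 * z * (Xp x c e * Tr x c e r).1⁻¹ = x * (e r * z * e r) * x := by
    intro r hr
    constructor
    · show ((Xp x c e).2 * (Tr x c e r).2).1.1 _ = _
      rw [(HS (m + 2)).smul_mul_apply, vv, tr_apply F L hr, xp_apply F L, (HS m).zero_left, one_smul, zero_add,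
        zero_add, zero_add, kadd_self]
    · rw [xp_image F L]
      congr 2
      show phi x c e 0 r * phi x c e 1 r * z * (phi x c e 0 r * phi x c e 1 r)⁻¹ = _
      rw [phi_zero, phi_one hr, mul_inv_rev, inv_eq hE (F.mem r hr).1.1, inv_eq hE (L.mem r hr).1.1.1,
        show c r * e r * z * (e r * c r) = c r * (e r * z * e r) * c r by simp only [mul_assoc]]
      have hce : Commute (c r) (e r) := ((e_comm_c F L hr hr).2 hr.2).symm
      have hcz : Commute (c r) z := (F.mem r hr).2.2.2.symm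
      rw [((hce.mul_right hcz).mul_right hce).eq, mul_assoc, sq_eq_one hE (F.mem r hr).1.1, mul_one]
  constructor
  · intro hc
    obtain ⟨hyS, hxy⟩ := image_off F L hg
    by_cases hyz : g.1 * z * g.1⁻¹ = z
    · have := image_inj F L hg (one_mem _) (by simpa using hyz)
      subst this
      exact ((pt_inj (show pt m 0 1 0 = pt m a 1 w from he)).1).symm
    set y := g.1 * z * g.1⁻¹
    have hy : y ∈ perp S z := ⟨hyS, hyz, hc.symm⟩
    set z' := x * z * x
    have hz'S : z' ∈ S := F.uni.invol_mem F.hx F.hz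
    have hz'z : z' * z * z'⁻¹ = x := by
      rw [inv_eq hE hz'S]
      calc z' * z * z' = (x * z * x) * z * (z * x * z) := by conv_rhs => rw [← hbr]
        _ = x * z * (x * (z * z) * x) * z := by simp only [mul_assoc]
        _ = x := by rw [hzz, mul_one, hxx, mul_one, mul_assoc, hzz, mul_one]
    have hb := (F.uni.mem_perp_conj (subset_closure hz'S) (x := z) (y := y)).2 hy
    rw [hz'z, inv_eq hE hz'S] at hb
    obtain ⟨a₁, w₁, hfl, hφ⟩ := phi_surj F L (Or.inr hb)
    rcases hfl.cases x c e with ⟨-, hw, e1⟩ | ⟨-, -, e1⟩ | ⟨-, r, hr, -, e1⟩ <;> rw [e1] at hφ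
    · exfalso
      have hT' := F.mem w₁ hw
      have hcz' : Commute (c w₁) z' := (hT'.1.2.2.symm.mul_right hT'.2.2.2.symm).mul_right hT'.1.2.2.symm
      have hyT : y = c w₁ := by
        rw [← invol_conj_conj (sq_eq_one hE hz'S) y, ← hφ, ← hcz'.eq, mul_assoc, sq_eq_one hE hz'S, mul_one]
      exact hxy (hyT ▸ hT'.1.2.2)
    · exact absurd hφ.symm hb.2.1
    · have hy' : y = x * (e r * z * e r) * x := by
        have hxa : Commute x (e r) := (L.mem r hr).1.1.2.2
        have naz : ¬ Commute (e r) z := fun h0 => one_ne_zero ((commute_z F L (flat_of_iso hr 1)).1 (by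
          rwa [phi_one hr]))
        rw [← invol_conj_conj (sq_eq_one hE hz'S) y, ← hφ, braid hE (L.mem r hr).1.1.1 F.hz naz]
        calc x * z * x * e r * (x * z * x) = x * z * (x * e r * x) * z * x := by simp only [mul_assoc]
          _ = _ := by rw [hxa.eq, mul_assoc (e r), hxx, mul_one]; simp only [mul_assoc]
      have := image_inj F L hg (mul_mem xp_mem (tr_mem' hr)) (hy'.trans (hT r hr).2.symm)
      rw [this, (hT r hr).1] at he
      exact ((pt_inj he).1).symm
  · rintro rfl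
    have hw : (HS m).h w w = 0 := by
      have := (HS (m + 2)).map_form g.2 (vv m) (vv m)
      rw [he, vv_iso, h_pt] at this
      simpa using this
    by_cases h0 : w = 0
    · subst h0
      have := translation_inj F L hg (one_mem _) he
      subst this
      simp
    have hr : Iso m w := ⟨h0, hw⟩
    rw [translation_inj F L hg (mul_mem xp_mem (tr_mem' hr)) (he.trans (hT w hr).1.symm), (hT w hr).2]
    set b := e w
    have hxb : Commute x b := (L.mem w hr).1.1.2.2
    have nbz : ¬ Commute b z := fun h0 => one_ne_zero ((commute_z F L (flat_of_iso hr 1)).1 (by rwa [phi_one hr]))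
    rw [braid hE (L.mem w hr).1.1.1 F.hz nbz]
    have h1 : Commute (z * b * z) (z * x * z) := by
      have := (conj_commute_iff z b x).2 hxb.symm
      rwa [inv_eq hE F.hz] at this
    rw [← hbr] at h1
    have h2 := (conj_commute_iff x _ _).2 h1
    rwa [inv_eq hE F.hx, invol_conj_conj hxx] at h2

/-- Coordinates on the neighbours extend to the whole set. -/
theorem exists_coord : ∃ f : Vec (m + 2) → G, Coord S (m + 2) f := by
  classical
  choose γ hγ hγv using exists_translation F L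
  let f : Vec (m + 2) → G := fun p =>
    if cb p = 0 then phi x c e (ca p) (cw p)
    else if h : ((cb p)⁻¹ * ca p) + ((cb p)⁻¹ * ca p) * ((cb p)⁻¹ * ca p) =
        (HS m).h ((cb p)⁻¹ • cw p) ((cb p)⁻¹ • cw p) then
      (γ ⟨((cb p)⁻¹ * ca p, (cb p)⁻¹ • cw p), h⟩).1 * z * (γ ⟨((cb p)⁻¹ * ca p, (cb p)⁻¹ • cw p), h⟩).1⁻¹
    else 1
  have hflat : ∀ a w, Iso (m + 2) (pt m a 0 w) → Flat m a w := by
    intro a w h
    refine ⟨?_, ?_⟩
    · by_contra hn
      push Not at hn
      exact h.1 (pt_eq_zero.2 ⟨hn.1, rfl, hn.2⟩)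
    · have := h.2
      rw [h_pt] at this
      simpa using this
  have f0 : ∀ a w, f (pt m a 0 w) = phi x c e a w := fun a w => by
    obtain ⟨e1, e2, e3⟩ := coords_pt a 0 w
    simp only [f, e1, e2, e3, if_true]
  have f1 : ∀ a b w, b ≠ 0 → Iso (m + 2) (pt m a b w) →
      ∃ g ∈ Eg x c e, g.2.1.1 (vv m) = b⁻¹ • pt m a b w ∧ f (pt m a b w) = g.1 * z * g.1⁻¹ := by
    intro a b w hb hi
    obtain ⟨e1, e2, e3⟩ := coords_pt a b w
    have hi' := (hi.smul (inv_ne_zero hb)).2
    rw [pt_smul, inv_mul_cancel₀ hb] at hi'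
    have hq := (apt_iff (b⁻¹ * a, b⁻¹ • w)).1 hi'
    refine ⟨_, hγ ⟨(b⁻¹ * a, b⁻¹ • w), hq⟩, ?_, ?_⟩
    · refine (hγv ⟨(b⁻¹ * a, b⁻¹ • w), hq⟩).trans ?_
      rw [pt_smul, inv_mul_cancel₀ hb]
    · simp only [f, e1, e2, e3, if_neg hb, dif_pos hq]
  have hsc : ∀ {k : KQuad} {p q : Vec (m + 2)}, k ≠ 0 →
      ((HS (m + 2)).h p (k • q) = 0 ↔ (HS (m + 2)).h p q = 0) := fun {k p q} hk => by
    rw [(HS (m + 2)).smul_right, conj_eq, mul_eq_zero]
    exact or_iff_right (mul_ne_zero hk hk)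
  have hoff : ∀ a b w, b ≠ 0 → Iso (m + 2) (pt m a b w) → f (pt m a b w) ∈ Off S x := fun a b w hb hi => by
    obtain ⟨g, hg, -, hf⟩ := f1 a b w hb hi
    exact hf ▸ image_off F L hg
  have hon : ∀ a w, Iso (m + 2) (pt m a 0 w) → f (pt m a 0 w) ∉ Off S x := fun a w hi h => by
    rw [f0] at h
    rcases phi_mem F L (hflat a w hi) with h' | h'
    · exact h.2 (h'.symm ▸ Commute.refl x)
    · exact h.2 h'.2.2
  refine ⟨f, by have := F.dim; omega, fun v hv => ?_, fun d hd => ?_, fun v w hv hw => ?_, fun v k hv hk => ?_,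
    fun v w hv hw h => ?_⟩
  · obtain ⟨a, b, w, rfl⟩ := pt_surj v
    by_cases hb : b = 0
    · subst hb; rw [f0]; exact phi_mem_S F L (hflat a w hv)
    · exact (hoff a b w hb hv).1
  · by_cases hxd : Commute x d
    · have hmem : d ∈ insert x (perp S x) := by
        by_cases hdx : d = x
        · exact Or.inl hdx
        · exact Or.inr ⟨hd, hdx, hxd⟩
      obtain ⟨a, w, hf, rfl⟩ := phi_surj F L hmem
      exact ⟨_, hf.iso, f0 a w⟩
    obtain ⟨g, hg, rfl⟩ := (off_orbit F L).1 d ⟨hd, hxd⟩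
    obtain ⟨q, hq⟩ := exists_affine F L hg
    obtain ⟨k, hk, hkv, hkf⟩ := f1 q.1.1 1 q.1.2 one_ne_zero (iso_apt q)
    refine ⟨_, iso_apt q, hkf.trans ?_⟩
    rw [translation_inj F L hk hg (by rw [hkv, hq, inv_one, one_smul])]
  · obtain ⟨a, b, p, rfl⟩ := pt_surj v
    obtain ⟨a', b', p', rfl⟩ := pt_surj w
    by_cases hb : b = 0
    · subst hb
      by_cases hb' : b' = 0
      · subst hb'
        rw [f0, f0, phi_comm F L (hflat a p hv) (hflat a' p' hw), h_pt]
        simp
      · obtain ⟨g, hg, hgv, hf⟩ := f1 a' b' p' hb' hw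
        rw [f0, hf, commute_image F L hg (hflat a p hv), hgv]
        exact hsc (inv_ne_zero hb')
    obtain ⟨g, hg, hgv, hf⟩ := f1 a b p hb hv
    by_cases hb' : b' = 0
    · subst hb'
      rw [f0, hf]
      refine ⟨fun hc => ?_, fun h0 => ?_⟩
      · have := (commute_image F L hg (hflat a' p' hw)).1 hc.symm
        rw [hgv] at this
        exact h_swap ((hsc (inv_ne_zero hb)).1 this)
      · exact ((commute_image F L hg (hflat a' p' hw)).2 (by
          rw [hgv]; exact (hsc (inv_ne_zero hb)).2 (h_swap h0))).symm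
    obtain ⟨k, hk, hkv, hf'⟩ := f1 a' b' p' hb' hw
    have hmem : k⁻¹ * g ∈ Eg x c e := mul_mem (inv_mem hk) hg
    obtain ⟨q, hq⟩ := exists_affine F L hmem
    have e1 : (k⁻¹ * g).1 * z * (k⁻¹ * g).1⁻¹ = k.1⁻¹ * (g.1 * z * g.1⁻¹) * k.1 := by
      rw [Prod.fst_mul, Prod.fst_inv]; group
    have e2 : (HS (m + 2)).h (g.2.1.1 (vv m)) (k.2.1.1 (vv m)) = q.1.1 := by
      have hkq : k.2.1.1 ((k⁻¹ * g).2.1.1 (vv m)) = g.2.1.1 (vv m) := by
        rw [← (HS (m + 2)).smul_mul_apply, ← Prod.snd_mul, mul_inv_cancel_left]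
      rw [← hkq, (HS (m + 2)).map_form, hq, vv, h_pt, (HS m).zero_right]
      simp
    have key := commute_image_z F L hmem hq
    rw [e1] at key
    have key' : Commute (g.1 * z * g.1⁻¹) (k.1 * z * k.1⁻¹) ↔ q.1.1 = 0 := by
      rw [← key, ← conj_commute_iff k.1⁻¹ (g.1 * z * g.1⁻¹) (k.1 * z * k.1⁻¹), inv_inv,
        show k.1⁻¹ * (k.1 * z * k.1⁻¹) * k.1 = z by group]
    rw [hf, hf', key', ← e2, hgv, hkv, hsc (inv_ne_zero hb'), (HS (m + 2)).smul_left, mul_eq_zero]
    exact or_iff_right (inv_ne_zero hb)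
  · obtain ⟨a, b, p, rfl⟩ := pt_surj v
    have hkv := hv.smul hk
    rw [pt_smul] at hkv ⊢
    by_cases hb : b = 0
    · subst hb
      rw [mul_zero] at hkv ⊢
      rw [f0, f0, phi_smul F L (hflat a p hv) hk]
    · obtain ⟨g, hg, hgv, hf⟩ := f1 a b p hb hv
      obtain ⟨g', hg', hgv', hf'⟩ := f1 _ _ _ (mul_ne_zero hk hb) hkv
      rw [hf, hf', translation_inj F L hg' hg ?_]
      rw [hgv, hgv', pt_smul, pt_smul, inv_mul_cancel₀ hb, inv_mul_cancel₀ (mul_ne_zero hk hb), smul_smul,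
        mul_inv_rev, mul_assoc b⁻¹, ← mul_assoc k⁻¹, inv_mul_cancel₀ hk, one_mul, mul_assoc b⁻¹,
        inv_mul_cancel₀ hk, mul_one]
  · obtain ⟨a, b, p, rfl⟩ := pt_surj v
    obtain ⟨a', b', p', rfl⟩ := pt_surj w
    by_cases hb : b = 0
    · subst hb
      by_cases hb' : b' = 0
      · subst hb'
        rw [f0, f0] at h
        obtain ⟨k, hk, rfl, rfl⟩ := phi_inj F L (hflat a p hv) (hflat a' p' hw) h
        exact ⟨k, hk, by rw [pt_smul, mul_zero]⟩
      · exact absurd (h ▸ hoff a' b' p' hb' hw) (hon a p hv)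
    by_cases hb' : b' = 0
    · subst hb'
      exact absurd (h ▸ hoff a b p hb hv) (hon a' p' hw)
    obtain ⟨g, hg, hgv, hf⟩ := f1 a b p hb hv
    obtain ⟨g', hg', hgv', hf'⟩ := f1 a' b' p' hb' hw
    rw [image_inj F L hg hg' (hf.symm.trans (h.trans hf')), hgv'] at hgv
    refine ⟨b' * b⁻¹, mul_ne_zero hb' (inv_ne_zero hb), ?_⟩
    rw [← smul_smul, ← hgv, smul_smul, mul_inv_cancel₀ hb', one_smul]

end Cfsg.Lib.ThreeTr.TwoCorePerp.Unitary
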