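import Cfsg.Agent.ThreeTransposition.TwoCorePerp.Unitary.Potential

/-!
The three other members of the class of a common neighbour form a fibre; transports along noncommuting pairs
turn into translations of the integers modulo three after a choice of orientation.
-/

set_option autoImplicit false
set_option linter.unusedSectionVars false
set_option linter.style.haveILetI false

namespace Cfsg.Lib.ThreeTr.TwoCorePerp.Unitary

open Cfsg Subgroup Cfsg.Lib.ThreeTr
open Cfsg.Lib.ThreeTr.SolvablePerp (cls perp_symm self_mem_cls)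

universe u

variable {G : Type u} [Group G] {S : Set G} {x z : G} {m : ℕ} {c : Vec m → G}

/-- The fibre over a common neighbour. -/
def Cl (S : Set G) (x t : G) : Set G := cls S x t \ {t}

/-- The transport along a pair. -/
def tr (p q a : G) : G := p * q * a * (p * q)⁻¹

variable [Finite G]

theorem cl_comm (F : Frame S x z m c) {t a q : G} (ha : a ∈ Cl S x t) (hq : q ∈ perp S x) :
    Commute a q ↔ Commute t q := (ha.1.2 q hq).symm

theorem ncard_cl (F : Frame S x z m c) {t : G} (ht : t ∈ perp S x ∩ perp S z) : (Cl S x t).ncard = 3 := by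
  rw [Cl, Set.ncard_sdiff_singleton_of_mem (self_mem_cls ht.1), F.uni.wid x F.hx t ht.1]

theorem cl_not_inter (F : Frame S x z m c) {t a : G} (ht : t ∈ perp S x ∩ perp S z) (ha : a ∈ Cl S x t) :
    a ∉ perp S x ∩ perp S z := fun h => ha.2 (F.uni.eq_of_cls F.hx F.hz F.hxz h ht ha.1)

theorem cl_disjoint (F : Frame S x z m c) {t t' a : G} (ht : t ∈ perp S x ∩ perp S z)
    (ht' : t' ∈ perp S x ∩ perp S z) (ha : a ∈ Cl S x t) (ha' : a ∈ Cl S x t') : t = t' := by
  refine F.uni.eq_of_cls F.hx F.hz F.hxz ht ht' ?_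
  rw [← cls_eq_cls ha'.1]
  exact mem_cls_symm ha.1 ht.1

theorem conj_cl (F : Frame S x z m c) {g : G} (hg : g ∈ closure (perp S x ∩ perp S z)) {t a : G}
    (ha : a ∈ Cl S x t) : g * a * g⁻¹ ∈ Cl S x (g * t * g⁻¹) := by
  have hgS : g ∈ closure S := closure_mono (fun y hy => hy.1.1) hg
  have hgx : Commute g x := closure_perp_commute (closure_mono (fun y hy => hy.1) hg)
  have e := F.uni.cls_image hgS x t
  rw [CoreThree.conj_fix hgx] at e
  exact ⟨e ▸ ⟨a, ha.1, rfl⟩, fun h => ha.2 (mul_left_cancel (mul_right_cancel h))⟩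

theorem tr_mem (F : Frame S x z m c) {p q a : G} (h : Adj S x z p q) (ha : a ∈ Cl S x p) :
    tr p q a ∈ Cl S x q := by
  have := conj_cl F (mul_mem (subset_closure h.1) (subset_closure h.2.1)) ha
  rwa [mul_conj_eq F.uni.tr h.1.1.1 h.2.1.1.1 h.2.2] at this

theorem tr_tr (F : Frame S x z m c) {p q : G} (h : Adj S x z p q) (a : G) : tr q p (tr p q a) = a := by
  have e : q * p * (p * q) = 1 := by
    rw [mul_assoc, ← mul_assoc p p q, sq_eq_one F.uni.tr h.1.1.1, one_mul, sq_eq_one F.uni.tr h.2.1.1.1]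
  unfold tr
  rw [show q * p * (p * q * a * (p * q)⁻¹) * (q * p)⁻¹ = (q * p * (p * q)) * a * (q * p * (p * q))⁻¹ by group, e]
  simp

/-- Round a triangle. -/
theorem loop_eq {p q r : G} (a : G) :
    tr r p (tr q r (tr p q a)) = (r * p * (q * r) * (p * q)) * a * (r * p * (q * r) * (p * q))⁻¹ := by
  unfold tr; group

/-- Going round a triangle with a commuting third member fixes the fibre. -/
theorem loop_degenerate (F : Frame S x z m c) {p q r a : G} (h1 : Adj S x z p q) (h2 : Adj S x z q r)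
    (h3 : Adj S x z r p) (hd : Commute p (q * r * q)) (ha : a ∈ Cl S x p) :
    tr r p (tr q r (tr p q a)) = a := by
  have hE := F.uni.tr
  have hq2 := sq_eq_one hE h2.1.1.1
  have hr2 := sq_eq_one hE h3.1.1.1
  have e : r * p * (q * r) * (p * q) = q * r * q * p := by
    calc r * p * (q * r) * (p * q) = r * (p * (q * r * q)) * (q * p * q) := by
          simp only [mul_assoc]
          rw [← mul_assoc q q, hq2, one_mul]
      _ = r * ((q * r * q) * p) * (p * q * p) := by rw [hd.eq, ← braid hE h1.1.1.1 h1.2.1.1.1 h1.2.2]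
      _ = r * (r * q * r) * (q * p) := by
          rw [braid hE h2.1.1.1 h2.2.1.1.1 h2.2.2]
          simp only [mul_assoc]
          rw [← mul_assoc p p, sq_eq_one hE h1.1.1.1, one_mul]
      _ = q * r * q * p := by
          simp only [mul_assoc]
          rw [← mul_assoc r r, hr2, one_mul]
  rw [loop_eq, e]
  refine CoreThree.conj_fix ?_
  have hap : Commute a p := (cl_comm F ha h1.1.1).2 (Commute.refl p)
  have had : Commute a (q * r * q) := (cl_comm F ha (F.mem_conj h2.1 h2.2.1).1).2 hd
  exact had.symm.mul_left hap.symm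

/-- Going round another triangle three times is trivial. -/
theorem loop_cube (F : Frame S x z m c) {p q r : G} (h1 : Adj S x z p q) (h2 : Adj S x z q r)
    (h3 : Adj S x z r p) (hd : ¬ Commute p (q * r * q)) (a : G) :
    (fun b => tr r p (tr q r (tr p q b)))^[3] a = a := by
  have hE := F.uni.tr
  have pS := h1.1.1.1
  have qS := h2.1.1.1
  have rS := h3.1.1.1
  set g := r * p * (q * r) * (p * q) with hg
  set A := r * p * r * q with hA
  set B := r * (p * q * p) with hB
  have hAB : A * B = g := by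
    calc A * B = r * p * (r * q * r) * (p * q * p) := by simp only [hA, hB, mul_assoc]
      _ = r * p * (q * r * q) * (p * q * p) := by rw [braid hE qS rS h2.2.2]
      _ = r * p * q * r * (q * p * q) * p := by simp only [mul_assoc]
      _ = r * p * q * r * (p * q * p) * p := by rw [← braid hE pS qS h1.2.2]
      _ = g := by
          simp only [hg, mul_assoc]
          rw [sq_eq_one hE pS, mul_one]
  have hBA : B * A = g := by
    calc B * A = r * p * q * (p * r * p) * r * q := by simp only [hA, hB, mul_assoc]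
      _ = r * p * q * (r * p * r) * r * q := by rw [braid hE rS pS h3.2.2]
      _ = g := by
          simp only [hg, mul_assoc]
          rw [← mul_assoc r r, sq_eq_one hE rS, one_mul]
  have hn1 : ¬ Commute (r * p * r) q := fun c' => hd (by
    have := (conj_commute_iff r (r * p * r) q).2 c'
    rw [inv_eq hE rS, invol_conj_conj (sq_eq_one hE rS)] at this
    rwa [braid hE qS rS h2.2.2])
  have hn2 : ¬ Commute r (p * q * p) := fun c' => hn1 (by
    have := (conj_commute_iff p r (p * q * p)).2 c'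
    rw [inv_eq hE pS, invol_conj_conj (sq_eq_one hE pS), ← braid hE rS pS h3.2.2] at this
    exact this)
  have hA3 : A ^ 3 = 1 := cube_of_not_commute hE (F.mem_conj h3.1 h1.1).1.1 qS hn1
  have hB3 : B ^ 3 = 1 := cube_of_not_commute hE rS (F.mem_conj h1.1 h2.1).1.1 hn2
  have hg3 : g ^ 3 = 1 := by
    rw [← hAB, (show Commute A B from hAB.trans hBA.symm).mul_pow, hA3, hB3, mul_one]
  simp only [Function.iterate_succ, Function.iterate_zero, Function.comp_apply, id_eq, loop_eq]
  rw [← hg, show g * (g * (g * a * g⁻¹) * g⁻¹) * g⁻¹ = g ^ 3 * a * (g ^ 3)⁻¹ by simp [pow_succ, mul_assoc], hg3]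
  simp

theorem affine_three (f : ZMod 3 → ZMod 3) (h : Function.Injective f) :
    ∀ i, f i = (f 1 - f 0) * i + f 0 := by
  revert f; decide

theorem slope_cube : ∀ e b : ZMod 3, (∀ i : ZMod 3, e * (e * (e * i + b) + b) + b = i) → e = 1 := by decide

/-- Labels on the fibres under which all transports are translations. -/
theorem exists_oriented (F : Frame S x z m c) : ∃ (ν : G → G → ZMod 3) (b : G → G → ZMod 3),
    (∀ t ∈ perp S x ∩ perp S z, Set.InjOn (ν t) (Cl S x t) ∧ ∀ i, ∃ a ∈ Cl S x t, ν t a = i) ∧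
      (∀ p q, Adj S x z p q → ∀ a ∈ Cl S x p, ν q (tr p q a) = ν p a + b p q) := by
  classical
  haveI : Nonempty G := ⟨1⟩
  have hexν : ∀ t ∈ perp S x ∩ perp S z, ∃ f : G → ZMod 3,
      Set.InjOn f (Cl S x t) ∧ ∀ i, ∃ a ∈ Cl S x t, f a = i := by
    intro t ht
    have hcard : Nat.card ↥(Cl S x t) = Nat.card (ZMod 3) := by
      rw [Nat.card_coe_set_eq, ncard_cl F ht, Nat.card_zmod]
    obtain ⟨e⟩ : Nonempty (↥(Cl S x t) ≃ ZMod 3) := ⟨(Finite.card_eq.1 hcard).some⟩
    refine ⟨fun a => if h : a ∈ Cl S x t then e ⟨a, h⟩ else 0, fun a ha a' ha' h => ?_, fun i => ?_⟩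
    · simp only [dif_pos ha, dif_pos ha'] at h
      exact congrArg Subtype.val (e.injective h)
    · exact ⟨_, (e.symm i).2, by simp⟩
  choose! ν₀ hν₀ using hexν
  set π : G → G → ZMod 3 → ZMod 3 := fun p q i => ν₀ q (tr p q (Function.invFunOn (ν₀ p) (Cl S x p) i)) with hπ
  have hval : ∀ p q, Adj S x z p q → ∀ a ∈ Cl S x p, ν₀ q (tr p q a) = π p q (ν₀ p a) := by
    intro p q h a ha
    have hex : ∃ a' ∈ Cl S x p, ν₀ p a' = ν₀ p a := ⟨a, ha, rfl⟩
    rw [hπ]
    simp only
    rw [(hν₀ p h.1).1 (Function.invFunOn_mem hex) ha (Function.invFunOn_eq hex)]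
  have hinj : ∀ p q, Adj S x z p q → Function.Injective (π p q) := by
    intro p q h i j hij
    obtain ⟨a, ha, rfl⟩ := (hν₀ p h.1).2 i
    obtain ⟨a', ha', rfl⟩ := (hν₀ p h.1).2 j
    rw [← hval p q h a ha, ← hval p q h a' ha'] at hij
    have e := (hν₀ q h.2.1).1 (tr_mem F h ha) (tr_mem F h ha') hij
    rw [← tr_tr F h a, e, tr_tr F h a']
  set ε : G → G → ZMod 3 := fun p q => π p q 1 - π p q 0 with hε
  have haff : ∀ p q, Adj S x z p q → ∀ a ∈ Cl S x p, ν₀ q (tr p q a) = ε p q * ν₀ p a + π p q 0 :=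
    fun p q h a ha => by rw [hval p q h a ha]; exact affine_three _ (hinj p q h) _
  have hε0 : ∀ p q, Adj S x z p q → ε p q = 1 ∨ ε p q = -1 := by
    intro p q h
    have h0 : ε p q ≠ 0 := sub_ne_zero.2 fun e => absurd (hinj p q h e) (by decide)
    revert h0; generalize ε p q = e; revert e; decide
  have hloop : ∀ p q r, Adj S x z p q → Adj S x z q r → Adj S x z r p → ε r p * ε q r * ε p q = 1 := by
    intro p q r h1 h2 h3
    set e := ε r p * ε q r * ε p q with he
    set b₀ := ε r p * (ε q r * π p q 0 + π q r 0) + π r p 0 with hb₀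
    have one : ∀ a ∈ Cl S x p, tr r p (tr q r (tr p q a)) ∈ Cl S x p ∧
        ν₀ p (tr r p (tr q r (tr p q a))) = e * ν₀ p a + b₀ := by
      intro a ha
      have m1 := tr_mem F h1 ha
      have m2 := tr_mem F h2 m1
      refine ⟨tr_mem F h3 m2, ?_⟩
      rw [haff r p h3 _ m2, haff q r h2 _ m1, haff p q h1 a ha, he, hb₀]
      ring
    by_cases hd : Commute p (q * r * q)
    · obtain ⟨a₀, ha₀, hν⟩ := (hν₀ p h1.1).2 0
      obtain ⟨a₁, ha₁, hν'⟩ := (hν₀ p h1.1).2 1
      have e0 := (one a₀ ha₀).2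
      have e1 := (one a₁ ha₁).2
      rw [loop_degenerate F h1 h2 h3 hd ha₀, hν] at e0
      rw [loop_degenerate F h1 h2 h3 hd ha₁, hν'] at e1
      linear_combination e0 - e1
    · refine slope_cube e b₀ fun i => ?_
      obtain ⟨a, ha, rfl⟩ := (hν₀ p h1.1).2 i
      have h1' := one a ha
      have h2' := one _ h1'.1
      have h3' := one _ h2'.1
      have hc := loop_cube F h1 h2 h3 hd a
      simp only [Function.iterate_succ, Function.iterate_zero, Function.comp_apply, id_eq] at hc
      rw [hc, h2'.2, h1'.2] at h3'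
      exact h3'.2.symm
  set σ : G → G → ZMod 2 := fun p q => if ε p q = 1 then 0 else 1 with hσ
  have hsign : ∀ p q, Adj S x z p q → ε p q = (-1) ^ (σ p q).val := by
    intro p q h
    rcases hε0 p q h with e | e <;> simp [hσ, e] <;> decide
  have hεinv : ∀ p q, Adj S x z p q → ε q p * ε p q = 1 := by
    intro p q h
    obtain ⟨a₀, ha₀, hν⟩ := (hν₀ p h.1).2 0
    obtain ⟨a₁, ha₁, hν'⟩ := (hν₀ p h.1).2 1
    have e0 := haff q p h.symm _ (tr_mem F h ha₀)
    have e1 := haff q p h.symm _ (tr_mem F h ha₁)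
    rw [tr_tr F h, haff p q h a₀ ha₀, hν] at e0
    rw [tr_tr F h, haff p q h a₁ ha₁, hν'] at e1
    linear_combination e0 - e1
  obtain ⟨φ, hφ⟩ := exists_potential F σ (fun p q h => by
      have h1 := hεinv p q h
      rw [ZMod.neg_eq_self_mod_two]
      rcases hε0 p q h with e | e <;> rcases hε0 q p h.symm with e' | e' <;> rw [e, e'] at h1 <;>
        simp [hσ, e, e'] <;> exact absurd h1 (by decide))
    (fun p q r h1 h2 h3 => by
      have := hloop p q r h1 h2 h3
      rcases hε0 p q h1 with e | e <;> rcases hε0 q r h2 with e' | e' <;> rcases hε0 r p h3 with e'' | e'' <;>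
        rw [e, e', e''] at this <;> simp [hσ, e, e', e''] <;> first | decide | exact absurd this (by decide))
  refine ⟨fun t a => (-1) ^ (φ t).val * ν₀ t a, fun p q => (-1) ^ (φ q).val * π p q 0, fun t ht => ⟨?_, ?_⟩,
    fun p q h a ha => ?_⟩
  · intro a ha a' ha' h
    refine (hν₀ t ht).1 ha ha' (mul_left_cancel₀ ?_ h)
    exact pow_ne_zero _ (by decide)
  · intro i
    obtain ⟨a, ha, hνa⟩ := (hν₀ t ht).2 ((-1) ^ (φ t).val * i)
    refine ⟨a, ha, ?_⟩
    show (-1) ^ (φ t).val * ν₀ t a = i
    rw [hνa, ← mul_assoc, ← pow_add, ← two_mul, pow_mul]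
    simp
  · show (-1) ^ (φ q).val * ν₀ q (tr p q a) = _
    rw [haff p q h a ha, hsign p q h, hφ p q h, mul_add, ← mul_assoc]
    congr 1
    have key : ∀ u v : ZMod 2, ((-1 : ZMod 3) ^ v.val) * (-1) ^ (v - u).val = (-1) ^ u.val := by decide
    rw [key]

end Cfsg.Lib.ThreeTr.TwoCorePerp.Unitary
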