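import Cfsg.Agent.ThreeTransposition.TwoCorePerp.Unitary.Descend

/-!
Coordinates on the common neighbours of a noncommuting pair; every isometry is realised by conjugation.
-/

set_option autoImplicit false
set_option linter.unusedSectionVars false
set_option linter.style.haveILetI false

namespace Cfsg.Lib.ThreeTr.TwoCorePerp.Unitary

open Cfsg Subgroup Cfsg.Lib.ThreeTr Cfsg.Lib.Classical Cfsg.Lib.TTUnitary
open Cfsg.Lib.ThreeTr.SolvablePerp (cls perp_symm self_mem_cls)
open Cfsg.Lib.ThreeTr.SolvablePerp.Model (HS four)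
open Cfsg.Lib.PrimeGraph (KQuad)

universe u

variable {G : Type u} [Group G] {S : Set G} {x z : G} {m : ℕ} {c : Vec m → G}

/-- A noncommuting pair with coordinates on the common neighbours. -/
structure Frame (S : Set G) (x z : G) (m : ℕ) (c : Vec m → G) : Prop where
  uni : Uni S
  hx : x ∈ S
  hz : z ∈ S
  hxz : ¬ Commute x z
  dim : 4 ≤ m
  mem : ∀ v, Iso m v → c v ∈ perp S x ∩ perp S z
  surj : ∀ d ∈ perp S x ∩ perp S z, ∃ v, Iso m v ∧ c v = d
  comm : ∀ v w, Iso m v → Iso m w → (Commute (c v) (c w) ↔ (HS m).h v w = 0)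
  smul : ∀ v, ∀ a : KQuad, Iso m v → a ≠ 0 → c (a • v) = c v
  inj : ∀ v w, Iso m v → Iso m w → c v = c w → ∃ a : KQuad, a ≠ 0 ∧ w = a • v
  conj : ∀ v w, Iso m v → Iso m w → c v * c w * c v = c ((tv (four m) v).1.1 w)

/-- Coordinates of the quotient give a frame. -/
theorem exists_frame [Finite G] (U : Uni S) (hx : x ∈ S) (hz : z ∈ S) (hxz : ¬ Commute x z)
    {K : Type u} [Group K] {π : G → K} (hinj : Set.InjOn π (perp S x ∩ perp S z))
    (hcomm : ∀ p ∈ perp S x ∩ perp S z, ∀ q ∈ perp S x ∩ perp S z, Commute (π p) (π q) ↔ Commute p q)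
    (hmem : ∀ p ∈ perp S x ∩ perp S z, ∀ q ∈ perp S x ∩ perp S z, π (p * q * p⁻¹) = π p * π q * (π p)⁻¹)
    (U' : Uni (π '' (perp S x ∩ perp S z))) {f : Vec m → K}
    (C : Coord (π '' (perp S x ∩ perp S z)) m f) : ∃ c : Vec m → G, Frame S x z m c := by
  classical
  haveI : Nonempty G := ⟨1⟩
  set T := perp S x ∩ perp S z with hT
  set c : Vec m → G := fun v => Function.invFunOn π T (f v) with hc
  have hcs : ∀ v, Iso m v → c v ∈ T ∧ π (c v) = f v := fun v hv =>
    ⟨Function.invFunOn_mem (C.mem v hv), Function.invFunOn_eq (C.mem v hv)⟩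
  refine ⟨c, U, hx, hz, hxz, C.dim, fun v hv => (hcs v hv).1, fun d hd => ?_, fun v w hv hw => ?_,
    fun v a hv ha => ?_, fun v w hv hw h => ?_, fun v w hv hw => ?_⟩
  · obtain ⟨v, hv, hvd⟩ := C.surj (π d) ⟨d, hd, rfl⟩
    exact ⟨v, hv, hinj (hcs v hv).1 hd ((hcs v hv).2.trans hvd)⟩
  · rw [← hcomm _ (hcs v hv).1 _ (hcs w hw).1, (hcs v hv).2, (hcs w hw).2, C.comm v w hv hw]
  · show Function.invFunOn π T (f (a • v)) = _
    rw [C.smul v a hv ha]
  · refine C.inj v w hv hw ?_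
    rw [← (hcs v hv).2, h, (hcs w hw).2]
  · have h1 := hcs v hv
    have h2 := hcs w hw
    have hi := hw.map (tv (four m) v)
    have e : c v * c w * c v = c v * c w * (c v)⁻¹ := by rw [inv_eq U.tr h1.1.1.1]
    rw [e]
    refine hinj (inter_closed U hx hz hxz h1.1 h2.1) (hcs _ hi).1 ?_
    rw [hmem _ h1.1 _ h2.1, h1.2, h2.2, (hcs _ hi).2, inv_eq U'.tr (C.mem v hv), C.conj U'.toGeo hv hw]

/-- The special unitary group is generated by the transvections. -/
theorem mem_closure_tv {n : ℕ} (hn : 4 ≤ n) (g : (HS n).SIsom) :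
    g ∈ closure {t | ∃ v, Iso n v ∧ t = tv (four n) v} := by
  have hg : g.1 ∈ (HS n).transvGroup := by
    rw [(HS n).transvGroup_eq_SIsom (Or.inl (by rw [Module.finrank_fin_fun]; exact hn))]
    exact g.2
  suffices ∀ k ∈ (HS n).transvGroup, ∃ hk : k ∈ (HS n).SIsom,
      (⟨k, hk⟩ : (HS n).SIsom) ∈ closure {t | ∃ v, Iso n v ∧ t = tv (four n) v} by
    obtain ⟨_, h⟩ := this _ hg
    exact h
  intro k hk
  induction hk using closure_induction with
  | mem k hk =>
    obtain ⟨v, hv, c, hc, rfl⟩ := hk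
    refine ⟨(HS n).uT_mem_SIsom hv hc, ?_⟩
    show (HS n).sT hv hc ∈ _
    by_cases hv0 : v = 0
    · rw [show (HS n).sT hv hc = 1 from (HS n).sisom_ext fun x => by
        rw [(HS n).sT_apply, hv0, smul_zero, add_zero]; rfl]
      exact one_mem _
    rcases (four n).fixed_cases ((four n).eq_of_add (by rw [add_comm]; exact hc)) with rfl | rfl
    · rw [show (HS n).sT hv hc = 1 from (HS n).sisom_ext fun x => by
        rw [(HS n).sT_apply, zero_mul, zero_smul, add_zero]; rfl]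
      exact one_mem _
    · exact subset_closure ⟨v, ⟨hv0, hv⟩, (HS n).sisom_ext fun x => by
        rw [(HS n).sT_apply, tv_apply (four n) hv, one_mul]⟩
  | one => exact ⟨one_mem _, one_mem _⟩
  | mul k l _ _ hk hl =>
    obtain ⟨hk, hk'⟩ := hk
    obtain ⟨hl, hl'⟩ := hl
    exact ⟨mul_mem hk hl, mul_mem hk' hl'⟩
  | inv k _ hk =>
    obtain ⟨hk, hk'⟩ := hk
    exact ⟨inv_mem hk, inv_mem hk'⟩

namespace Frame

variable [Finite G]

theorem realise (F : Frame S x z m c) (g : (HS m).SIsom) :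
    ∃ k ∈ closure (perp S x ∩ perp S z), ∀ w, Iso m w → k * c w * k⁻¹ = c (g.1.1 w) := by
  induction mem_closure_tv F.dim g using closure_induction with
  | mem t ht =>
    obtain ⟨v, hv, rfl⟩ := ht
    refine ⟨c v, subset_closure (F.mem v hv), fun w hw => ?_⟩
    rw [inv_eq F.uni.tr (F.mem v hv).1.1]
    exact F.conj v w hv hw
  | one => exact ⟨1, one_mem _, fun w _ => by simp⟩
  | mul a b _ _ ha hb =>
    obtain ⟨k, hk, hk'⟩ := ha
    obtain ⟨l, hl, hl'⟩ := hb
    refine ⟨k * l, mul_mem hk hl, fun w hw => ?_⟩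
    rw [(HS m).smul_mul_apply, show k * l * c w * (k * l)⁻¹ = k * (l * c w * l⁻¹) * k⁻¹ by group, hl' w hw]
    exact hk' _ (hw.map b)
  | inv a _ ha =>
    obtain ⟨k, hk, hk'⟩ := ha
    refine ⟨k⁻¹, inv_mem hk, fun w hw => ?_⟩
    have h' := hk' _ (hw.map a⁻¹)
    rw [show a.1.1 ((a⁻¹).1.1 w) = w from (HS m).apply_inv_self a.1 w] at h'
    rw [← h']
    group

/-- A conjugate of a member of a common neighbour. -/
theorem mem_conj (F : Frame S x z m c) {p q : G} (hp : p ∈ perp S x ∩ perp S z) (hq : q ∈ perp S x ∩ perp S z) :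
    p * q * p ∈ perp S x ∩ perp S z := by
  have := inter_closed F.uni F.hx F.hz F.hxz hp hq
  rwa [inv_eq F.uni.tr hp.1.1] at this

/-- A common nonneighbour of two common neighbours. -/
theorem exists_mid (F : Frame S x z m c) {p q : G} (hp : p ∈ perp S x ∩ perp S z) (hq : q ∈ perp S x ∩ perp S z)
    (h : Commute p q) : ∃ r ∈ perp S x ∩ perp S z, ¬ Commute r p ∧ ¬ Commute r q := by
  obtain ⟨r, hr, hrp⟩ := F.uni.exists_noncommute_inter F.hx F.hz F.hxz hp
  obtain ⟨s, hs, hsq⟩ := F.uni.exists_noncommute_inter F.hx F.hz F.hxz hq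
  exact join F.uni F.hx F.hz F.hxz subset_rfl (fun p hp q hq _ => F.mem_conj hp hq)
    (fun p hp q hq hpq l hl => Or.inl (inter_line F.uni F.hx F.hz F.hxz hp hpq hq hl)) hp hq h
    ⟨r, hr, fun c => hrp c.symm⟩ ⟨s, hs, fun c => hsq c.symm⟩

end Frame

end Cfsg.Lib.ThreeTr.TwoCorePerp.Unitary
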