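import Cfsg.Agent.ThreeTransposition.TwoCorePerp.Unitary.Sections

/-!
The isotropic points orthogonal to the first vector of the pair give `x` and its neighbours: orthogonality is
commuting and transvections are conjugations.
-/

set_option autoImplicit false
set_option linter.unusedSectionVars false
set_option linter.style.haveILetI false

namespace Cfsg.Lib.ThreeTr.TwoCorePerp.Unitary

open Cfsg Subgroup Cfsg.Lib.ThreeTr Cfsg.Lib.Classical Cfsg.Lib.TTUnitary
open Cfsg.Lib.ThreeTr.SolvablePerp (cls perp_symm self_mem_cls)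
open Cfsg.Lib.ThreeTr.SolvablePerp.Model (HS four)
open Cfsg.Lib.PrimeGraph (KQuad)

universe u

variable {G : Type u} [Group G] {S : Set G} {x z : G} {m : ℕ} {c e : Vec m → G}

open _root_.Classical in
/-- The member over the point with coordinates `a`, `0`, `w`. -/
noncomputable def phi (x : G) (c e : Vec m → G) (a : KQuad) (w : Vec m) : G :=
  if a = 0 then c w else if w = 0 then x else e (a⁻¹ • w)

/-- The coordinates of an isotropic point orthogonal to the first vector of the pair. -/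
def Flat (m : ℕ) (a : KQuad) (w : Vec m) : Prop := (a ≠ 0 ∨ w ≠ 0) ∧ (HS m).h w w = 0

theorem phi_zero (w : Vec m) : phi x c e 0 w = c w := by simp [phi]

theorem phi_x {a : KQuad} (ha : a ≠ 0) : phi x c e a 0 = x := by simp [phi, ha]

theorem phi_e {a : KQuad} (ha : a ≠ 0) {w : Vec m} (hw : w ≠ 0) : phi x c e a w = e (a⁻¹ • w) := by
  simp [phi, ha, hw]

theorem phi_one {r : Vec m} (hr : Iso m r) : phi x c e 1 r = e r := by
  rw [phi_e one_ne_zero hr.1, inv_one, one_smul]

theorem Flat.iso {a : KQuad} {w : Vec m} (h : Flat m a w) : Iso (m + 2) (pt m a 0 w) := by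
  refine ⟨fun e => ?_, by rw [h_pt, h.2]; simp⟩
  obtain ⟨rfl, -, rfl⟩ := pt_eq_zero.1 e
  exact h.1.elim (fun f => f rfl) fun f => f rfl

theorem flat_of_iso {r : Vec m} (hr : Iso m r) (a : KQuad) : Flat m a r := ⟨Or.inr hr.1, hr.2⟩

theorem flat_x {a : KQuad} (ha : a ≠ 0) : Flat m a 0 := ⟨Or.inl ha, (HS m).zero_left 0⟩

theorem Flat.cases {a : KQuad} {w : Vec m} (h : Flat m a w) (x : G) (c e : Vec m → G) :
    (a = 0 ∧ Iso m w ∧ phi x c e a w = c w) ∨ (a ≠ 0 ∧ w = 0 ∧ phi x c e a w = x) ∨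
      (a ≠ 0 ∧ ∃ r, Iso m r ∧ w = a • r ∧ phi x c e a w = e r) := by
  by_cases ha : a = 0
  · subst ha
    exact Or.inl ⟨rfl, ⟨h.1.resolve_left (by simp), h.2⟩, phi_zero w⟩
  by_cases hw : w = 0
  · subst hw
    exact Or.inr (Or.inl ⟨ha, rfl, phi_x ha⟩)
  · exact Or.inr (Or.inr ⟨ha, a⁻¹ • w, Iso.smul ⟨hw, h.2⟩ (inv_ne_zero ha),
      by rw [smul_smul, mul_inv_cancel₀ ha, one_smul], phi_e ha hw⟩)

variable [Finite G] (F : Frame S x z m c) (L : Label S x z m c e)
include F L

theorem phi_mem {a : KQuad} {w : Vec m} (h : Flat m a w) : phi x c e a w ∈ insert x (perp S x) := by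
  rcases h.cases x c e with ⟨-, hw, e'⟩ | ⟨-, -, e'⟩ | ⟨-, r, hr, -, e'⟩ <;> rw [e']
  · exact Or.inr (F.mem w hw).1
  · exact Or.inl rfl
  · exact Or.inr (L.mem r hr).1.1

theorem phi_mem_S {a : KQuad} {w : Vec m} (h : Flat m a w) : phi x c e a w ∈ S := by
  rcases phi_mem F L h with e' | e'
  · rw [e']; exact F.hx
  · exact e'.1

theorem phi_surj {y : G} (hy : y ∈ insert x (perp S x)) : ∃ a w, Flat m a w ∧ phi x c e a w = y := by
  rcases hy with rfl | hy
  · exact ⟨1, 0, flat_x one_ne_zero, phi_x one_ne_zero⟩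
  obtain ⟨t, ⟨ht, htc⟩, -⟩ := F.uni.existsUnique_inter F.hx F.hz F.hxz hy
  by_cases hyt : y = t
  · subst hyt
    obtain ⟨w, hw, rfl⟩ := F.surj y ht
    exact ⟨0, w, flat_of_iso hw 0, phi_zero w⟩
  · obtain ⟨r, hr, -, rfl⟩ := L.surj t ht y ⟨mem_cls_symm htc hy, hyt⟩
    exact ⟨1, r, flat_of_iso hr 1, phi_one hr⟩

theorem phi_smul {a : KQuad} {w : Vec m} (h : Flat m a w) {k : KQuad} (hk : k ≠ 0) :
    phi x c e (k * a) (k • w) = phi x c e a w := by
  rcases h.cases x c e with ⟨rfl, hw, -⟩ | ⟨ha, rfl, -⟩ | ⟨ha, r, hr, rfl, e'⟩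
  · rw [mul_zero, phi_zero, phi_zero, F.smul w k hw hk]
  · rw [smul_zero, phi_x ha, phi_x (mul_ne_zero hk ha)]
  · rw [e', smul_smul, phi_e (mul_ne_zero hk ha) (smul_ne_zero (mul_ne_zero hk ha) hr.1), smul_smul,
      inv_mul_cancel₀ (mul_ne_zero hk ha), one_smul]

theorem phi_inj {a a' : KQuad} {w w' : Vec m} (h : Flat m a w) (h' : Flat m a' w')
    (he : phi x c e a w = phi x c e a' w') : ∃ k : KQuad, k ≠ 0 ∧ a' = k * a ∧ w' = k • w := by
  have n1 : ∀ {v}, Iso m v → c v ≠ x := fun hv => (F.mem _ hv).1.2.1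
  have n2 : ∀ {r}, Iso m r → e r ≠ x := fun hr => (L.mem _ hr).1.1.2.1
  have n3 : ∀ {v r}, Iso m v → Iso m r → e r ≠ c v := fun {v r} hv hr e' =>
    cl_not_inter F (F.mem r hr) (L.mem r hr) (e' ▸ F.mem v hv)
  rcases h.cases x c e with ⟨rfl, hw, e1⟩ | ⟨ha, rfl, e1⟩ | ⟨ha, r, hr, rfl, e1⟩ <;>
    rcases h'.cases x c e with ⟨rfl, hw', e2⟩ | ⟨ha', rfl, e2⟩ | ⟨ha', r', hr', rfl, e2⟩ <;> rw [e1, e2] at he
  · obtain ⟨k, hk, hk'⟩ := F.inj w w' hw hw' he
    exact ⟨k, hk, (mul_zero k).symm, hk'⟩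
  · exact absurd he (n1 hw)
  · exact absurd he.symm (n3 hw hr')
  · exact absurd he.symm (n1 hw')
  · exact ⟨a' * a⁻¹, mul_ne_zero ha' (inv_ne_zero ha), by rw [mul_assoc, inv_mul_cancel₀ ha, mul_one], by simp⟩
  · exact absurd he.symm (n2 hr')
  · exact absurd he (n3 hw' hr)
  · exact absurd he (n2 hr)
  · obtain rfl := L.inj r r' hr hr' he
    exact ⟨a' * a⁻¹, mul_ne_zero ha' (inv_ne_zero ha), by rw [mul_assoc, inv_mul_cancel₀ ha, mul_one],
      by rw [smul_smul, mul_assoc, inv_mul_cancel₀ ha, mul_one]⟩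

theorem e_comm_c {r v : Vec m} (hr : Iso m r) (hv : Iso m v) : Commute (e r) (c v) ↔ (HS m).h r v = 0 :=
  (cl_comm F (L.mem r hr) (F.mem v hv).1).trans (F.comm r v hr hv)

theorem e_comm_e {r r' : Vec m} (hr : Iso m r) (hr' : Iso m r') : Commute (e r) (e r') ↔ (HS m).h r r' = 0 := by
  rw [cl_comm F (L.mem r hr) (L.mem r' hr').1.1]
  constructor
  · intro h; exact h_swap ((e_comm_c F L hr' hr).1 h.symm)
  · intro h; exact ((e_comm_c F L hr' hr).2 (h_swap h)).symm

theorem phi_comm {a a' : KQuad} {w w' : Vec m} (h : Flat m a w) (h' : Flat m a' w') :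
    Commute (phi x c e a w) (phi x c e a' w') ↔ (HS m).h w w' = 0 := by
  have cx : ∀ {v}, Iso m v → Commute x (c v) := fun hv => (F.mem _ hv).1.2.2
  have ex' : ∀ {r}, Iso m r → Commute x (e r) := fun hr => (L.mem _ hr).1.1.2.2
  have sc : ∀ {k : KQuad} {p q : Vec m}, k ≠ 0 → ((HS m).h (k • p) q = 0 ↔ (HS m).h p q = 0) := fun hk => by
    rw [(HS m).smul_left, mul_eq_zero]; exact or_iff_right hk
  have sc' : ∀ {k : KQuad} {p q : Vec m}, k ≠ 0 → ((HS m).h p (k • q) = 0 ↔ (HS m).h p q = 0) := fun hk =>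
    ⟨fun h => h_swap ((sc hk).1 (h_swap h)), fun h => h_swap ((sc hk).2 (h_swap h))⟩
  rcases h.cases x c e with ⟨rfl, hw, e1⟩ | ⟨ha, rfl, e1⟩ | ⟨ha, r, hr, rfl, e1⟩ <;>
    rcases h'.cases x c e with ⟨rfl, hw', e2⟩ | ⟨ha', rfl, e2⟩ | ⟨ha', r', hr', rfl, e2⟩ <;> rw [e1, e2]
  · exact F.comm w w' hw hw'
  · exact iff_of_true (cx hw).symm ((HS m).zero_right w)
  · rw [sc' ha']
    exact ⟨fun h => h_swap ((e_comm_c F L hr' hw).1 h.symm), fun h => ((e_comm_c F L hr' hw).2 (h_swap h)).symm⟩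
  · exact iff_of_true (cx hw') ((HS m).zero_left w')
  · exact iff_of_true (Commute.refl x) ((HS m).zero_left 0)
  · exact iff_of_true (ex' hr') ((HS m).zero_left _)
  · rw [sc ha]; exact e_comm_c F L hr hw'
  · exact iff_of_true (ex' hr).symm ((HS m).zero_right _)
  · rw [sc ha, sc' ha']; exact e_comm_e F L hr hr'

/-- A label conjugates another one. -/
theorem e_conj {r r' : Vec m} (hr : Iso m r) (hr' : Iso m r') {k : KQuad} (hk : (HS m).h r' r = k) (hk0 : k ≠ 0) :
    e r * e r' * e r = phi x c e (1 + k) (r' + k • r) := by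
  have hE := F.uni.tr
  have ht := F.mem r hr
  have hs := F.mem r' hr'
  have hkr := hr.smul hk0
  have hc0T : e (k • r) ∈ Cl S x (c r) := by
    have := L.mem _ hkr
    rwa [F.smul r k hr hk0] at this
  have ha := L.mem r hr
  have hσ : (HS m).h r r' = k * k := by rw [(HS m).symm, hk, conj_eq]
  have hk3 : k * (k * k) = 1 := by rw [← conj_eq m]; exact (four m).norm k hk0
  have hns : ¬ Commute (e (k • r)) (c r') := fun h => by
    have := (e_comm_c F L hkr hr').1 h
    rw [(HS m).smul_left, hσ, hk3] at this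
    exact one_ne_zero this
  -- the second label
  have hb : e r' = c r * (e (k • r) * c r' * e (k • r)) * c r := by
    rw [braid hE hc0T.1.1.1 hs.1.1 hns, L.equiv _ r' hkr hr', L.equiv _ r (hkr.map _) hr]
    congr 1
    rw [tv_apply (four m) hr'.2, tv_apply (four m) hr.2, (HS m).smul_left k r r', hσ, hk3, one_smul,
      (HS m).add_left, (HS m).smul_left, hr.2, hk, mul_zero, zero_add, add_comm (k • r) r',
      (four m).vadd_cancel]
  have hct : Commute (e r) (c r) := (e_comm_c F L hr hr).2 hr.2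
  have hct0 : Commute (e (k • r)) (c r) := (cl_comm F hc0T ht.1).2 (Commute.refl _)
  have hexp : e r * e r' * e r = (e r * c r * e (k • r)) * c r' * (e r * c r * e (k • r))⁻¹ := by
    rw [hb, mul_inv_rev, mul_inv_rev, inv_eq hE hc0T.1.1.1, inv_eq hE ht.1.1, inv_eq hE ha.1.1.1]
    simp only [mul_assoc]
  rw [hexp]
  by_cases hk1 : k = 1
  · subst hk1
    have e1 : e r * c r * e r = c r := by
      rw [hct.eq, mul_assoc, sq_eq_one hE ha.1.1.1, mul_one]
    rw [one_smul, e1, inv_eq hE ht.1.1, F.conj r r' hr hr', tv_apply (four m) hr.2, hk, one_smul,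
      show (1 : KQuad) + 1 = 0 from kadd_self 1, phi_zero]
  have key : ∀ j : KQuad, j ≠ 0 → j ≠ 1 → 1 + j = j * j ∧ j * j ≠ 0 ∧ j * j ≠ 1 ∧ j * j ≠ j ∧
      (j * j)⁻¹ = j ∧ j * (j * j) = 1 ∧ j * j * (j * j) = j := by
    intro j h0 h1
    obtain ⟨f1, f2, f3, f4, f5⟩ := om_facts
    have hinv : (j * j)⁻¹ = j := inv_eq_of_mul_eq_one_left (by
      rcases k_cases j with rfl | rfl | rfl | rfl
      · exact absurd rfl h0
      · exact absurd rfl h1
      all_goals (revert h0 h1; decide +kernel))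
    refine ⟨?_, mul_ne_zero h0 h0, ?_, ?_, hinv, ?_, ?_⟩ <;>
      rcases k_cases j with rfl | rfl | rfl | rfl <;>
      first | exact absurd rfl h0 | exact absurd rfl h1 | decide +kernel
  obtain ⟨f1, f2, f3, f4, f5, f6, f7⟩ := key k hk0 hk1
  rw [f1]
  have hkr' := hr.smul f2
  have hd : e ((k * k) • r) ∈ Cl S x (c r) := by
    have := L.mem _ hkr'
    rwa [F.smul r _ hr f2] at this
  have hne : ∀ {i j : KQuad}, i ≠ 0 → j ≠ 0 → i ≠ j → e (i • r) ≠ e (j • r) := fun hi hj hij h =>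
    hij (smul_left_injective KQuad hr.1 (L.inj _ _ (hr.smul hi) (hr.smul hj) h))
  have hmul : e r * e (k • r) = x * c r * e ((k * k) • r) := by
    refine cl_mul F ht ha hc0T hd ?_ ?_ (hne hk0 f2 f4.symm)
    · have := hne one_ne_zero hk0 (Ne.symm hk1); rwa [one_smul] at this
    · have := hne one_ne_zero f2 f3.symm; rwa [one_smul] at this
  have hxt : Commute x (c r) := ht.1.2.2
  have hconj : e r * c r * e (k • r) = x * e ((k * k) • r) := by
    calc e r * c r * e (k • r) = c r * (e r * e (k • r)) := by rw [hct.eq, mul_assoc]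
      _ = c r * (x * c r) * e ((k * k) • r) := by rw [hmul, ← mul_assoc]
      _ = _ := by rw [hxt.eq, ← mul_assoc (c r), sq_eq_one hE ht.1.1, one_mul]
  have hnd : ¬ Commute (e ((k * k) • r)) (c r') := fun h => by
    have := (e_comm_c F L hkr' hr').1 h
    rw [(HS m).smul_left, hσ, f7] at this
    exact hk0 this
  rw [hconj, mul_inv_rev, inv_eq hE F.hx, inv_eq hE hd.1.1.1,
    show x * e ((k * k) • r) * c r' * (e ((k * k) • r) * x) =
      x * (e ((k * k) • r) * c r' * e ((k * k) • r)) * x by simp only [mul_assoc],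
    braid hE hd.1.1.1 hs.1.1 hnd, L.equiv _ r' hkr' hr']
  have hi := hkr'.map (tv (four m) r')
  have hcx : Commute x (e ((tv (four m) r').1.1 ((k * k) • r))) := (L.mem _ hi).1.1.2.2
  rw [hcx.eq, mul_assoc, sq_eq_one hE F.hx, mul_one]
  have hv : (tv (four m) r').1.1 ((k * k) • r) = k • (r' + k • r) := by
    rw [tv_apply (four m) hr'.2, (HS m).smul_left, hσ, f7, smul_add, smul_smul]
    exact add_comm _ _
  rw [hv] at hi ⊢
  rw [phi_e f2 fun h => hi.1 (by rw [h, smul_zero]), f5]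

/-- Conjugation is the transvection. -/
theorem phi_conj {a a' : KQuad} {w w' : Vec m} (h : Flat m a w) (h' : Flat m a' w') :
    phi x c e a w * phi x c e a' w' * phi x c e a w =
      phi x c e (a' + (HS m).h w' w * a) (w' + (HS m).h w' w • w) := by
  have hE := F.uni.tr
  have hp := phi_mem_S F L h
  set k := (HS m).h w' w with hk
  by_cases hk0 : k = 0
  · rw [hk0, zero_mul, add_zero, zero_smul, add_zero, ((phi_comm F L h h').2 (h_swap hk0)).eq, mul_assoc,
      sq_eq_one hE hp, mul_one]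
  have key : ∀ j : KQuad, j ≠ 0 → j⁻¹ = j * j := fun j hj => inv_eq_of_mul_eq_one_right (by
    rw [← conj_eq m]; exact (four m).norm j hj)
  rcases h.cases x c e with ⟨rfl, hw, e1⟩ | ⟨-, rfl, -⟩ | ⟨ha, r, hr, rfl, e1⟩
  · rcases h'.cases x c e with ⟨rfl, hw', e2⟩ | ⟨-, rfl, -⟩ | ⟨ha', r', hr', rfl, e2⟩
    · rw [mul_zero, add_zero, phi_zero, phi_zero, phi_zero, F.conj w w' hw hw', tv_apply (four m) hw.2, hk]
    · exact absurd ((HS m).zero_left w) hk0
    · rw [mul_zero, add_zero, e1, e2, L.equiv r' w hr' hw]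
      have hi := hr'.map (tv (four m) w)
      have hv : (tv (four m) w).1.1 r' = a'⁻¹ • (a' • r' + k • w) := by
        rw [tv_apply (four m) hw.2, hk, (HS m).smul_left, smul_add, smul_smul, smul_smul, inv_mul_cancel₀ ha',
          one_smul, ← mul_assoc, inv_mul_cancel₀ ha', one_mul]
      rw [hv] at hi ⊢
      rw [phi_e ha' fun h => hi.1 (by rw [h, smul_zero])]
  · exact absurd ((HS m).zero_right w') hk0
  · rcases h'.cases x c e with ⟨rfl, hw', e2⟩ | ⟨-, rfl, -⟩ | ⟨ha', r', hr', rfl, e2⟩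
    · rw [e1, e2]
      have hrw : (HS m).h r w' = a⁻¹ * k⁻¹ := by
        have : (HS m).h w' r * (a * a) = k := by
          rw [hk, (HS m).smul_right, conj_eq, mul_comm]
        rw [(HS m).symm, conj_eq, key a ha, key k hk0, ← this]
        have h3 : a * (a * a) = 1 := by rw [← conj_eq m]; exact (four m).norm a ha
        linear_combination (-(HS m).h w' r * (HS m).h w' r * (a * (a * a) + 1)) * h3
      rw [braid hE (L.mem r hr).1.1.1 (F.mem w' hw').1.1 fun h => by
          have := (e_comm_c F L hr hw').1 h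
          rw [hrw] at this
          exact mul_ne_zero (inv_ne_zero ha) (inv_ne_zero hk0) this,
        L.equiv r w' hr hw', zero_add]
      have hi := hr.map (tv (four m) w')
      have hv : (tv (four m) w').1.1 r = (k * a)⁻¹ • (w' + k • (a • r)) := by
        rw [tv_apply (four m) hw'.2, hrw, smul_add, smul_smul, smul_smul, mul_assoc (k * a)⁻¹ k a, inv_mul_cancel₀ (mul_ne_zero hk0 ha),
          one_smul, mul_inv_rev, add_comm]
      rw [hv] at hi ⊢
      rw [phi_e (mul_ne_zero hk0 ha) fun h => hi.1 (by rw [h, smul_zero])]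
    · exact absurd ((HS m).zero_left _) hk0
    · have hk' : (HS m).h r' r = a'⁻¹ * a * k := by
        rw [hk, (HS m).smul_left, (HS m).smul_right, conj_eq]
        have h1 := inv_mul_cancel₀ ha'
        have h3 : a * (a * a) = 1 := by rw [← conj_eq m]; exact (four m).norm a ha
        linear_combination (-(HS m).h r' r) * h3 + (-(a * (a * a)) * (HS m).h r' r) * h1
      have hk0' : a'⁻¹ * a * k ≠ 0 := mul_ne_zero (mul_ne_zero (inv_ne_zero ha') ha) hk0
      rw [e1, e2, e_conj F L hr hr' hk' hk0']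
      have hflat : Flat m (1 + a'⁻¹ * a * k) (r' + (a'⁻¹ * a * k) • r) := by
        refine ⟨or_iff_not_imp_left.2 fun h1 hz => ?_, ?_⟩
        · have := congrArg (fun v => (HS m).h v r) hz
          simp only [(HS m).add_left, (HS m).smul_left, hr.2, mul_zero, add_zero, hk', (HS m).zero_left] at this
          exact hk0' this
        · have := hr'.map (tv (four m) r)
          rw [tv_apply (four m) hr.2, hk'] at this
          exact this.2
      rw [← phi_smul F L hflat ha', mul_add, mul_one, smul_add, smul_smul, smul_smul, ← mul_assoc, ← mul_assoc,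
        mul_inv_cancel₀ ha', one_mul, mul_comm a k]

end Cfsg.Lib.ThreeTr.TwoCorePerp.Unitary
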