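import Cfsg.Agent.ThreeTransposition.TwoCorePerp.Unitary.Space

/-!
Isometries of determinant one are transitive on normalised nondegenerate triangles of isotropic vectors with a
given invariant; the invariant as an integer modulo three.
-/

set_option autoImplicit false
set_option linter.unusedSectionVars false
set_option linter.style.haveILetI false

namespace Cfsg.Lib.ThreeTr.TwoCorePerp.Unitary

open Cfsg Subgroup Cfsg.Lib.Classical Cfsg.Lib.TTUnitary
open Cfsg.Lib.ThreeTr.SolvablePerp.Model (HS four)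
open Cfsg.Lib.PrimeGraph (KQuad)

/-- The exponent of a nonzero scalar. -/
def lg (a : KQuad) : ZMod 3 := if a = om then 1 else if a = om * om then 2 else 0

/-- The scalar with a given exponent. -/
def ex (i : ZMod 3) : KQuad := om ^ i.val

theorem lg_ex (i : ZMod 3) : lg (ex i) = i := by revert i; decide +kernel

theorem ex_ne_zero (i : ZMod 3) : ex i ≠ 0 := pow_ne_zero _ om_ne_zero

theorem ex_add : ∀ i j : ZMod 3, ex (i + j) = ex i * ex j := by decide +kernel

theorem lg_mul : ∀ a b : KQuad, a ≠ 0 → b ≠ 0 → lg (a * b) = lg a + lg b := by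
  simp only [KQuad.forall_iff]; decide +kernel

theorem lg_sq : ∀ a : KQuad, lg (a * a) = -lg a := by simp only [KQuad.forall_iff]; decide +kernel

theorem ex_lg : ∀ a : KQuad, a ≠ 0 → ex (lg a) = a := by simp only [KQuad.forall_iff]; decide +kernel

theorem lg_eq_zero : ∀ a : KQuad, a ≠ 0 → (lg a = 0 ↔ a = 1) := by simp only [KQuad.forall_iff]; decide +kernel

theorem trace_one_iff : ∀ a : KQuad, a + a * a = 1 ↔ a = om ∨ a = om * om := by
  simp only [KQuad.forall_iff]; decide +kernel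

theorem lg_smul_smul {n : ℕ} {v w : Vec n} {a b : KQuad} (ha : a ≠ 0) (hb : b ≠ 0) (h : (HS n).h v w ≠ 0) :
    lg ((HS n).h (a • v) (b • w)) = lg a - lg b + lg ((HS n).h v w) := by
  rw [(HS n).smul_left, (HS n).smul_right, conj_eq, lg_mul _ _ ha (mul_ne_zero (mul_ne_zero hb hb) h),
    lg_mul _ _ (mul_ne_zero hb hb) h, lg_sq]
  abel

theorem lg_swap {n : ℕ} (v w : Vec n) : lg ((HS n).h w v) = -lg ((HS n).h v w) := by
  rw [(HS n).symm w v, conj_eq, lg_sq]

variable {m : ℕ}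

/-- Transitivity on triangles. -/
theorem triangle_move (hm : 4 ≤ m) {k : KQuad} (hk : k + (HS m).σ k = 1) {p q r p' q' r' : Vec m}
    (hp : Iso m p) (hq : Iso m q) (hr : Iso m r) (hp' : Iso m p') (hq' : Iso m q') (hr' : Iso m r')
    (hpq : (HS m).h p q = 1) (hrp : (HS m).h r p = 1) (hrq : (HS m).h r q = k)
    (hpq' : (HS m).h p' q' = 1) (hrp' : (HS m).h r' p' = 1) (hrq' : (HS m).h r' q' = k) :
    ∃ g : (HS m).SIsom, g.1.1 p = p' ∧ g.1.1 q = q' ∧ g.1.1 r = r' := by
  have hfr : Module.finrank KQuad (⊤ : Submodule KQuad (Vec m)) = m := by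
    rw [finrank_top, Module.finrank_fin_fun]
  obtain ⟨l, -, hlp⟩ := trans_iso (four m) nondeg_top (by rw [hfr]; omega) (Submodule.mem_top (x := p))
    (Submodule.mem_top (x := p')) hp.1 hp'.1 hp.2 hp'.2
  have P' : Pair (HS m) ⊤ p' q' := ⟨trivial, trivial, hp'.2, hq'.2, hpq'⟩
  have P1 : Pair (HS m) ⊤ p' (l.1.1 q) :=
    ⟨trivial, trivial, hp'.2, by rw [(HS m).map_form, hq.2], by rw [← hlp, (HS m).map_form, hpq]⟩
  obtain ⟨s, hs, hsq⟩ := shift (four m) nondeg_top (by rw [hfr]; omega) P1 P'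
  set g₁ := s * l with hg₁
  have hg1p : g₁.1.1 p = p' := by rw [hg₁, (HS m).smul_mul_apply, hlp, fix_of_mem_lp (four m) hs]
  have hg1q : g₁.1.1 q = q' := by rw [hg₁, (HS m).smul_mul_apply, hsq]
  set r₁ := g₁.1.1 r with hr₁
  have hr1 : Iso m r₁ := hr.map g₁
  have hr1p : (HS m).h r₁ p' = 1 := by rw [← hg1p, hr₁, (HS m).map_form, hrp]
  have hr1q : (HS m).h r₁ q' = k := by rw [← hg1q, hr₁, (HS m).map_form, hrq]
  -- the parts orthogonal to the pair
  have hW : ∀ t, Iso m t → (HS m).h t p' = 1 → (HS m).h t q' = k →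
      (t + k • p' + q' ∈ perp2 (HS m) ⊤ p' q') ∧ (HS m).h (t + k • p' + q') (t + k • p' + q') = 1 := by
    intro t ht h1 h2
    have := P'.proj_mem (four m) (x := t) trivial
    rw [h1, h2, one_smul] at this
    refine ⟨this, ?_⟩
    have hqp : (HS m).h q' p' = 1 := P'.flip
    have h1' : (HS m).h p' t = 1 := by rw [(HS m).symm, h1, map_one]
    have h2' : (HS m).h q' t = (HS m).σ k := by rw [(HS m).symm, h2]
    simp only [(HS m).add_left, (HS m).add_right, (HS m).smul_left, (HS m).smul_right, ht.2, hp'.2, hq'.2, hpq',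
      hqp, h1, h2, h1', h2']
    linear_combination hk + (k + (HS m).σ k) * (four m).two
  obtain ⟨hw1, hw1n⟩ := hW r₁ hr1 hr1p hr1q
  obtain ⟨hw', hw'n⟩ := hW r' hr' hrp' hrq'
  set w₁ := r₁ + k • p' + q' with hw₁
  set w' := r' + k • p' + q' with hw'def
  obtain ⟨g₂, -, hg2w, hg2X⟩ := (HS m).exists_move_norm_one hw1n hw'n
    (X := Submodule.span KQuad {p', q'}) (fun y hy => by
      obtain ⟨-, a1, a2⟩ := mem_perp2.1 hw1
      obtain ⟨-, b1, b2⟩ := mem_perp2.1 hw'
      obtain ⟨a, b, rfl⟩ := Submodule.mem_span_pair.1 hy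
      simp [(HS m).add_left, (HS m).smul_left, h_swap a1, h_swap a2, h_swap b1, h_swap b2])
  obtain ⟨u, hu, huu⟩ := exists_unit (perp1_nondeg (four m) (P'.nondeg (four m) nondeg_top) hw' hw'n) (by
    have := perp1_finrank (four m) (U := perp2 (HS m) ⊤ p' q') hw' hw'n
    have h2 := P'.finrank (four m)
    rw [hfr] at h2
    omega)
  obtain ⟨hu2, huw⟩ := mem_perp1.1 hu
  obtain ⟨-, hup, huq⟩ := mem_perp2.1 hu2
  obtain ⟨ζ, hζ⟩ := (HS m).exists_SIsom_correct g₂ huu
  refine ⟨⟨_, hζ⟩ * g₁, ?_, ?_, ?_⟩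
  · rw [(HS m).smul_mul_apply, hg1p]
    show ((HS m).qrefl huu ζ * g₂).1 p' = p'
    rw [(HS m).mul_apply', hg2X p' (Submodule.subset_span (by simp)), (HS m).qrefl_orth huu ζ (h_swap hup)]
  · rw [(HS m).smul_mul_apply, hg1q]
    show ((HS m).qrefl huu ζ * g₂).1 q' = q'
    rw [(HS m).mul_apply', hg2X q' (Submodule.subset_span (by simp)), (HS m).qrefl_orth huu ζ (h_swap huq)]
  · rw [(HS m).smul_mul_apply, ← hr₁]
    show ((HS m).qrefl huu ζ * g₂).1 r₁ = r'
    have e1 : r₁ = w₁ + (k • p' + q') := by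
      rw [hw₁, add_assoc r₁]; exact ((four m).vadd_cancel r₁ (k • p' + q')).symm
    have e2 : r' = w' + (k • p' + q') := by
      rw [hw'def, add_assoc r']; exact ((four m).vadd_cancel r' (k • p' + q')).symm
    rw [(HS m).mul_apply', e1, map_add g₂.1, hg2w, hg2X _ (Submodule.mem_span_pair.2 ⟨k, 1, by simp⟩), ← e2]
    refine (HS m).qrefl_orth huu ζ ?_
    rw [e2, (HS m).add_left, h_swap huw, (HS m).add_left, (HS m).smul_left, h_swap hup, h_swap huq]
    simp

end Cfsg.Lib.ThreeTr.TwoCorePerp.Unitary
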