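import Cfsg.Agent.ThreeTransposition.TwoCorePerp.Unitary.Fibres
import Cfsg.Agent.ThreeTransposition.TwoCorePerp.Unitary.Triangle

/-!
The fibres over the common neighbours are labelled by the isotropic vectors over them, compatibly with
conjugation by the common neighbours.
-/

set_option autoImplicit false
set_option linter.unusedSectionVars false
set_option linter.style.haveILetI false

namespace Cfsg.Lib.ThreeTr.TwoCorePerp.Unitary

open Cfsg Subgroup Cfsg.Lib.ThreeTr Cfsg.Lib.Classical Cfsg.Lib.TTUnitary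
open Cfsg.Lib.ThreeTr.SolvablePerp (cls perp_symm self_mem_cls)
open Cfsg.Lib.ThreeTr.SolvablePerp.Model (HS four)
open Cfsg.Lib.PrimeGraph (KQuad)

universe u

variable {G : Type u} [Group G] {S : Set G} {x z : G} {m : ℕ} {c : Vec m → G}

open _root_.Classical in
/-- A vector over a point. -/
noncomputable def rep (c : Vec m → G) (t : G) : Vec m :=
  if h : ∃ v, Iso m v ∧ c v = t then h.choose else 0

/-- Labels of the fibres. -/
structure Label (S : Set G) (x z : G) (m : ℕ) (c e : Vec m → G) : Prop where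
  mem : ∀ r, Iso m r → e r ∈ Cl S x (c r)
  surj : ∀ t ∈ perp S x ∩ perp S z, ∀ a ∈ Cl S x t, ∃ r, Iso m r ∧ c r = t ∧ e r = a
  inj : ∀ r r', Iso m r → Iso m r' → e r = e r' → r = r'
  equiv : ∀ r s, Iso m r → Iso m s → c s * e r * c s = e ((tv (four m) s).1.1 r)

variable [Finite G]

theorem rep_spec (F : Frame S x z m c) {t : G} (ht : t ∈ perp S x ∩ perp S z) :
    Iso m (rep c t) ∧ c (rep c t) = t := by
  rw [rep, dif_pos (F.surj t ht)]
  exact (F.surj t ht).choose_spec

theorem rep_ne_zero (F : Frame S x z m c) {p q : G} (h : Adj S x z p q) :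
    (HS m).h (rep c p) (rep c q) ≠ 0 := fun e => h.2.2 (by
  have hp := rep_spec F h.1
  have hq := rep_spec F h.2.1
  have := (F.comm _ _ hp.1 hq.1).2 e
  rwa [hp.2, hq.2] at this)

theorem exists_scale (F : Frame S x z m c) {v : Vec m} (hv : Iso m v) :
    ∃ a : KQuad, a ≠ 0 ∧ v = a • rep c (c v) := by
  have h := rep_spec F (F.mem v hv)
  exact F.inj _ _ h.1 hv h.2

/-- The logarithm of a triangle does not depend on the vectors. -/
theorem lsum_eq (F : Frame S x z m c) {u v w : Vec m} (hu : Iso m u) (hv : Iso m v) (hw : Iso m w)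
    (huv : (HS m).h u v ≠ 0) (hvw : (HS m).h v w ≠ 0) (hwu : (HS m).h w u ≠ 0) :
    lg ((HS m).h (rep c (c u)) (rep c (c v))) + lg ((HS m).h (rep c (c v)) (rep c (c w))) +
      lg ((HS m).h (rep c (c w)) (rep c (c u))) =
      lg ((HS m).h u v) + lg ((HS m).h v w) + lg ((HS m).h w u) := by
  obtain ⟨a, ha, ea⟩ := exists_scale F hu
  obtain ⟨b, hb, eb⟩ := exists_scale F hv
  obtain ⟨d, hd, ed⟩ := exists_scale F hw
  have key : ∀ {p q : Vec m} {a b : KQuad}, a ≠ 0 → b ≠ 0 → (HS m).h (a • p) (b • q) ≠ 0 →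
      lg ((HS m).h (a • p) (b • q)) = lg a - lg b + lg ((HS m).h p q) := fun {p q a b} ha hb h =>
    lg_smul_smul ha hb fun e => h (by rw [(HS m).smul_left, (HS m).smul_right, e]; simp)
  conv_rhs => rw [ea, eb, ed]
  rw [key ha hb (ea ▸ eb ▸ huv), key hb hd (eb ▸ ed ▸ hvw), key hd ha (ed ▸ ea ▸ hwu)]
  abel

/-- The third member commutes exactly when the logarithm vanishes. -/
theorem commute_third_iff (F : Frame S x z m c) {u v w : Vec m} (hu : Iso m u) (hv : Iso m v) (hw : Iso m w)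
    (huv : (HS m).h u v ≠ 0) (hvw : (HS m).h v w ≠ 0) (hwu : (HS m).h w u ≠ 0) :
    Commute (c u) (c v * c w * c v) ↔ lg ((HS m).h u v) + lg ((HS m).h v w) + lg ((HS m).h w u) = 0 := by
  rw [F.conj v w hv hw, F.comm u _ hu (hw.map _), tv_apply (four m) hv.2, (HS m).add_right, (HS m).smul_right,
    ← lg_mul _ _ huv hvw, ← lg_mul _ _ (mul_ne_zero huv hvw) hwu, lg_eq_zero _ (mul_ne_zero (mul_ne_zero huv hvw) hwu),
    show (HS m).σ ((HS m).h w v) = (HS m).h v w from ((HS m).symm v w).symm]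
  have hn : (HS m).h u w * (HS m).h w u = 1 := by
    rw [(HS m).symm u w, (four m).norm_flip hwu]
  constructor
  · intro h
    have e : (HS m).h v w * (HS m).h u v = (HS m).h u w := ((four m).eq_of_add (by rw [add_comm]; exact h))
    rw [mul_comm ((HS m).h u v), e, hn]
  · intro h
    have e : (HS m).h v w * (HS m).h u v = (HS m).h u w := by
      linear_combination (HS m).h u w * h - ((HS m).h v w * (HS m).h u v) * hn
    rw [e]
    exact (four m).add_self _

/-- Conjugation by an element generated by common neighbours is a translation on labels. -/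
theorem conj_translation (F : Frame S x z m c) {ν b : G → G → ZMod 3}
    (hb : ∀ p q, Adj S x z p q → ∀ a ∈ Cl S x p, ν q (tr p q a) = ν p a + b p q) {g : G}
    (hg : g ∈ closure (perp S x ∩ perp S z)) : ∀ t ∈ perp S x ∩ perp S z, g * t * g⁻¹ ∈ perp S x ∩ perp S z ∧
      ∃ β, ∀ a ∈ Cl S x t, ν (g * t * g⁻¹) (g * a * g⁻¹) = ν t a + β := by
  have hgen : ∀ q ∈ perp S x ∩ perp S z, ∀ t ∈ perp S x ∩ perp S z, q * t * q⁻¹ ∈ perp S x ∩ perp S z ∧
      ∃ β, ∀ a ∈ Cl S x t, ν (q * t * q⁻¹) (q * a * q⁻¹) = ν t a + β := by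
    intro q hq t ht
    have hi := inv_eq F.uni.tr hq.1.1
    rw [hi]
    refine ⟨F.mem_conj hq ht, ?_⟩
    by_cases hc : Commute t q
    · refine ⟨0, fun a ha => ?_⟩
      have haq : Commute a q := (cl_comm F ha hq.1).2 hc
      rw [← hc.eq, ← haq.eq, mul_assoc, mul_assoc a, sq_eq_one F.uni.tr hq.1.1, mul_one, mul_one, add_zero]
    · have hadj : Adj S x z t (q * t * q) := (third_adj_left F ⟨hq, ht, fun c' => hc c'.symm⟩).symm
      refine ⟨b t (q * t * q), fun a ha => ?_⟩
      rw [← hb t _ hadj a ha]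
      congr 1
      have hat : Commute t a := ((cl_comm F ha ht.1).2 (Commute.refl t)).symm
      have e : t * (q * t * q) = q * t := by
        calc t * (q * t * q) = t * (t * q * t) := by rw [braid F.uni.tr hq.1.1 ht.1.1 fun c' => hc c'.symm]
          _ = q * t := by rw [← mul_assoc, ← mul_assoc, sq_eq_one F.uni.tr ht.1.1, one_mul]
      rw [tr, e, show q * t * a * (q * t)⁻¹ = q * (t * a * t⁻¹) * q⁻¹ by group, CoreThree.conj_fix hat, hi]
  induction hg using closure_induction'' with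
  | mem q hq => exact hgen q hq
  | inv_mem q hq => rw [inv_eq F.uni.tr hq.1.1]; exact hgen q hq
  | one => exact fun t ht => ⟨by simpa using ht, 0, fun a _ => by simp⟩
  | mul p q _ _ hp hq =>
    intro t ht
    obtain ⟨h1, β, hβ⟩ := hq t ht
    obtain ⟨h2, β', hβ'⟩ := hp _ h1
    have hq' : q ∈ closure (perp S x ∩ perp S z) := by assumption
    rw [show p * q * t * (p * q)⁻¹ = p * (q * t * q⁻¹) * p⁻¹ by group]
    refine ⟨h2, β + β', fun a ha => ?_⟩
    rw [show p * q * a * (p * q)⁻¹ = p * (q * a * q⁻¹) * p⁻¹ by group, hβ' _ (conj_cl F hq' ha), hβ a ha, add_assoc]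

/-- The triangle sums are proportional. -/
theorem exists_ratio (F : Frame S x z m c) {ν b : G → G → ZMod 3}
    (hν : ∀ t ∈ perp S x ∩ perp S z, Set.InjOn (ν t) (Cl S x t) ∧ ∀ i, ∃ a ∈ Cl S x t, ν t a = i)
    (hb : ∀ p q, Adj S x z p q → ∀ a ∈ Cl S x p, ν q (tr p q a) = ν p a + b p q) :
    (∀ p q, Adj S x z p q → b q p = -b p q) ∧
    ∃ k : ZMod 3, ∀ p q r, Adj S x z p q → Adj S x z q r → Adj S x z r p → b p q + b q r + b r p =
      k * (lg ((HS m).h (rep c p) (rep c q)) + lg ((HS m).h (rep c q) (rep c r)) +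
        lg ((HS m).h (rep c r) (rep c p))) := by
  have hanti : ∀ p q, Adj S x z p q → b q p = -b p q := by
    intro p q h
    obtain ⟨a, ha, -⟩ := (hν p h.1).2 0
    have := hb q p h.symm _ (tr_mem F h ha)
    rw [tr_tr F h, hb p q h a ha] at this
    linear_combination (-1) * this
  refine ⟨hanti, ?_⟩
  set B : G → G → G → ZMod 3 := fun p q r => b p q + b q r + b r p with hB
  set L : G → G → G → ZMod 3 := fun p q r => lg ((HS m).h (rep c p) (rep c q)) +
    lg ((HS m).h (rep c q) (rep c r)) + lg ((HS m).h (rep c r) (rep c p)) with hL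
  have hloop : ∀ p q r, Adj S x z p q → Adj S x z q r → Adj S x z r p → ∀ a ∈ Cl S x p,
      ν p (tr r p (tr q r (tr p q a))) = ν p a + B p q r := by
    intro p q r h1 h2 h3 a ha
    have m1 := tr_mem F h1 ha
    rw [hb r p h3 _ (tr_mem F h2 m1), hb q r h2 _ m1, hb p q h1 a ha, hB]
    simp only [add_assoc]
  have hdeg : ∀ p q r, Adj S x z p q → Adj S x z q r → Adj S x z r p → L p q r = 0 → B p q r = 0 := by
    intro p q r h1 h2 h3 h0
    obtain ⟨a, ha, -⟩ := (hν p h1.1).2 0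
    have hd : Commute p (q * r * q) := by
      obtain ⟨i1, e1⟩ := rep_spec F h1.1
      obtain ⟨i2, e2⟩ := rep_spec F h2.1
      obtain ⟨i3, e3⟩ := rep_spec F h3.1
      have := (commute_third_iff F i1 i2 i3 (rep_ne_zero F h1) (rep_ne_zero F h2) (rep_ne_zero F h3)).2 h0
      rwa [e1, e2, e3] at this
    have := hloop p q r h1 h2 h3 a ha
    rw [loop_degenerate F h1 h2 h3 hd ha, left_eq_add] at this
    exact this
  -- invariance
  have hinv : ∀ g : (HS m).SIsom, ∀ u v w, Iso m u → Iso m v → Iso m w → (HS m).h u v ≠ 0 → (HS m).h v w ≠ 0 →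
      (HS m).h w u ≠ 0 → B (c (g.1.1 u)) (c (g.1.1 v)) (c (g.1.1 w)) = B (c u) (c v) (c w) := by
    intro g u v w hu hv hw huv hvw hwu
    obtain ⟨k, hk, hkc⟩ := F.realise g
    have adj : ∀ {p q : Vec m}, Iso m p → Iso m q → (HS m).h p q ≠ 0 → Adj S x z (c p) (c q) :=
      fun {p q} hp hq h => ⟨F.mem p hp, F.mem q hq, fun c' => h ((F.comm p q hp hq).1 c')⟩
    have h1 := adj hu hv huv
    have h2 := adj hv hw hvw
    have h3 := adj hw hu hwu
    obtain ⟨a, ha, -⟩ := (hν (c u) h1.1).2 0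
    obtain ⟨-, β, hβ⟩ := conj_translation F hb hk (c u) h1.1
    rw [hkc u hu] at hβ
    have ha' : k * a * k⁻¹ ∈ Cl S x (c (g.1.1 u)) := by rw [← hkc u hu]; exact conj_cl F hk ha
    have hl := hloop (c (g.1.1 u)) (c (g.1.1 v)) (c (g.1.1 w)) (adj (hu.map g) (hv.map g) (by rwa [(HS m).map_form]))
      (adj (hv.map g) (hw.map g) (by rwa [(HS m).map_form])) (adj (hw.map g) (hu.map g) (by rwa [(HS m).map_form]))
      _ ha'
    have e : tr (c (g.1.1 w)) (c (g.1.1 u)) (tr (c (g.1.1 v)) (c (g.1.1 w))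
        (tr (c (g.1.1 u)) (c (g.1.1 v)) (k * a * k⁻¹))) =
        k * tr (c w) (c u) (tr (c v) (c w) (tr (c u) (c v) a)) * k⁻¹ := by
      rw [← hkc u hu, ← hkc v hv, ← hkc w hw]
      simp only [tr]
      group
    rw [e, hβ _ (tr_mem F h3 (tr_mem F h2 (tr_mem F h1 ha))), hloop _ _ _ h1 h2 h3 a ha, hβ a ha] at hl
    linear_combination (-1) * hl
  have hswap : ∀ p q r, Adj S x z p q → Adj S x z q r → Adj S x z r p →
      B q p r = -B p q r ∧ L q p r = -L p q r := by
    intro p q r h1 h2 h3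
    simp only [hB, hL, hanti p q h1, hanti q r h2, hanti r p h3, lg_swap (rep c p) (rep c q),
      lg_swap (rep c q) (rep c r), lg_swap (rep c r) (rep c p)]
    constructor <;> ring
  have hsame : ∀ p q r p' q' r', Adj S x z p q → Adj S x z q r → Adj S x z r p → Adj S x z p' q' →
      Adj S x z q' r' → Adj S x z r' p' → L p q r ≠ 0 → L p q r = L p' q' r' → B p q r = B p' q' r' := by
    have norm : ∀ p q r, Adj S x z p q → Adj S x z q r → Adj S x z r p → ∃ u v w, Iso m u ∧ Iso m v ∧ Iso m w ∧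
        c u = p ∧ c v = q ∧ c w = r ∧ (HS m).h u v = 1 ∧ (HS m).h w u = 1 ∧ (HS m).h w v ≠ 0 ∧
        L p q r = -lg ((HS m).h w v) := by
      intro p q r h1 h2 h3
      obtain ⟨i1, e1⟩ := rep_spec F h1.1
      obtain ⟨i2, e2⟩ := rep_spec F h2.1
      obtain ⟨i3, e3⟩ := rep_spec F h3.1
      set u := rep c p
      set α := (HS m).h u (rep c q) with hα
      set γ := (HS m).h (rep c r) u with hγ
      have hα0 : α ≠ 0 := rep_ne_zero F h1
      have hγ0 : γ ≠ 0 := rep_ne_zero F h3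
      refine ⟨u, α • rep c q, γ⁻¹ • rep c r, i1, i2.smul hα0, i3.smul (inv_ne_zero hγ0), e1,
        by rw [F.smul _ _ i2 hα0, e2], by rw [F.smul _ _ i3 (inv_ne_zero hγ0), e3], ?_, ?_, ?_⟩
      · rw [(HS m).smul_right, ← hα, (four m).norm_flip hα0]
      · rw [(HS m).smul_left, ← hγ, inv_mul_cancel₀ hγ0]
      have hne : (HS m).h (γ⁻¹ • rep c r) (α • rep c q) ≠ 0 := by
        rw [(HS m).smul_left, (HS m).smul_right]
        exact mul_ne_zero (inv_ne_zero hγ0) (mul_ne_zero (fun e => hα0 ((HS m).conj.eq_zero.1 e))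
          (rep_ne_zero F h2.symm))
      refine ⟨hne, ?_⟩
      have h := lsum_eq F i1 (i2.smul hα0) (i3.smul (inv_ne_zero hγ0))
        (by rw [(HS m).smul_right, ← hα, (four m).norm_flip hα0]; exact one_ne_zero) (fun e => hne (h_swap e))
        (by rw [(HS m).smul_left, ← hγ, inv_mul_cancel₀ hγ0]; exact one_ne_zero)
      rw [F.smul _ _ i2 hα0, F.smul _ _ i3 (inv_ne_zero hγ0), e1, e2, e3] at h
      simp only [hL]
      rw [h, (HS m).smul_right, ← hα, (four m).norm_flip hα0, lg_swap (γ⁻¹ • rep c r) (α • rep c q),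
        (HS m).smul_left γ⁻¹ (rep c r) u, ← hγ, inv_mul_cancel₀ hγ0, (lg_eq_zero 1 one_ne_zero).2 rfl]
      ring
    intro p q r p' q' r' h1 h2 h3 h1' h2' h3' hne heq
    obtain ⟨u, v, w, hu, hv, hw, rfl, rfl, rfl, huv, hwu, hk0, hk⟩ := norm p q r h1 h2 h3
    obtain ⟨u', v', w', hu', hv', hw', rfl, rfl, rfl, huv', hwu', hk0', hk'⟩ := norm p' q' r' h1' h2' h3'
    rw [hk, hk', neg_inj] at heq
    have hkk : (HS m).h w' v' = (HS m).h w v := by rw [← ex_lg _ hk0', ← heq, ex_lg _ hk0]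
    have htr : (HS m).h w v + (HS m).σ ((HS m).h w v) = 1 := by
      rw [conj_eq, trace_one_iff]
      rcases k_cases ((HS m).h w v) with e | e | e | e
      · exact absurd e hk0
      · rw [hk, e, (lg_eq_zero 1 one_ne_zero).2 rfl] at hne
        exact absurd neg_zero hne
      · exact Or.inl e
      · exact Or.inr e
    obtain ⟨g, rfl, rfl, rfl⟩ := triangle_move F.dim htr hu hv hw hu' hv' hw' huv hwu rfl huv' hwu' hkk
    exact (hinv g u v w hu hv hw (by rw [huv]; exact one_ne_zero) (fun e => hk0 (h_swap e))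
      (by rw [hwu]; exact one_ne_zero)).symm
  by_cases hex : ∃ p q r, Adj S x z p q ∧ Adj S x z q r ∧ Adj S x z r p ∧ L p q r ≠ 0
  swap
  · push Not at hex
    refine ⟨0, fun p q r h1 h2 h3 => ?_⟩
    rw [zero_mul]
    exact hdeg p q r h1 h2 h3 (hex p q r h1 h2 h3)
  obtain ⟨p₀, q₀, r₀, a1, a2, a3, a0⟩ := hex
  refine ⟨B p₀ q₀ r₀ * L p₀ q₀ r₀, fun p q r h1 h2 h3 => ?_⟩
  show B p q r = B p₀ q₀ r₀ * L p₀ q₀ r₀ * L p q r
  by_cases h0 : L p q r = 0
  · rw [hdeg p q r h1 h2 h3 h0, h0, mul_zero]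
  have cases : ∀ i j : ZMod 3, i ≠ 0 → j ≠ 0 → i = j ∨ i = -j := by decide
  have sq : ∀ i : ZMod 3, i ≠ 0 → i * i = 1 := by decide
  rcases cases _ _ a0 h0 with e | e
  · rw [← hsame _ _ _ _ _ _ a1 a2 a3 h1 h2 h3 a0 e, ← e, mul_assoc, sq _ a0, mul_one]
  · obtain ⟨sB, sL⟩ := hswap p q r h1 h2 h3
    have := hsame _ _ _ _ _ _ a1 a2 a3 h1.symm h3.symm h2.symm a0 (e.trans sL.symm)
    rw [this, sB, e]; linear_combination (-B p q r) * sq _ h0

end Cfsg.Lib.ThreeTr.TwoCorePerp.Unitary
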