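import Cfsg.Agent.ThreeTransposition.TwoCorePerp.Unitary.Frame

/-!
An antisymmetric function on noncommuting pairs of common neighbours which sums to zero on triangles is a
difference of values at the members; the noncommuting graph has enough triangles.
-/

set_option autoImplicit false
set_option linter.unusedSectionVars false
set_option linter.style.haveILetI false

namespace Cfsg.Lib.ThreeTr.TwoCorePerp.Unitary

open Cfsg Subgroup Cfsg.Lib.ThreeTr
open Cfsg.Lib.ThreeTr.SolvablePerp (cls perp_symm self_mem_cls)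

universe u

variable {G : Type u} [Group G] [Finite G] {S : Set G} {x z : G} {m : ℕ} {c : Vec m → G}

/-- Pairs of noncommuting common neighbours. -/
def Adj (S : Set G) (x z p q : G) : Prop :=
  p ∈ perp S x ∩ perp S z ∧ q ∈ perp S x ∩ perp S z ∧ ¬ Commute p q

theorem Adj.symm {p q : G} (h : Adj S x z p q) : Adj S x z q p := ⟨h.2.1, h.1, fun c => h.2.2 c.symm⟩

/-- The third member is adjacent to a member commuting with one of two adjacent members and not the other. -/
theorem third_adj (F : Frame S x z m c) {p q a : G} (h : Adj S x z p q) (ha : a ∈ perp S x ∩ perp S z)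
    (h1 : Commute a p) (h2 : ¬ Commute a q) : Adj S x z (p * q * p) a :=
  ⟨F.mem_conj h.1 h.2.1, ha, fun c' => not_commute_third F.uni.tr h.1.1.1 h.2.1.1.1 h.2.2 h1 h2 c'.symm⟩

theorem third_adj' (F : Frame S x z m c) {p q a : G} (h : Adj S x z p q) (ha : a ∈ perp S x ∩ perp S z)
    (h1 : Commute a q) (h2 : ¬ Commute a p) : Adj S x z (p * q * p) a := by
  rw [braid F.uni.tr h.1.1.1 h.2.1.1.1 h.2.2]
  exact third_adj F h.symm ha h1 h2

theorem third_adj_left (F : Frame S x z m c) {p q : G} (h : Adj S x z p q) : Adj S x z (p * q * p) q := by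
  refine ⟨F.mem_conj h.1 h.2.1, h.2.1, fun c' => ?_⟩
  have := SolvablePerp.not_commute_braid F.uni.tr h.1.1.1 h.2.1.1.1 h.2.2
  rw [inv_eq F.uni.tr h.1.1.1] at this
  exact this c'

theorem third_adj_right (F : Frame S x z m c) {p q : G} (h : Adj S x z p q) : Adj S x z (p * q * p) p := by
  rw [braid F.uni.tr h.1.1.1 h.2.1.1.1 h.2.2]
  exact third_adj_left F h.symm

/-- A common nonneighbour of an adjacent pair and a member commuting with both. -/
theorem exists_mid_three (F : Frame S x z m c) {p q t : G} (h : Adj S x z p q) (ht : t ∈ perp S x ∩ perp S z)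
    (hp : Commute t p) : ∃ r, Adj S x z t r ∧ Adj S x z r p ∧ Adj S x z r q := by
  obtain ⟨r, hr, hrt, hrp⟩ := F.exists_mid ht h.1 hp
  by_cases hrq : Commute r q
  swap
  · exact ⟨r, ⟨ht, hr, fun c' => hrt c'.symm⟩, ⟨hr, h.1, hrp⟩, ⟨hr, h.2.1, hrq⟩⟩
  have hrp' : Adj S x z p r := ⟨h.1, hr, fun c' => hrp c'.symm⟩
  exact ⟨_, (third_adj F hrp' ht hp fun c' => hrt c'.symm).symm, third_adj_right F hrp',
    third_adj' F hrp' h.2.1 hrq.symm fun c' => h.2.2 c'.symm⟩

/-- Existence of a potential. -/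
theorem exists_potential (F : Frame S x z m c) {A : Type*} [AddCommGroup A] (f : G → G → A)
    (hanti : ∀ p q, Adj S x z p q → f q p = -f p q)
    (htri : ∀ p q r, Adj S x z p q → Adj S x z q r → Adj S x z r p → f p q + f q r + f r p = 0) :
    ∃ φ : G → A, ∀ p q, Adj S x z p q → f p q = φ q - φ p := by
  classical
  obtain ⟨t₀, ht₀⟩ := F.uni.exists_inter F.hx F.hz F.hxz
  have hmid : ∀ t ∈ perp S x ∩ perp S z, Commute t₀ t → ∃ r, Adj S x z t₀ r ∧ Adj S x z r t := by
    intro t ht hc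
    obtain ⟨r, hr, h1, h2⟩ := F.exists_mid ht₀ ht hc
    exact ⟨r, ⟨ht₀, hr, fun c' => h1 c'.symm⟩, ⟨hr, ht, h2⟩⟩
  set φ : G → A := fun t =>
    if h : t ∈ perp S x ∩ perp S z ∧ Commute t₀ t then
      f t₀ (hmid t h.1 h.2).choose + f (hmid t h.1 h.2).choose t
    else f t₀ t with hφ
  have tri2 : ∀ {a b d}, Adj S x z a b → Adj S x z b d → Adj S x z a d → f a d = f a b + f b d := by
    intro a b d h1 h2 h3
    have := htri a b d h1 h2 h3.symm
    rw [hanti a d h3, add_neg_eq_zero] at this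
    exact this.symm
  have indep : ∀ t r, Adj S x z t₀ r → Adj S x z r t → f t₀ r + f r t = φ t := by
    intro t r h1 h2
    by_cases hc : Commute t₀ t
    swap
    · rw [hφ]
      simp only [hc, and_false, dite_false]
      exact (tri2 h1 h2 ⟨ht₀, h2.2.1, hc⟩).symm
    have hcond : t ∈ perp S x ∩ perp S z ∧ Commute t₀ t := ⟨h2.2.1, hc⟩
    rw [hφ]
    simp only [dif_pos hcond]
    obtain ⟨h1', h2'⟩ := (hmid t hcond.1 hcond.2).choose_spec
    set r' := (hmid t hcond.1 hcond.2).choose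
    have two : ∀ {a b}, Adj S x z t₀ a → Adj S x z a t → Adj S x z t₀ b → Adj S x z b t → Adj S x z a b →
        f t₀ a + f a t = f t₀ b + f b t := by
      intro a b a1 a2 b1 b2 hab
      rw [tri2 a1 hab b1, tri2 hab b2 a2]
      abel
    by_cases hrr : Commute r r'
    swap
    · exact two h1 h2 h1' h2' ⟨h1.2.1, h1'.2.1, hrr⟩
    set r'' := t₀ * r * t₀ with hr''
    have a1 : Adj S x z t₀ r'' := (third_adj_right F h1).symm
    have a2 : Adj S x z r'' t := third_adj F h1 hcond.1 hc.symm fun c' => h2.2.2 c'.symm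
    exact (two h1 h2 a1 a2 (third_adj_left F h1).symm).trans
      (two a1 a2 h1' h2' (third_adj' F h1 h1'.2.1 hrr.symm fun c' => h1'.2.2 c'.symm))
  have hadj : ∀ t, Adj S x z t₀ t → φ t = f t₀ t := fun t h => by
    rw [hφ]; simp only [h.2.2, and_false, dite_false]
  refine ⟨φ, fun p q h => ?_⟩
  by_cases hp : Commute t₀ p
  · by_cases hq : Commute t₀ q
    · obtain ⟨r, h1, h2, h3⟩ := exists_mid_three F h ht₀ hp
      rw [← indep p r h1 h2, ← indep q r h1 h3, tri2 h2 h h3]
      abel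
    · rw [← indep p q ⟨ht₀, h.2.1, hq⟩ h.symm, hadj q ⟨ht₀, h.2.1, hq⟩, hanti p q h]
      abel
  · by_cases hq : Commute t₀ q
    · rw [← indep q p ⟨ht₀, h.1, hp⟩ h, hadj p ⟨ht₀, h.1, hp⟩]
      abel
    · rw [hadj p ⟨ht₀, h.1, hp⟩, hadj q ⟨ht₀, h.2.1, hq⟩, tri2 ⟨ht₀, h.1, hp⟩ h ⟨ht₀, h.2.1, hq⟩]
      abel

end Cfsg.Lib.ThreeTr.TwoCorePerp.Unitary
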