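import Cfsg.Agent.ThreeTransposition.TwoCorePerp.Unitary.Translations

/-!
The translations modulo the central one form an image of the vectors, so there are no more translations than
affine points.
-/

set_option autoImplicit false
set_option linter.unusedSectionVars false
set_option linter.style.haveILetI false

namespace Cfsg.Lib.ThreeTr.TwoCorePerp.Unitary

open Cfsg Subgroup Cfsg.Lib.ThreeTr Cfsg.Lib.Classical Cfsg.Lib.TTUnitary
open Cfsg.Lib.ThreeTr.SolvablePerp (cls perp_symm self_mem_cls)
open Cfsg.Lib.ThreeTr.SolvablePerp.Model (HS four)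
open Cfsg.Lib.PrimeGraph (KQuad)

universe u

variable {G : Type u} [Group G] {S : Set G} {x z : G} {m : ℕ} {c e : Vec m → G}

theorem finite_sisom (n : ℕ) : Finite (HS n).SIsom :=
  Finite.of_injective (fun g : (HS n).SIsom => (g.1.1 : Vec n → Vec n))
    fun g k e => (HS n).sisom_ext fun x => congrFun e x

variable [Finite G] (F : Frame S x z m c) (L : Label S x z m c e)
include F L

theorem pr_zero_smul {r : Vec m} (hr : Iso m r) {k : KQuad} (hk : k ≠ 0) :
    pr x c e 0 (k • r) = pr x c e 0 r := by
  have := pr_smul F L (flat_of_iso hr 0) hk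
  rwa [mul_zero] at this

theorem tr_one {r r' : Vec m} (hr : Iso m r) (hr' : Iso m r') (h : (HS m).h r' r = 1) :
    Tr x c e (r + r') = Tr x c e r * Tr x c e r' := by
  have f : ∀ a, Flat m a r := flat_of_iso hr
  have f' : ∀ a, Flat m a r' := flat_of_iso hr'
  have hσ : (HS m).h r r' = 1 := by rw [(HS m).symm, h, map_one]
  have hs : Iso m (r + r') := by
    have := hr'.map (tv (four m) r)
    rw [tv_apply (four m) hr.2, h, one_smul, add_comm] at this
    exact this
  have hconj : ∀ a, pr x c e 0 r * pr x c e a r' * pr x c e 0 r = pr x c e a (r + r') := fun a => by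
    rw [pr_conj F L (f 0) (f' a), h, mul_zero, add_zero, one_smul, add_comm r' r]
  have h1 : Tr x c e (r + r') = pr x c e 0 r * Tr x c e r' * pr x c e 0 r := by
    rw [Tr, ← hconj 0, ← hconj 1, Tr]
    simp only [mul_assoc]
    rw [← mul_assoc (pr x c e 0 r) (pr x c e 0 r), pr_sq F L (f 0), one_mul]
  have hAB := pr_commute F L (f' 0) (f' 1) hr'.2
  have h2 : Tr x c e r' * pr x c e 0 r * Tr x c e r' = pr x c e 1 r := by
    have e1 : pr x c e 1 r' * pr x c e 0 r * pr x c e 1 r' = pr x c e 1 (r + r') := by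
      rw [pr_conj F L (f' 1) (f 0), hσ, one_mul, zero_add, one_smul]
    have e2 : pr x c e 0 r' * pr x c e 1 (r + r') * pr x c e 0 r' = pr x c e 1 r := by
      rw [pr_conj F L (f' 0) (flat_of_iso hs 1), (HS m).add_left, hσ, hr'.2, add_zero, mul_zero, add_zero,
        one_smul, (four m).vadd_cancel]
    rw [← e2, ← e1]
    unfold Tr
    nth_rw 2 [hAB.eq]
    simp only [mul_assoc]
  have h3 : Tr x c e r' * pr x c e 0 r = pr x c e 1 r * Tr x c e r' := by
    rw [← h2, mul_assoc (Tr x c e r' * pr x c e 0 r), tr_sq F L hr', mul_one]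
  rw [h1, mul_assoc, h3, ← mul_assoc]
  rfl

theorem tr_zero {r r' : Vec m} (hr : Iso m r) (hr' : Iso m r') (hs : Iso m (r + r')) (h : (HS m).h r' r = 0) :
    Tr x c e r * Tr x c e r' * Tr x c e (r + r') = Xp x c e := by
  have hE := F.uni.tr
  set g := Tr x c e r * Tr x c e r' * Tr x c e (r + r') with hg
  have hgE : g ∈ Eg x c e := mul_mem (mul_mem (tr_mem' hr) (tr_mem' hr')) (tr_mem' hs)
  have h' := h_swap h
  have hM : g.2 = (Xp x c e).2 := by
    refine (HS (m + 2)).sisom_ext fun p => ?_
    obtain ⟨a, b, w, rfl⟩ := pt_surj p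
    show (((Tr x c e r).2 * (Tr x c e r').2) * (Tr x c e (r + r')).2).1.1 _ = _
    rw [(HS (m + 2)).smul_mul_apply, (HS (m + 2)).smul_mul_apply, tr_apply F L hs, tr_apply F L hr',
      tr_apply F L hr, xp_apply F L]
    simp only [(HS m).add_left, (HS m).add_right, (HS m).smul_left, hr.2, hr'.2, h, h', mul_zero, add_zero]
    congr 1
    · linear_combination ((HS m).h w r + (HS m).h w r' + b) * (four m).two
    · rw [smul_add, show w + (b • r + b • r') + b • r' + b • r = w + ((b • r + b • r) + (b • r' + b • r')) by abel,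
        (four m).vadd_self, (four m).vadd_self, add_zero, add_zero]
  refine Prod.ext ?_ hM
  show g.1 = (Xp x c e).1
  rw [show (Xp x c e).1 = x from phi_x (c := c) (e := e) one_ne_zero]
  have hfix : ∀ a w, Flat m a w → Commute g.1 (phi x c e a w) := by
    intro a w hf
    obtain ⟨a', w', -, e1, e2⟩ := (good_of_mem F L hgE).2 a w hf
    rw [hM, xp_apply F L, add_zero] at e1
    obtain ⟨rfl, -, rfl⟩ := pt_inj e1
    exact mul_inv_eq_iff_eq_mul.1 e2
  have hxx := sq_eq_one hE F.hx
  have hxfix : ∀ a w, Flat m a w → Commute x (phi x c e a w) := fun a w hf => by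
    have := (phi_comm F L (flat_x one_ne_zero) hf).2 ((HS m).zero_left w)
    rwa [phi_x one_ne_zero] at this
  suffices hz : Commute (x * g.1) z by
    have := eq_one_of_fix F L hz fun a w hf => (hxfix a w hf).mul_left (hfix a w hf)
    rw [eq_inv_of_mul_eq_one_right this, inv_eq hE F.hx]
  have hv : g.2.1.1 (vv m) = pt m 1 1 0 := by
    rw [hM, vv, xp_apply F L, zero_add]
  have h1 : (1 : G × (HS (m + 2)).SIsom).2.1.1 (vv m) = pt m 0 1 0 := rfl
  rcases (off_orbit F L).2 1 (one_mem _) g hgE 0 1 0 h1 hv with e0 | e0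
  swap
  · simp only [Prod.fst_one, one_mul, inv_one, mul_one] at e0
    refine mul_inv_eq_iff_eq_mul.1 ?_
    rw [mul_inv_rev, inv_eq hE F.hx, show x * g.1 * z * (g.1⁻¹ * x) = x * (g.1 * z * g.1⁻¹) * x by group, e0,
      invol_conj_conj hxx]
  exfalso
  simp only [Prod.fst_one, one_mul, inv_one, mul_one] at e0
  set t := c r
  set a := e r
  set s := c r'
  set b := e r'
  set q := c (r + r')
  set d := e (r + r')
  have tT := F.mem r hr
  have sT := F.mem r' hr'
  have qT := F.mem _ hs
  have ha := L.mem r hr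
  have hb := L.mem r' hr'
  have hd := L.mem _ hs
  have aS := ha.1.1.1
  have bS := hb.1.1.1
  have dS := hd.1.1.1
  have hg1 : g.1 = (t * a) * (s * b) * (q * d) := by
    show phi x c e 0 r * phi x c e 1 r * (phi x c e 0 r' * phi x c e 1 r') *
      (phi x c e 0 (r + r') * phi x c e 1 (r + r')) = _
    rw [phi_zero, phi_zero, phi_zero, phi_one hr, phi_one hr', phi_one hs]
  have zq : Commute z q := qT.2.2.2
  have zt : Commute z t := tT.2.2.2
  have zs : Commute z s := sT.2.2.2
  have dq : Commute d q := (e_comm_c F L hs hs).2 hs.2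
  have as' : Commute a s := (e_comm_c F L hr hr').2 h'
  have bs : Commute b s := (e_comm_c F L hr' hr').2 hr'.2
  have at' : Commute a t := (e_comm_c F L hr hr).2 hr.2
  have ab : Commute a b := (e_comm_e F L hr hr').2 h'
  have naz : ¬ Commute a z := fun h0 => one_ne_zero ((commute_z F L (flat_of_iso hr 1)).1 (by rwa [phi_one hr]))
  have ndz : ¬ Commute d z := fun h0 => one_ne_zero ((commute_z F L (flat_of_iso hs 1)).1 (by rwa [phi_one hs]))
  have nbz : ¬ Commute b z := fun h0 => one_ne_zero ((commute_z F L (flat_of_iso hr' 1)).1 (by rwa [phi_one hr']))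
  have step1 : (q * d) * z * (q * d)⁻¹ = d * z * d := by
    rw [show q * d * z * (q * d)⁻¹ = q * (d * z * d⁻¹) * q⁻¹ by group, inv_eq hE dS]
    exact CoreThree.conj_fix ((dq.symm.mul_right zq.symm).mul_right dq.symm)
  have e1 : (t * a * (s * b)) * (d * z * d) * (t * a * (s * b))⁻¹ = z := by
    rw [← step1]
    conv_rhs => rw [← e0, hg1]
    group
  have e2 : d * z * d = b * (a * z * a) * b := by
    have hts : Commute (t * s) z := (zt.mul_right zs).symm
    have e3 : t * a * (s * b) = t * s * (a * b) := by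
      rw [show t * a * (s * b) = t * (a * s) * b by simp only [mul_assoc], as'.eq]; simp only [mul_assoc]
    rw [e3] at e1
    have e4 : (a * b) * (d * z * d) * (a * b)⁻¹ = (t * s)⁻¹ * z * (t * s) := by
      calc (a * b) * (d * z * d) * (a * b)⁻¹ =
          (t * s)⁻¹ * (t * s * (a * b) * (d * z * d) * (t * s * (a * b))⁻¹) * (t * s) := by group
        _ = _ := by rw [e1]
    rw [show (t * s)⁻¹ * z * (t * s) = z by rw [mul_assoc, ← hts.eq, ← mul_assoc, inv_mul_cancel, one_mul]] at e4
    calc d * z * d = (a * b)⁻¹ * ((a * b) * (d * z * d) * (a * b)⁻¹) * (a * b) := by group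
      _ = _ := by
        rw [e4, mul_inv_rev, inv_eq hE bS, inv_eq hE aS]
        simp only [mul_assoc]
        rfl
  rw [braid hE dS F.hz ndz, braid hE aS F.hz naz] at e2
  have hzz := sq_eq_one hE F.hz
  have hxb : Commute x b := hb.1.1.2.2
  have hxa : Commute x a := ha.1.1.2.2
  have hxd : Commute x d := hd.1.1.2.2
  have hbr : x * z * x = z * x * z := braid hE F.hx F.hz F.hxz
  have c1 : Commute (x * z * x) (b * (z * a * z) * b) := by
    rw [← e2, hbr]
    have := (conj_commute_iff z x d).2 hxd
    rwa [inv_eq hE F.hz] at this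
  have c2 : Commute (b * (x * z * x) * b) (z * a * z) := by
    have := (conj_commute_iff b _ _).2 c1
    rwa [inv_eq hE bS, invol_conj_conj (sq_eq_one hE bS)] at this
  have e5 : b * (x * z * x) * b = x * (z * b * z) * x := by
    rw [← braid hE bS F.hz nbz]
    calc b * (x * z * x) * b = (b * x) * z * (x * b) := by simp only [mul_assoc]
      _ = (x * b) * z * (b * x) := by rw [hxb.eq]
      _ = _ := by simp only [mul_assoc]; rfl
  have c3 : Commute (x * (z * b * z) * x) a := by
    rw [e5] at c2
    have := (conj_commute_iff z _ _).2 c2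
    rw [inv_eq hE F.hz, invol_conj_conj hzz] at this
    refine (congrArg (fun y => Commute y a) ?_).mp this
    calc z * (x * (z * b * z) * x) * z = (z * x * z) * b * (z * x * z) := by simp only [mul_assoc]
      _ = x * z * (x * b * x) * z * x := by rw [← hbr]; simp only [mul_assoc]
      _ = x * (z * b * z) * x := by
        rw [hxb.eq, mul_assoc b, hxx, mul_one]; simp only [mul_assoc]
  have c4 : Commute (b * z * b) a := by
    rw [braid hE bS F.hz nbz]
    have := (conj_commute_iff x _ _).2 c3
    rw [inv_eq hE F.hx, invol_conj_conj hxx, show x * a * x = a by rw [hxa.eq, mul_assoc, hxx, mul_one]] at this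
    exact this
  refine naz ?_
  have := (conj_commute_iff b _ _).2 c4
  rw [inv_eq hE bS, invol_conj_conj (sq_eq_one hE bS),
    show b * a * b = a by rw [← ab.eq, mul_assoc, sq_eq_one hE bS, mul_one]] at this
  exact this.symm

/-- Translations commute up to the central one. -/
theorem tr_commutator {r r' : Vec m} (hr : Iso m r) (hr' : Iso m r') :
    Tr x c e r * Tr x c e r' * Tr x c e r = Tr x c e r' ∨
      Tr x c e r * Tr x c e r' * Tr x c e r = Xp x c e * Tr x c e r' := by
  set k := (HS m).h r' r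
  have f : ∀ a, Flat m a r := flat_of_iso hr
  have f' : ∀ a, Flat m a r' := flat_of_iso hr'
  have hAB := pr_commute F L (f 0) (f 1) hr.2
  have hone : ∀ a, pr x c e 1 r * pr x c e a r' * pr x c e 1 r = pr x c e (a + k) (r' + k • r) := fun a => by
    rw [pr_conj F L (f 1) (f' a), mul_one]
  have hstep : ∀ a, Tr x c e r * pr x c e a r' * Tr x c e r = pr x c e (a + k) r' := by
    intro a
    have hfl : Flat m (a + k) (r' + k • r) := by
      refine flat_of_iso ?_ _
      have := hr'.map (tv (four m) r)
      rwa [tv_apply (four m) hr.2] at this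
    have e1 : pr x c e 0 r * pr x c e (a + k) (r' + k • r) * pr x c e 0 r = pr x c e (a + k) r' := by
      rw [pr_conj F L (f 0) hfl, (HS m).add_left, (HS m).smul_left, hr.2, mul_zero, add_zero, mul_zero, add_zero,
        (four m).vadd_cancel]
    rw [← e1, ← hone a]
    unfold Tr
    nth_rw 2 [hAB.eq]
    simp only [mul_assoc]
  have hexp : Tr x c e r * Tr x c e r' * Tr x c e r = pr x c e (0 + k) r' * pr x c e (1 + k) r' := by
    rw [← hstep 0, ← hstep 1]
    show _ = _
    conv_lhs => rw [show Tr x c e r' = pr x c e 0 r' * (Tr x c e r * Tr x c e r) * pr x c e 1 r' by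
      rw [tr_sq F L hr, mul_one]; rfl]
    simp only [mul_assoc]
  rw [hexp, zero_add]
  by_cases h0 : k = 0
  · rw [h0, add_zero]; exact Or.inl rfl
  by_cases h1 : k = 1
  · rw [h1, show (1 : KQuad) + 1 = 0 from kadd_self 1]
    exact Or.inl (pr_commute F L (f' 1) (f' 0) hr'.2).eq
  refine Or.inr ?_
  have h1k : 1 + k ≠ 0 := fun e' => h1 ((four m).eq_of_add e').symm
  have key : ∀ j : KQuad, j ≠ 0 → j ≠ 1 → ∀ i l : KQuad, j * i = 1 → (1 + j) * l = 1 → i + l = 1 := by
    simp only [KQuad.forall_iff]; decide +kernel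
  have hij := key k h0 h1 k⁻¹ (1 + k)⁻¹ (mul_inv_cancel₀ h0) (mul_inv_cancel₀ h1k)
  have hi := hr'.smul (inv_ne_zero h0)
  have hj := hr'.smul (inv_ne_zero h1k)
  have scale : ∀ j : KQuad, j ≠ 0 → pr x c e j r' = pr x c e 1 (j⁻¹ • r') := fun j hj => by
    have := pr_smul F L (flat_of_iso (hr'.smul (inv_ne_zero hj)) 1) hj
    rwa [mul_one, smul_smul, mul_inv_cancel₀ hj, one_smul] at this
  have hz : (HS m).h ((1 + k)⁻¹ • r') (k⁻¹ • r') = 0 := by
    rw [(HS m).smul_left, (HS m).smul_right, hr'.2, mul_zero, mul_zero]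
  have hsum : k⁻¹ • r' + (1 + k)⁻¹ • r' = r' := by rw [← add_smul, hij, one_smul]
  have h3 := tr_zero F L hi hj (by rw [hsum]; exact hr') hz
  rw [hsum] at h3
  have h4 : Tr x c e (k⁻¹ • r') * Tr x c e ((1 + k)⁻¹ • r') = pr x c e k r' * pr x c e (1 + k) r' := by
    rw [scale k h0, scale _ h1k, Tr, Tr, pr_zero_smul F L hr' (inv_ne_zero h0),
      pr_zero_smul F L hr' (inv_ne_zero h1k)]
    have hc : Commute (pr x c e 0 r') (pr x c e 1 (k⁻¹ • r')) := pr_commute F L (f' 0) (flat_of_iso hi 1) (by
      rw [(HS m).smul_left, hr'.2, mul_zero])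
    rw [hc.eq]
    simp only [mul_assoc]
    rw [← mul_assoc (pr x c e 0 r'), pr_sq F L (f' 0), one_mul]
  rw [← h4, ← h3, mul_assoc (Tr x c e (k⁻¹ • r') * Tr x c e ((1 + k)⁻¹ • r')), tr_sq F L hr', mul_one]

theorem xp_central {g : G × (HS (m + 2)).SIsom} (hg : g ∈ Eg x c e) : Commute g (Xp x c e) := by
  have : Eg x c e ≤ centralizer {Xp x c e} := (closure_le _).2 fun y hy => by
    rw [SetLike.mem_coe, mem_centralizer_singleton_iff]
    rcases hy with rfl | ⟨r, hr, rfl⟩
    · rfl
    · exact ((pr_commute F L (flat_of_iso hr 0) (flat_x one_ne_zero) ((HS m).zero_left r)).mul_left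
        (pr_commute F L (flat_of_iso hr 1) (flat_x one_ne_zero) ((HS m).zero_left r))).eq
  exact mem_centralizer_singleton_iff.1 (this hg)

omit [Group G] [Finite G] F L in
/-- A group generated by translations with these relations is small. -/
theorem card_le_of_relations {E : Type*} [Group E] [Finite E] {n : ℕ} {X : E} (hX : X * X = 1)
    (hc : ∀ g, Commute g X) (t : Vec (n + 2) → E) (hgen : closure (insert X (Set.range t)) = ⊤)
    (hsq : ∀ r, t r * t r = 1) (ht : ∀ r, ¬ Iso (n + 2) r → t r = 1)
    (hcomm : ∀ r r', Iso (n + 2) r → Iso (n + 2) r' → t r * t r' * t r = t r' ∨ t r * t r' * t r = X * t r')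
    (hadd : ∀ r r', Iso (n + 2) r → Iso (n + 2) r' → Iso (n + 2) (r + r') →
      t r * t r' * t (r + r') = X ∨ t (r + r') = t r * t r') :
    Nat.card E ≤ 2 * 4 ^ (n + 2) := by
  classical
  set N := zpowers X with hN
  haveI : N.Normal := ⟨fun y hy g => by
    obtain ⟨i, rfl⟩ := mem_zpowers_iff.1 hy
    rw [((hc g).zpow_right i).eq, mul_assoc, mul_inv_cancel, mul_one]
    exact hy⟩
  set π : E →* E ⧸ N := QuotientGroup.mk' N with hπ
  have hπX : π X = 1 := (QuotientGroup.eq_one_iff X).2 (mem_zpowers X)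
  have hπsurj : Function.Surjective π := QuotientGroup.mk'_surjective N
  have hgen' : ∀ g, π g ∈ closure (Set.range fun r => π (t r)) := by
    have hle : closure (insert X (Set.range t)) ≤ (closure (Set.range fun r => π (t r))).comap π :=
      (closure_le _).2 (by
        rintro y (rfl | ⟨r, rfl⟩)
        · exact mem_comap.2 (hπX.symm ▸ one_mem _)
        · exact mem_comap.2 (subset_closure ⟨r, rfl⟩))
    exact fun g => hle (hgen ▸ mem_top g)
  have hsq' : ∀ r, π (t r) * π (t r) = 1 := fun r => by rw [← map_mul, hsq, map_one]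
  have hcc : ∀ r r', Commute (π (t r)) (π (t r')) := by
    intro r r'
    by_cases hr : Iso (n + 2) r
    swap
    · rw [ht r hr, map_one]; exact Commute.one_left _
    by_cases hr' : Iso (n + 2) r'
    swap
    · rw [ht r' hr', map_one]; exact Commute.one_right _
    have e1 : π (t r) * π (t r') * π (t r) = π (t r') := by
      rw [← map_mul, ← map_mul]
      rcases hcomm r r' hr hr' with h | h
      · rw [h]
      · rw [h, map_mul, hπX, one_mul]
    calc π (t r) * π (t r') = π (t r) * π (t r') * π (t r) * π (t r) := by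
          rw [mul_assoc (π (t r) * π (t r')), hsq', mul_one]
      _ = π (t r') * π (t r) := by rw [e1]
  have hab : ∀ a b : E ⧸ N, a * b = b * a := by
    intro a b
    obtain ⟨g, rfl⟩ := hπsurj a
    obtain ⟨k, rfl⟩ := hπsurj b
    have h1 : closure (Set.range fun r => π (t r)) ≤ centralizer (Set.range fun r => π (t r)) :=
      (closure_le _).2 fun y hy => by
        rw [SetLike.mem_coe, mem_centralizer_iff]
        rintro _ ⟨r', rfl⟩
        obtain ⟨r, rfl⟩ := hy
        exact (hcc r' r).eq
    have h2 : closure (Set.range fun r => π (t r)) ≤ centralizer {π g} := (closure_le _).2 fun y hy => by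
      rw [SetLike.mem_coe, mem_centralizer_singleton_iff]
      exact mem_centralizer_iff.1 (h1 (hgen' g)) y hy
    exact (mem_centralizer_singleton_iff.1 (h2 (hgen' k))).symm
  letI : CommGroup (E ⧸ N) := { (inferInstance : Group (E ⧸ N)) with mul_comm := hab }
  have h2 : ∀ a : E ⧸ N, a * a = 1 := by
    intro a
    obtain ⟨g, rfl⟩ := hπsurj a
    have hg := hgen' g
    revert hg
    generalize π g = y
    intro hg
    induction hg using closure_induction with
    | mem y hy => obtain ⟨r, rfl⟩ := hy; exact hsq' r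
    | one => exact one_mul 1
    | mul y y' _ _ hy hy' => rw [mul_mul_mul_comm, hy, hy', one_mul]
    | inv y _ hy => rw [← mul_inv_rev, hy, inv_one]
  obtain ⟨Λ, hΛ⟩ := exists_additive (M := Additive (E ⧸ N)) (fun a => h2 a.toMul)
    (fun r => Additive.ofMul (π (t r))) fun r r' hr hr' hs => by
      show π (t (r + r')) = π (t r) * π (t r')
      rcases hadd r r' hr hr' hs with h | h
      · have h' := congrArg π h
        rw [map_mul, map_mul, hπX] at h'
        calc π (t (r + r')) = π (t r) * π (t r') * π (t (r + r')) * π (t (r + r')) := by rw [h', one_mul]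
          _ = _ := by rw [mul_assoc, hsq', mul_one]
      · rw [h, map_mul]
  have hsurj : Function.Surjective fun v => (Λ v).toMul := by
    intro q
    obtain ⟨g, rfl⟩ := hπsurj q
    have hg := hgen' g
    revert hg
    generalize π g = y
    intro hg
    induction hg using closure_induction with
    | mem y hy =>
      obtain ⟨r, rfl⟩ := hy
      by_cases hr : Iso (n + 2) r
      · exact ⟨r, by simp only [hΛ r hr]; rfl⟩
      · exact ⟨0, by simp only [map_zero, ht r hr, map_one]; rfl⟩
    | one => exact ⟨0, by simp only [map_zero]; rfl⟩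
    | mul y y' _ _ hy hy' =>
      obtain ⟨v, rfl⟩ := hy; obtain ⟨v', rfl⟩ := hy'
      exact ⟨v + v', by simp only [map_add]; rfl⟩
    | inv y _ hy =>
      obtain ⟨v, rfl⟩ := hy
      exact ⟨-v, by simp only [map_neg]; rfl⟩
  have hQ : Nat.card (E ⧸ N) ≤ 4 ^ (n + 2) := by
    refine (Nat.card_le_card_of_surjective _ hsurj).trans_eq ?_
    rw [Nat.card_fun, Nat.card_eq_fintype_card (α := KQuad), KQuad.card_eq, Nat.card_fin]
  have hNle : Nat.card N ≤ 2 := by
    rw [hN, Nat.card_zpowers]
    exact orderOf_le_of_pow_eq_one (by norm_num) (by rw [pow_two]; exact hX)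
  rw [Subgroup.card_eq_card_quotient_mul_card_subgroup N]
  calc _ ≤ 4 ^ (n + 2) * 2 := Nat.mul_le_mul hQ hNle
    _ = _ := Nat.mul_comm _ _

/-- There are no more translations than affine points. -/
theorem card_translations : Nat.card (Eg x c e) ≤ 2 * 4 ^ m := by
  classical
  obtain ⟨n, rfl⟩ : ∃ n, m = n + 2 := ⟨m - 2, by have := F.dim; omega⟩
  haveI := finite_sisom (n + 2 + 2)
  let t : Vec (n + 2) → Eg x c e := fun r => if hr : Iso (n + 2) r then ⟨Tr x c e r, tr_mem' hr⟩ else 1
  have htv : ∀ r, Iso (n + 2) r → (t r : G × (HS (n + 2 + 2)).SIsom) = Tr x c e r := fun r hr => by simp [t, hr]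
  refine card_le_of_relations (X := ⟨Xp x c e, xp_mem⟩) (Subtype.ext (xp_sq F L))
    (fun g => Subtype.ext (xp_central F L g.2).eq) t ?_ (fun r => ?_) (fun r hr => dif_neg hr)
    (fun r r' hr hr' => ?_) fun r r' hr hr' hs => ?_
  · refine eq_top_iff.2 (le_trans (closure_closure_coe_preimage
      (k := insert (Xp x c e) (Tr x c e '' {r | Iso (n + 2) r}))).ge (closure_mono ?_))
    rintro g (hg | ⟨r, hr, hg⟩)
    · exact Or.inl (Subtype.ext hg)
    · exact Or.inr ⟨r, Subtype.ext ((htv r hr).trans hg)⟩
  · by_cases hr : Iso (n + 2) r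
    · exact Subtype.ext (by show (t r : G × (HS (n + 2 + 2)).SIsom) * t r = 1; rw [htv r hr, tr_sq F L hr])
    · simp [t, hr]
  · refine (tr_commutator F L hr hr').imp (fun h => Subtype.ext ?_) fun h => Subtype.ext ?_ <;>
      simp only [Subgroup.coe_mul, htv r hr, htv r' hr'] <;> exact h
  · have h0 : (HS (n + 2)).h r' r + (HS (n + 2)).σ ((HS (n + 2)).h r' r) = 0 := by
      have := hs.2
      rw [(HS _).add_left, (HS _).add_right, (HS _).add_right, hr.2, hr'.2, (HS _).symm r r'] at this
      linear_combination this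
    rcases (four (n + 2)).fixed_cases ((four (n + 2)).eq_of_add (by rw [add_comm]; exact h0)) with h | h
    · refine Or.inl (Subtype.ext ?_)
      simp only [Subgroup.coe_mul, htv r hr, htv r' hr', htv _ hs]
      exact tr_zero F L hr hr' hs h
    · refine Or.inr (Subtype.ext ?_)
      simp only [Subgroup.coe_mul, htv r hr, htv r' hr', htv _ hs]
      exact tr_one F L hr hr' h

end Cfsg.Lib.ThreeTr.TwoCorePerp.Unitary
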