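import Cfsg.Agent.ThreeTransposition.TwoCorePerp.Unitary.Labels

/-!
The transports are not all trivial: otherwise the fibres split into invariant sections and the product of five
members of a line fails to act trivially. This gives the labels.
-/

set_option autoImplicit false
set_option linter.unusedSectionVars false
set_option linter.style.haveILetI false

namespace Cfsg.Lib.ThreeTr.TwoCorePerp.Unitary

open Cfsg Subgroup Cfsg.Lib.ThreeTr Cfsg.Lib.Classical Cfsg.Lib.TTUnitary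
open Cfsg.Lib.ThreeTr.SolvablePerp (cls perp_symm self_mem_cls)
open Cfsg.Lib.ThreeTr.SolvablePerp.Model (HS four)
open Cfsg.Lib.PrimeGraph (KQuad)

universe u

variable {G : Type u} [Group G] [Finite G] {S : Set G} {x z : G} {m : ℕ} {c : Vec m → G}

/-- The product of five members of a line is trivial. -/
theorem five (U : Uni S) {y a : G} (hy : y ∈ S) (ha : a ∈ perp S y) {p q u v r : G}
    (hd : [p, q, u, v, r].Nodup) (hmem : ∀ t ∈ [p, q, u, v, r], t ∈ line S y a) : p * q * u * v * r = 1 :=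
  U.cent _ fun _ hd' => U.prod_five hy ha (U.wid y hy a ha) hd hmem hd'

/-- In the fibre at `t`, the product of two members is `x * t` times the third. -/
theorem cl_mul (F : Frame S x z m c) {t a b d : G} (ht : t ∈ perp S x ∩ perp S z) (ha : a ∈ Cl S x t)
    (hb : b ∈ Cl S x t) (hd : d ∈ Cl S x t) (hab : a ≠ b) (had : a ≠ d) (hbd : b ≠ d) : a * b = x * t * d := by
  have hL : ∀ w ∈ [a, b, d, t, x], w ∈ line S x t := by
    simp only [List.forall_mem_cons]
    exact ⟨Or.inr ha.1, Or.inr hb.1, Or.inr hd.1, mem_line_right ht.1, mem_line_left, by simp⟩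
  have hnd : [a, b, d, t, x].Nodup := by
    simp only [List.nodup_cons, List.mem_cons, List.not_mem_nil, or_false, not_or, not_false_eq_true,
      List.nodup_nil, and_true]
    exact ⟨⟨hab, had, ha.2, ha.1.1.2.1⟩, ⟨hbd, hb.2, hb.1.1.2.1⟩, ⟨hd.2, hd.1.1.2.1⟩, ht.1.2.1⟩
  have h5 := five F.uni F.hx ht.1 hnd hL
  rw [show a * b * d * t * x = (a * b) * (d * t * x) by simp only [mul_assoc]] at h5
  rw [eq_inv_of_mul_eq_one_left h5, mul_inv_rev, mul_inv_rev, inv_eq F.uni.tr F.hx, inv_eq F.uni.tr ht.1.1,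
    inv_eq F.uni.tr hd.1.1.1, ← mul_assoc]

/-- Members which commute and are neither in one class at `x` nor in `T`: the rest of their line. -/
theorem line_rest (F : Frame S x z m c) {t s a : G} (ht : t ∈ perp S x ∩ perp S z)
    (hs : s ∈ perp S x ∩ perp S z) (hts : Commute t s) (hne : t ≠ s) (ha : a ∈ Cl S x t) :
    s ∈ perp S a ∧ x ∉ line S a s ∧ ∀ e ∈ line S a s, e ≠ a → e ≠ s →
      e ∈ perp S x ∧ ∃ t' ∈ perp S x ∩ perp S z, e ∈ Cl S x t' ∧ t' ≠ t := by
  have haT := cl_not_inter F ht ha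
  have hsa : s ∈ perp S a := ⟨hs.1.1, fun e => haT (e ▸ hs), (cl_comm F ha hs.1).2 hts⟩
  have hL := isLine_line ha.1.1.1 hsa
  have hxL : x ∉ line S a s := by
    intro h
    have h2 : line S x a = line S a s := F.uni.line_eq' hL h mem_line_left ha.1.1.2.1
    have h1 : s ∈ line S x a := h2.symm ▸ mem_line_right hsa
    rcases h1 with h1 | h1
    · exact hs.1.2.1 h1
    · exact hne (F.uni.eq_of_cls F.hx F.hz F.hxz hs ht (cls_eq_cls ha.1 ▸ h1)).symm
  refine ⟨hsa, hxL, fun e he hea hes => ?_⟩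
  have hxe : Commute x e := F.uni.two_all hL F.hx mem_line_left (mem_line_right hsa) hsa.2.1 ha.1.1.2.2 hs.1.2.2 e he
  have hex : e ∈ perp S x := ⟨F.uni.line_sub hL he, fun e' => hxL (e' ▸ he), hxe⟩
  have heT : e ∉ perp S x ∩ perp S z := by
    intro h
    refine haT ⟨ha.1.1, ha.1.1.1, ?_, F.uni.two_all hL F.hz (mem_line_right hsa) he hes hs.2.2.2 h.2.2.2 a
      mem_line_left⟩
    intro e'
    exact F.hxz (e' ▸ ha.1.1.2.2)
  obtain ⟨t', ⟨ht', htc⟩, -⟩ := F.uni.existsUnique_inter F.hx F.hz F.hxz hex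
  refine ⟨hex, t', ht', ⟨mem_cls_symm htc hex, fun e' => heT (e' ▸ ht')⟩, fun e' => hxL ?_⟩
  have hea' : e ∈ cls S x a := by rw [cls_eq_cls ha.1, ← e']; exact mem_cls_symm htc hex
  have h2 : line S a e = line S a s := F.uni.line_eq' hL mem_line_left he hea
  rw [← h2, F.uni.line_eq' (isLine_line F.hx ha.1.1) (mem_line_right ha.1.1) (Or.inr hea') hea]
  exact mem_line_left

/-- A common neighbour commuting with one of two commuting ones and not with the other. -/
theorem exists_sep (F : Frame S x z m c) {p a : G} (hp : p ∈ perp S x ∩ perp S z)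
    (ha : a ∈ perp S x ∩ perp S z) (hne : a ≠ p) (h : Commute p a) :
    ∃ r ∈ perp S x ∩ perp S z, Commute p r ∧ ¬ Commute a r :=
  inter_sep F.uni F.hx F.hz F.hxz hp ⟨ha, hne, h⟩

/-- Transports cannot all be trivial. -/
theorem no_sections (F : Frame S x z m c) {ν : G → G → ZMod 3}
    (hν : ∀ t ∈ perp S x ∩ perp S z, Set.InjOn (ν t) (Cl S x t) ∧ ∀ i, ∃ a ∈ Cl S x t, ν t a = i)
    (htriv : ∀ p q, Adj S x z p q → ∀ a ∈ Cl S x p, ν q (tr p q a) = ν p a) : False := by
  classical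
  haveI : Nonempty G := ⟨1⟩
  have hE := F.uni.tr
  set σ : KQuad → G → G := fun k t => if k = 0 then t else Function.invFunOn (ν t) (Cl S x t) (lg k) with hσ
  have hσ0 : ∀ t, σ 0 t = t := fun t => if_pos rfl
  have hσ1 : ∀ k t, k ≠ 0 → t ∈ perp S x ∩ perp S z → σ k t ∈ Cl S x t ∧ ν t (σ k t) = lg k := by
    intro k t hk ht
    have hex : ∃ a ∈ Cl S x t, ν t a = lg k := (hν t ht).2 _
    simp only [hσ, if_neg hk]
    exact ⟨Function.invFunOn_mem hex, Function.invFunOn_eq hex⟩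
  have hσu : ∀ k t a, k ≠ 0 → t ∈ perp S x ∩ perp S z → a ∈ Cl S x t → ν t a = lg k → a = σ k t :=
    fun k t a hk ht ha h => (hν t ht).1 ha (hσ1 k t hk ht).1 (h.trans (hσ1 k t hk ht).2.symm)
  have hσS : ∀ k t, t ∈ perp S x ∩ perp S z → σ k t ∈ perp S x := fun k t ht => by
    by_cases hk : k = 0
    · rw [hk, hσ0]; exact ht.1
    · exact (hσ1 k t hk ht).1.1.1
  have hσc : ∀ k t q, t ∈ perp S x ∩ perp S z → q ∈ perp S x → (Commute (σ k t) q ↔ Commute t q) := by
    intro k t q ht hq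
    by_cases hk : k = 0
    · rw [hk, hσ0]
    · exact cl_comm F (hσ1 k t hk ht).1 hq
  have hinj : ∀ k k' t, k ≠ 0 → k' ≠ 0 → t ∈ perp S x ∩ perp S z → σ k t = σ k' t → k = k' := by
    intro k k' t hk hk' ht h
    have := congrArg (ν t) h
    rw [(hσ1 k t hk ht).2, (hσ1 k' t hk' ht).2] at this
    rw [← ex_lg k hk, this, ex_lg k' hk']
  have hsq : ∀ {q}, q ∈ S → q * q = 1 := fun hq => sq_eq_one hE hq
  have hequiv : ∀ k t q, t ∈ perp S x ∩ perp S z → q ∈ perp S x ∩ perp S z →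
      q * σ k t * q = σ k (q * t * q) := by
    intro k t q ht hq
    by_cases hk : k = 0
    · rw [hk, hσ0, hσ0]
    obtain ⟨ha, hνa⟩ := hσ1 k t hk ht
    by_cases hc : Commute t q
    · rw [← ((hσc k t q ht hq.1).2 hc).eq, ← hc.eq, mul_assoc, mul_assoc t, hsq hq.1.1, mul_one, mul_one]
    · have hadj : Adj S x z t (q * t * q) := (third_adj_left F ⟨hq, ht, fun c' => hc c'.symm⟩).symm
      refine hσu k _ _ hk hadj.2.1 ?_ ?_
      · have := conj_cl F (subset_closure hq) ha
        rwa [inv_eq hE hq.1.1] at this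
      · rw [← hνa, ← htriv t _ hadj _ ha]
        congr 1
        have e : t * (q * t * q) = q * t := by
          calc t * (q * t * q) = t * (t * q * t) := by rw [braid hE hq.1.1 ht.1.1 fun c' => hc c'.symm]
            _ = q * t := by rw [← mul_assoc, ← mul_assoc, hsq ht.1.1, one_mul]
        have hat : Commute t (σ k t) := ((hσc k t t ht ht.1).2 (Commute.refl t)).symm
        rw [tr, e, show q * t * σ k t * (q * t)⁻¹ = q * (t * σ k t * t⁻¹) * q⁻¹ by group, CoreThree.conj_fix hat,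
          inv_eq hE hq.1.1]
  -- translations shift the labels
  have shift : ∀ μ ν' t r, t ∈ perp S x ∩ perp S z → r ∈ perp S x ∩ perp S z →
      (t * σ μ t) * σ ν' r * (t * σ μ t)⁻¹ = σ ((if Commute t r then 0 else μ) + ν') r := by
    intro μ ν' t r ht hr
    have tS := ht.1.1
    have aS := (hσS μ t ht).1
    have hinv : (t * σ μ t)⁻¹ = σ μ t * t := by rw [mul_inv_rev, inv_eq hE tS, inv_eq hE aS]
    by_cases hc : Commute t r
    · rw [if_pos hc, zero_add]
      have c1 : Commute t (σ ν' r) := ((hσc ν' r t hr ht.1).2 hc.symm).symm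
      have c2 : Commute (σ μ t) (σ ν' r) := (hσc μ t _ ht (hσS ν' r hr)).2 c1
      exact CoreThree.conj_fix (c1.mul_left c2)
    rw [if_neg hc]
    by_cases hμ : μ = 0
    · rw [hμ, hσ0, hsq tS, zero_add]; simp
    obtain ⟨ha, -⟩ := hσ1 μ t hμ ht
    set a := σ μ t with hadef
    have hta : Commute t a := ((hσc μ t t ht ht.1).2 (Commute.refl t)).symm
    have hat : ¬ Commute a r := fun h => hc ((cl_comm F ha hr.1).1 h)
    set r' := r * t * r with hr'
    have hr'T : r' ∈ perp S x ∩ perp S z := F.mem_conj hr ht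
    have ertr : t * r' * t = r := by
      rw [hr', braid hE hr.1.1 tS fun c' => hc c'.symm, invol_conj_conj (hsq tS)]
    by_cases hν' : ν' = 0
    · rw [hν', hσ0, add_zero, hinv]
      calc t * a * r * (a * t) = t * (r * a * r) * t := by
            rw [← braid hE aS hr.1.1 hat]; simp only [mul_assoc]
        _ = t * σ μ r' * t := by rw [hequiv μ t r ht hr]
        _ = σ μ r := by rw [hequiv μ r' t hr'T ht, ertr]
    obtain ⟨hb, -⟩ := hσ1 ν' t hν' ht
    set d := σ ν' t with hddef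
    have hdr : ¬ Commute d r := fun h => hc ((cl_comm F hb hr.1).1 h)
    have hbv : σ ν' r = t * (d * r * d) * t := by
      rw [braid hE hb.1.1.1 hr.1.1 hdr, hequiv ν' t r ht hr, hequiv ν' r' t hr'T ht, ertr]
    have e1 : t * a * σ ν' r * (t * a)⁻¹ = (a * d) * r * (a * d)⁻¹ := by
      rw [hbv, hinv, mul_inv_rev, inv_eq hE aS, inv_eq hE hb.1.1.1]
      calc t * a * (t * (d * r * d) * t) * (a * t) = (t * a * t) * (d * r * d) * (t * a * t) := by
            simp only [mul_assoc]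
        _ = a * d * r * (d * a) := by
            rw [hta.eq, mul_assoc a t t, hsq tS, mul_one]; simp only [mul_assoc]
    rw [e1]
    by_cases heq : μ = ν'
    · subst heq
      rw [hsq aS, kadd_self, hσ0]; simp
    have hsum : μ + ν' ≠ 0 := fun h => heq ((four m).eq_of_add h)
    obtain ⟨hd3, -⟩ := hσ1 (μ + ν') t hsum ht
    have hne1 : a ≠ d := fun h => heq (hinj μ ν' t hμ hν' ht h)
    have hne2 : a ≠ σ (μ + ν') t := fun h => hν' (by
      have := hinj μ (μ + ν') t hμ hsum ht h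
      exact left_eq_add.1 this)
    have hne3 : d ≠ σ (μ + ν') t := fun h => hμ (by
      have := hinj ν' (μ + ν') t hν' hsum ht h
      exact right_eq_add.1 this)
    rw [cl_mul F ht ha hb hd3 hne1 hne2 hne3]
    set e := σ (μ + ν') t with hedef
    have her : ¬ Commute e r := fun h => hc ((cl_comm F hd3 hr.1).1 h)
    have hmem : σ (μ + ν') r' ∈ perp S x := hσS _ r' hr'T
    calc x * t * e * r * (x * t * e)⁻¹ = x * (t * (e * r * e⁻¹) * t⁻¹) * x⁻¹ := by group
      _ = x * (t * σ (μ + ν') r' * t) * x⁻¹ := by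
          rw [inv_eq hE hd3.1.1.1, braid hE hd3.1.1.1 hr.1.1 her, hequiv (μ + ν') t r ht hr, inv_eq hE tS]
      _ = x * σ (μ + ν') r * x⁻¹ := by rw [hequiv _ r' t hr'T ht, ertr]
      _ = _ := CoreThree.conj_fix (hσS _ r hr).2.2
  -- a line with a member off `T`
  obtain ⟨t, ht⟩ := F.uni.exists_inter F.hx F.hz F.hxz
  obtain ⟨vt, hvt, rfl⟩ := F.surj t ht
  obtain ⟨r₀, hr₀, hr0t⟩ := exists_iso_one (by have := F.dim; omega) hvt.1 1 one_ne_zero
  have hP : Pair (HS m) ⊤ r₀ vt := ⟨trivial, trivial, hr₀.2, hvt.2, hr0t⟩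
  obtain ⟨vs, hvs2, hvs0, hvss⟩ := exists_iso (hP.nondeg (four m) nondeg_top) (by
    have h2 := hP.finrank (four m)
    rw [finrank_top, Module.finrank_fin_fun] at h2
    have := F.dim
    omega)
  obtain ⟨-, hvr, hvv⟩ := mem_perp2.1 hvs2
  have hs := F.mem vs ⟨hvs0, hvss⟩
  have hts : Commute (c vt) (c vs) := (F.comm vt vs hvt ⟨hvs0, hvss⟩).2 (h_swap hvv)
  have hne : c vt ≠ c vs := by
    intro h
    obtain ⟨a, -, e⟩ := F.inj vt vs hvt ⟨hvs0, hvss⟩ h
    have ha0 := congrArg (fun v => (HS m).h v r₀) e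
    simp only [(HS m).smul_left, hvr, show (HS m).h vt r₀ = 1 from hP.flip, mul_one] at ha0
    rw [← ha0, zero_smul] at e
    exact hvs0 e
  set t := c vt
  set s := c vs
  obtain ⟨ha, -⟩ := hσ1 1 t one_ne_zero ht
  set a := σ 1 t with hadef
  obtain ⟨hsa, hxL, hrest⟩ := line_rest F ht hs hts hne ha
  have hL := isLine_line ha.1.1.1 hsa
  have h3 : (line S a s \ {a, s}).ncard = 3 := by
    rw [Set.ncard_sdiff (Set.insert_subset mem_line_left (Set.singleton_subset_iff.2 (mem_line_right hsa))),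
      F.uni.ncard_line hL ha.1.1.1 hsa, F.uni.wid a ha.1.1.1 s hsa, Set.ncard_pair hsa.2.1.symm]
  obtain ⟨e₁, e₂, e₃, h12, h13, h23, heq⟩ := Set.ncard_eq_three.1 h3
  have hmemL : ∀ e ∈ ({e₁, e₂, e₃} : Set G), e ∈ line S a s ∧ e ≠ a ∧ e ≠ s := fun e he => by
    rw [← heq] at he
    simp only [Set.mem_sdiff, Set.mem_insert_iff, Set.mem_singleton_iff, not_or] at he
    exact he
  have hlab : ∀ e ∈ ({e₁, e₂, e₃} : Set G), e ∈ line S a s ∧ e ≠ a ∧ e ≠ s ∧
      ∃ t' ∈ perp S x ∩ perp S z, t' ≠ t ∧ ∃ k, k ≠ 0 ∧ σ k t' = e := fun e he => by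
    obtain ⟨h1, h2, h3⟩ := hmemL e he
    obtain ⟨-, t', ht', het, htne⟩ := hrest e h1 h2 h3
    exact ⟨h1, h2, h3, t', ht', htne, ex (ν t' e), ex_ne_zero _,
      (hσu _ t' e (ex_ne_zero _) ht' het (lg_ex _).symm).symm⟩
  obtain ⟨m1, a1, s1, t₁, ht₁, n1, k₁, hk₁, e1⟩ := hlab e₁ (by simp)
  obtain ⟨m2, a2, s2, t₂, ht₂, n2, k₂, hk₂, e2⟩ := hlab e₂ (by simp)
  obtain ⟨m3, a3, s3, t₃, ht₃, n3, k₃, hk₃, e3⟩ := hlab e₃ (by simp)
  have h5 : a * e₁ * e₂ * e₃ * s = 1 := by
    refine five F.uni ha.1.1.1 hsa ?_ ?_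
    · simp only [List.nodup_cons, List.mem_cons, List.not_mem_nil, or_false, not_or, not_false_eq_true,
        List.nodup_nil, and_true]
      exact ⟨⟨a1.symm, a2.symm, a3.symm, hsa.2.1.symm⟩, ⟨h12, h13, s1⟩, ⟨h23, s2⟩, s3⟩
    · simp only [List.forall_mem_cons]
      exact ⟨mem_line_left, m1, m2, m3, mem_line_right hsa, by simp⟩
  have hcomm : ∀ {k k'} {q q'}, q ∈ perp S x ∩ perp S z → q' ∈ perp S x ∩ perp S z → Commute (σ k q) (σ k' q') →
      ∀ i j, Commute (σ i q) (σ j q') := fun {k k' q q'} hq hq' h i j => by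
    rw [hσc i q _ hq (hσS j q' hq')]
    have := (hσc k q _ hq (hσS k' q' hq')).1 h
    exact ((hσc j q' q hq' hq.1).2 ((hσc k' q' q hq' hq.1).1 this.symm)).symm
  have lc : ∀ {p q}, p ∈ line S a s → q ∈ line S a s → Commute p q := fun hp hq => F.uni.line_comm hL hp hq
  -- the translations multiply to an element of the group of `T`
  set w := t * t₁ * t₂ * t₃ with hw
  have hprod : (t * a) * (t₁ * e₁) * (t₂ * e₂) * (t₃ * e₃) = w * s := by
    have hs2 : a * e₁ * e₂ * e₃ = s := by rw [eq_inv_of_mul_eq_one_left h5, inv_eq hE hs.1.1]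
    have c1 : Commute a t₁ := by
      have := hcomm ht ht₁ (e1 ▸ lc mem_line_left m1 : Commute (σ 1 t) (σ k₁ t₁)) 1 0
      rwa [hσ0] at this
    have c2 : Commute a t₂ := by
      have := hcomm ht ht₂ (e2 ▸ lc mem_line_left m2 : Commute (σ 1 t) (σ k₂ t₂)) 1 0
      rwa [hσ0] at this
    have c3 : Commute a t₃ := by
      have := hcomm ht ht₃ (e3 ▸ lc mem_line_left m3 : Commute (σ 1 t) (σ k₃ t₃)) 1 0
      rwa [hσ0] at this
    have c12 : Commute e₁ t₂ := by
      have := hcomm ht₁ ht₂ (e1 ▸ e2 ▸ lc m1 m2 : Commute (σ k₁ t₁) (σ k₂ t₂)) k₁ 0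
      rwa [hσ0, e1] at this
    have c13 : Commute e₁ t₃ := by
      have := hcomm ht₁ ht₃ (e1 ▸ e3 ▸ lc m1 m3 : Commute (σ k₁ t₁) (σ k₃ t₃)) k₁ 0
      rwa [hσ0, e1] at this
    have c23 : Commute e₂ t₃ := by
      have := hcomm ht₂ ht₃ (e2 ▸ e3 ▸ lc m2 m3 : Commute (σ k₂ t₂) (σ k₃ t₃)) k₂ 0
      rwa [hσ0, e2] at this
    calc (t * a) * (t₁ * e₁) * (t₂ * e₂) * (t₃ * e₃) = t * (a * t₁) * (e₁ * t₂) * (e₂ * t₃) * e₃ := by
          simp only [mul_assoc]
      _ = t * (t₁ * a) * (t₂ * e₁) * (t₃ * e₂) * e₃ := by rw [c1.eq, c12.eq, c23.eq]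
      _ = t * t₁ * (a * t₂) * (e₁ * t₃) * e₂ * e₃ := by simp only [mul_assoc]
      _ = t * t₁ * (t₂ * a) * (t₃ * e₁) * e₂ * e₃ := by rw [c2.eq, c13.eq]
      _ = t * t₁ * t₂ * (a * t₃) * e₁ * e₂ * e₃ := by simp only [mul_assoc]
      _ = t * t₁ * t₂ * (t₃ * a) * e₁ * e₂ * e₃ := by rw [c3.eq]
      _ = w * (a * e₁ * e₂ * e₃) := by rw [hw]; simp only [mul_assoc]
      _ = w * s := by rw [hs2]
  have key : ∀ r ∈ perp S x ∩ perp S z,
      (if Commute t r then (0 : KQuad) else 1) + ((if Commute t₁ r then 0 else k₁) +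
        ((if Commute t₂ r then 0 else k₂) + ((if Commute t₃ r then 0 else k₃) + 0))) = 0 := by
    intro r hr
    set K := (if Commute t r then (0 : KQuad) else 1) + ((if Commute t₁ r then 0 else k₁) +
      ((if Commute t₂ r then 0 else k₂) + ((if Commute t₃ r then 0 else k₃) + 0))) with hK
    by_contra hne0
    have hlhs : ((t * a) * (t₁ * e₁) * (t₂ * e₂) * (t₃ * e₃)) * r *
        ((t * a) * (t₁ * e₁) * (t₂ * e₂) * (t₃ * e₃))⁻¹ = σ K r := by
      rw [hK, ← shift 1 _ t r ht hr, ← shift k₁ _ t₁ r ht₁ hr, ← shift k₂ _ t₂ r ht₂ hr,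
        ← shift k₃ _ t₃ r ht₃ hr, hσ0, e1, e2, e3, ← hadef]
      group
    rw [hprod] at hlhs
    have hwT : w * s * r * (w * s)⁻¹ ∈ perp S x ∩ perp S z :=
      (conj_translation F (ν := ν) (b := fun _ _ => 0) (fun p q h a ha => by rw [htriv p q h a ha, add_zero])
        (mul_mem (mul_mem (mul_mem (mul_mem (subset_closure ht) (subset_closure ht₁)) (subset_closure ht₂))
          (subset_closure ht₃)) (subset_closure hs)) r hr).1
    rw [hlhs] at hwT
    exact cl_not_inter F hr (hσ1 K r hne0 hr).1 hwT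
  have ncomm : ∀ {r e : G}, r ∈ perp S x ∩ perp S z → e ∈ line S a s → Commute r e → ¬ Commute t r →
      ∀ e' ∈ line S a s, e' ≠ e → ¬ Commute r e' := fun {r e} hr he hre hrt e' he' hne' h =>
    hrt ((cl_comm F ha hr.1).1 (F.uni.two_all hL hr.1.1 he he' hne' hre h a mem_line_left).symm)
  obtain ⟨r, hr, hsr, htr'⟩ := exists_sep F hs ht hne hts.symm
  have hrs := ncomm hr (mem_line_right hsa) hsr.symm htr'
  have hn : ∀ {e t' k}, t' ∈ perp S x ∩ perp S z → σ k t' = e → ¬ Commute r e → ¬ Commute t' r :=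
    fun {e t' k} ht' he h c' => h (he ▸ ((hσc k t' r ht' hr.1).2 c').symm)
  have E1 := key r hr
  rw [if_neg htr', if_neg (hn ht₁ e1 (hrs _ m1 s1)), if_neg (hn ht₂ e2 (hrs _ m2 s2)),
    if_neg (hn ht₃ e3 (hrs _ m3 s3))] at E1
  have ht1t : Commute t₁ t := by
    have := hcomm ht₁ ht (e1 ▸ lc m1 mem_line_left : Commute (σ k₁ t₁) (σ 1 t)) 0 0
    rwa [hσ0, hσ0] at this
  obtain ⟨r', hr', h1r, htr''⟩ := exists_sep F ht₁ ht n1.symm ht1t
  have hre1 : Commute r' e₁ := e1 ▸ ((hσc k₁ t₁ r' ht₁ hr'.1).2 h1r).symm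
  have hrs' := ncomm hr' m1 hre1 htr''
  have hn' : ∀ {e t' k}, t' ∈ perp S x ∩ perp S z → σ k t' = e → ¬ Commute r' e → ¬ Commute t' r' :=
    fun {e t' k} ht' he h c' => h (he ▸ ((hσc k t' r' ht' hr'.1).2 c').symm)
  have E2 := key r' hr'
  rw [if_neg htr'', if_pos h1r, if_neg (hn' ht₂ e2 (hrs' _ m2 h12.symm)),
    if_neg (hn' ht₃ e3 (hrs' _ m3 h13.symm))] at E2
  exact hk₁ (by linear_combination E1 - E2)

/-- The labels exist. -/
theorem exists_label (F : Frame S x z m c) : ∃ e : Vec m → G, Label S x z m c e := by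
  classical
  haveI : Nonempty G := ⟨1⟩
  obtain ⟨ν, b, hν, hb⟩ := exists_oriented F
  obtain ⟨hanti, k, hk⟩ := exists_ratio F hν hb
  set l : G → G → ZMod 3 := fun p q => lg ((HS m).h (rep c p) (rep c q)) with hl
  obtain ⟨φ, hφ⟩ := exists_potential F (fun p q => b p q - k * l p q)
    (fun p q h => by
      simp only [hl, hanti p q h, lg_swap (rep c p) (rep c q)]
      ring)
    (fun p q r h1 h2 h3 => by
      have := hk p q r h1 h2 h3
      simp only [hl]
      linear_combination this)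
  have hk0 : k ≠ 0 := by
    intro h0
    subst h0
    refine no_sections F (ν := fun t a => ν t a - φ t) (fun t ht => ⟨fun a ha a' ha' h => (hν t ht).1 ha ha'
      (sub_left_injective h), fun i => ?_⟩) fun p q h a ha => ?_
    · obtain ⟨a, ha, e⟩ := (hν t ht).2 (i + φ t)
      exact ⟨a, ha, by simp [e]⟩
    · have hpot := hφ p q h
      rw [zero_mul, sub_zero] at hpot
      show ν q (tr p q a) - φ q = ν p a - φ p
      rw [hb p q h a ha, hpot]
      ring
  have hk2 : k * k = 1 := (by decide : ∀ j : ZMod 3, j ≠ 0 → j * j = 1) k hk0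
  set κ : Vec m → ZMod 3 := fun r =>
    if h : ∃ a : KQuad, a ≠ 0 ∧ r = a • rep c (c r) then lg h.choose else 0 with hκ
  set e : Vec m → G := fun r => Function.invFunOn (ν (c r)) (Cl S x (c r)) (k * κ r + φ (c r)) with he
  have hκs : ∀ r, Iso m r → r = ex (κ r) • rep c (c r) := by
    intro r hr
    have h := exists_scale F hr
    simp only [hκ, dif_pos h]
    rw [ex_lg _ h.choose_spec.1]
    exact h.choose_spec.2
  have hes : ∀ r, Iso m r → e r ∈ Cl S x (c r) ∧ ν (c r) (e r) = k * κ r + φ (c r) := fun r hr => by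
    have hex : ∃ a ∈ Cl S x (c r), ν (c r) a = k * κ r + φ (c r) := (hν _ (F.mem r hr)).2 _
    exact ⟨Function.invFunOn_mem hex, Function.invFunOn_eq hex⟩
  have hscal : ∀ {v : Vec m} (i j : ZMod 3), v ≠ 0 → ex i • v = ex j • v → i = j := fun {v} i j hv h => by
    have := smul_left_injective KQuad hv h
    rw [← lg_ex i, this, lg_ex]
  refine ⟨e, fun r hr => (hes r hr).1, fun t ht a ha => ?_, fun r r' hr hr' h => ?_, fun r s hr hs => ?_⟩
  · obtain ⟨hi, hc⟩ := rep_spec F ht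
    set i := k * (ν t a - φ t) with hidef
    have hct : c (ex i • rep c t) = t := by rw [F.smul _ _ hi (ex_ne_zero i), hc]
    have hr : Iso m (ex i • rep c t) := hi.smul (ex_ne_zero i)
    refine ⟨_, hr, hct, ?_⟩
    obtain ⟨h1, h2⟩ := hes _ hr
    have hκi : κ (ex i • rep c t) = i := by
      have := hκs _ hr
      rw [hct] at this
      exact (hscal _ _ hi.1 this).symm
    rw [hct] at h1 h2
    rw [hκi, hidef] at h2
    refine (hν t ht).1 h1 ha (h2.trans ?_)
    linear_combination (ν t a - φ t) * hk2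
  · have hcc : c r = c r' := cl_disjoint F (F.mem r hr) (F.mem r' hr') (hes r hr).1 (h ▸ (hes r' hr').1)
    have h2 := (hes r hr).2
    rw [h, hcc, (hes r' hr').2] at h2
    have : κ r' = κ r := mul_left_cancel₀ hk0 (add_right_cancel h2)
    rw [hκs r hr, hκs r' hr', hcc, this]
  · obtain ⟨hcl, hval⟩ := hes r hr
    have hsT := F.mem s hs
    have hrT := F.mem r hr
    by_cases hc : (HS m).h r s = 0
    · rw [tv_fix (four m) hs.2 hc]
      have h1 : Commute (c s) (e r) := ((cl_comm F hcl hsT.1).2 ((F.comm r s hr hs).2 hc)).symm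
      rw [h1.eq, mul_assoc, sq_eq_one F.uni.tr hsT.1.1, mul_one]
    set r' := (tv (four m) s).1.1 r with hr'
    have hr'i : Iso m r' := hr.map _
    have hcr : c s * c r * c s = c r' := F.conj s r hs hr
    have hnc : ¬ Commute (c r) (c s) := fun h => hc ((F.comm r s hr hs).1 h)
    have hadj : Adj S x z (c r) (c r') := by
      rw [← hcr]
      exact (third_adj_left F ⟨hsT, hrT, fun h => hnc h.symm⟩).symm
    obtain ⟨hcl', hval'⟩ := hes r' hr'i
    have hmem : c s * e r * c s ∈ Cl S x (c r') := by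
      have := conj_cl F (subset_closure hsT) hcl
      rwa [inv_eq F.uni.tr hsT.1.1, hcr] at this
    refine (hν _ (F.mem r' hr'i)).1 hmem hcl' ?_
    rw [hval']
    have htr : tr (c r) (c r') (e r) = c s * e r * c s := by
      have hat : Commute (c r) (e r) := ((cl_comm F hcl hrT.1).2 (Commute.refl _)).symm
      have e0 : c r * c r' = c s * c r := by
        rw [← hcr, braid F.uni.tr hsT.1.1 hrT.1.1 fun h => hnc h.symm, ← mul_assoc, ← mul_assoc,
          sq_eq_one F.uni.tr hrT.1.1, one_mul]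
      rw [tr, e0, show c s * c r * e r * (c s * c r)⁻¹ = c s * (c r * e r * (c r)⁻¹) * (c s)⁻¹ by group,
        CoreThree.conj_fix hat, inv_eq F.uni.tr hsT.1.1]
    rw [← htr, hb _ _ hadj _ hcl, hval]
    have hpot := hφ _ _ hadj
    have hone : (HS m).h r r' = 1 := by
      rw [hr', tv_apply (four m) hs.2, (HS m).add_right, (HS m).smul_right, hr.2, zero_add,
        (four m).norm_flip hc]
    have hll : lg ((HS m).h r r') = κ r - κ r' + l (c r) (c r') := by
      conv_lhs => rw [hκs r hr, hκs r' hr'i]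
      rw [lg_smul_smul (ex_ne_zero _) (ex_ne_zero _) (rep_ne_zero F hadj), lg_ex, lg_ex]
    rw [hone, (lg_eq_zero 1 one_ne_zero).2 rfl] at hll
    linear_combination hpot - k * hll

end Cfsg.Lib.ThreeTr.TwoCorePerp.Unitary
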