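import Cfsg.Agent.ThreeTransposition.SolvablePerp.Model

/-!
Unitary spaces over four elements with two coordinates split off as a hyperbolic pair.
-/

set_option autoImplicit false
set_option linter.unusedSectionVars false
set_option linter.style.haveILetI false

namespace Cfsg.Lib.ThreeTr.TwoCorePerp.Unitary

open Cfsg Subgroup Cfsg.Lib.Classical Cfsg.Lib.TTUnitary
open Cfsg.Lib.ThreeTr.SolvablePerp.Model (HS four h_eq)
open Cfsg.Lib.PrimeGraph (KQuad)

/-- The vectors of length `n`. -/
abbrev Vec (n : ℕ) := Fin n → KQuad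

/-- Nonzero isotropic vectors. -/
def Iso (n : ℕ) (v : Vec n) : Prop := v ≠ 0 ∧ (HS n).h v v = 0

/-- A generator of the multiplicative group. -/
def om : KQuad := KQuad.ofCode 2

theorem om_ne_zero : om ≠ 0 := by decide +kernel

theorem conj_eq (n : ℕ) (a : KQuad) : (HS n).σ a = a * a := by
  show powConj SolvablePerp.Model.hK a = a * a
  rw [powConj_apply, sq]

theorem k_cases (a : KQuad) : a = 0 ∨ a = 1 ∨ a = om ∨ a = om * om := by
  revert a; simp only [KQuad.forall_iff]; decide +kernel

theorem om_facts : om + om * om = 1 ∧ om * om + om = 1 ∧ om * (om * om) = 1 ∧ 1 + om = om * om ∧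
    1 + om * om = om := by decide +kernel

theorem kadd_self (a : KQuad) : a + a = 0 := CharTwo.add_self_eq_zero a

variable {n : ℕ}

theorem four_n : Four (HS n) := four n

theorem Iso.smul {v : Vec n} (hv : Iso n v) {a : KQuad} (ha : a ≠ 0) : Iso n (a • v) :=
  ⟨smul_ne_zero ha hv.1, by rw [(four n).h_smul_smul ha, hv.2]⟩

theorem Iso.map {v : Vec n} (hv : Iso n v) (g : (HS n).SIsom) : Iso n (g.1.1 v) :=
  ⟨(HS n).isom_ne_zero g.1 hv.1, by rw [(HS n).map_form, hv.2]⟩

theorem nondeg_top : (HS n).NondegOn ⊤ := fun z _ hz => (HS n).nondeg z fun w => hz w trivial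

theorem h_swap {v w : Vec n} (h : (HS n).h v w = 0) : (HS n).h w v = 0 := (HS n).eq_zero_symm h

/-- Two isotropic vectors with the same products against those orthogonal to `s` differ along `s`. -/
theorem exists_smul_of_same (hn : 4 ≤ n) {s p q : Vec n} (hs : Iso n s) (hp : Iso n p)
    (hps : (HS n).h p s = 1) (hqs : (HS n).h q s = 1)
    (h : ∀ r, Iso n r → (HS n).h r s = 0 → (HS n).h r p = 0 → (HS n).h r q = 0) :
    ∃ a : KQuad, q = p + a • s := by
  have P : Pair (HS n) ⊤ s p := ⟨trivial, trivial, hs.2, hp.2, by rw [(HS n).symm, hps, map_one]⟩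
  set w := q + (HS n).h q p • s + (HS n).h q s • p with hw
  have hwm := P.proj_mem (four n) (x := q) trivial
  rw [← hw] at hwm
  have hw0 : w = 0 := by
    by_contra hne
    obtain ⟨r, hr, hrr, hrw⟩ := exists_iso_prod (four n) (P.nondeg (four n) nondeg_top)
      (by have h2 := P.finrank (four n); rw [finrank_top, Module.finrank_fin_fun] at h2; omega) hwm hne 1
    obtain ⟨-, hrs, hrp⟩ := mem_perp2.1 hr
    have hr0 : r ≠ 0 := fun e => by rw [e, (HS n).zero_left] at hrw; exact zero_ne_one hrw
    rw [hw, (HS n).add_right, (HS n).add_right, (HS n).smul_right, (HS n).smul_right, hrs, hrp,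
      h r ⟨hr0, hrr⟩ hrs hrp] at hrw
    simp at hrw
  refine ⟨(HS n).h q p, ?_⟩
  rw [hw, hqs, one_smul, add_assoc] at hw0
  exact ((four n).eq_of_vadd hw0).trans (add_comm _ _)

/-- Isotropic vectors with a prescribed product. -/
theorem exists_iso_one (hn : 2 ≤ n) {w : Vec n} (hw : w ≠ 0) (k : KQuad) (hk : k ≠ 0) :
    ∃ r, Iso n r ∧ (HS n).h r w = k := by
  obtain ⟨r, -, hrr, hrw⟩ := exists_iso_prod (four n) nondeg_top (by rw [finrank_top, Module.finrank_fin_fun]; exact hn)
    (Submodule.mem_top (x := w)) hw k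
  exact ⟨r, ⟨fun e => hk (by rw [← hrw, e, (HS n).zero_left]), hrr⟩, hrw⟩

variable {m : ℕ}

/-- The vector with hyperbolic coordinates `a`, `b` and remainder `w`. -/
def pt (m : ℕ) (a b : KQuad) (w : Vec m) : Vec (m + 2) := Fin.append w ![a + om * b, a + om * om * b]

theorem pt_aux : ∀ a b a' b' : KQuad,
    (a + om * b) * ((a' + om * b') * (a' + om * b')) + (a + om * om * b) * ((a' + om * om * b') * (a' + om * om * b'))
      = a * (b' * b') + b * (a' * a') := by
  simp only [KQuad.forall_iff]; decide +kernel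

theorem h_pt (a b a' b' : KQuad) (w w' : Vec m) :
    (HS (m + 2)).h (pt m a b w) (pt m a' b' w') = (HS m).h w w' + (a * (b' * b') + b * (a' * a')) := by
  rw [h_eq, h_eq, Fin.sum_univ_add, ← pt_aux a b a' b']
  simp [pt, Fin.sum_univ_two]

theorem pt_surj (p : Vec (m + 2)) : ∃ a b w, p = pt m a b w := by
  refine ⟨om * om * p (Fin.natAdd m 0) + om * p (Fin.natAdd m 1), p (Fin.natAdd m 0) + p (Fin.natAdd m 1),
    fun i => p (Fin.castAdd 2 i), ?_⟩
  have key : ∀ s t : KQuad, (om * om * s + om * t) + om * (s + t) = s ∧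
      (om * om * s + om * t) + om * om * (s + t) = t := by simp only [KQuad.forall_iff]; decide +kernel
  obtain ⟨k0, k1⟩ := key (p (Fin.natAdd m 0)) (p (Fin.natAdd m 1))
  funext i
  refine Fin.addCases (fun j => ?_) (fun j => ?_) i
  · simp [pt]
  · fin_cases j
    · simpa [pt] using k0.symm
    · simpa [pt] using k1.symm

theorem pt_inj {a b a' b' : KQuad} {w w' : Vec m} (h : pt m a b w = pt m a' b' w') : a = a' ∧ b = b' ∧ w = w' := by
  have key : ∀ a b a' b' : KQuad, a + om * b = a' + om * b' → a + om * om * b = a' + om * om * b' →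
      a = a' ∧ b = b' := by simp only [KQuad.forall_iff]; decide +kernel
  have hw : w = w' := funext fun i => by simpa [pt] using congrFun h (Fin.castAdd 2 i)
  obtain ⟨e1, e2⟩ := key a b a' b' (by simpa [pt] using congrFun h (Fin.natAdd m 0))
    (by simpa [pt] using congrFun h (Fin.natAdd m 1))
  exact ⟨e1, e2, hw⟩

theorem pt_add (a b a' b' : KQuad) (w w' : Vec m) :
    pt m a b w + pt m a' b' w' = pt m (a + a') (b + b') (w + w') := by
  funext i
  refine Fin.addCases (fun j => ?_) (fun j => ?_) i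
  · simp [pt]
  · fin_cases j <;> simp [pt] <;> ring

theorem pt_smul (c a b : KQuad) (w : Vec m) : c • pt m a b w = pt m (c * a) (c * b) (c • w) := by
  funext i
  refine Fin.addCases (fun j => ?_) (fun j => ?_) i
  · simp [pt]
  · fin_cases j <;> simp [pt] <;> ring

theorem pt_zero : pt m 0 0 0 = 0 := by
  funext i
  refine Fin.addCases (fun j => ?_) (fun j => ?_) i
  · simp [pt]
  · fin_cases j <;> simp [pt]

theorem pt_eq_zero {a b : KQuad} {w : Vec m} : pt m a b w = 0 ↔ a = 0 ∧ b = 0 ∧ w = 0 := by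
  refine ⟨fun h => pt_inj (h.trans pt_zero.symm), ?_⟩
  rintro ⟨rfl, rfl, rfl⟩
  exact pt_zero

theorem tv_pt {a b a' b' : KQuad} {w w' : Vec m} (hv : (HS (m + 2)).h (pt m a b w) (pt m a b w) = 0) :
    (tv (four (m + 2)) (pt m a b w)).1.1 (pt m a' b' w') =
      pt m (a' + ((HS m).h w' w + (a' * (b * b) + b' * (a * a))) * a)
        (b' + ((HS m).h w' w + (a' * (b * b) + b' * (a * a))) * b)
        (w' + ((HS m).h w' w + (a' * (b * b) + b' * (a * a))) • w) := by
  rw [tv_apply (four (m + 2)) hv, h_pt, pt_smul, pt_add]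

/-- The affine points: those not orthogonal to the first vector of the pair, scaled. -/
def APt (m : ℕ) := {q : KQuad × Vec m // q.1 + q.1 * q.1 = (HS m).h q.2 q.2}

noncomputable instance : Fintype (APt m) := Fintype.ofFinite {q : KQuad × Vec m // q.1 + q.1 * q.1 = (HS m).h q.2 q.2}

theorem card_apt : Nat.card (APt m) = 2 * 4 ^ m := by
  classical
  have key : ∀ h a : KQuad, (h = 0 ∨ h = 1) → (a + a * a = h ↔
      a = (if h = 0 then 0 else om) ∨ a = (if h = 0 then 0 else om) + 1) := by
    simp only [KQuad.forall_iff]; decide +kernel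
  let e : Vec m × Bool → APt m := fun p =>
    ⟨((if (HS m).h p.1 p.1 = 0 then 0 else om) + (if p.2 then 1 else 0), p.1),
      (key _ _ ((four m).self_cases p.1)).2 (by cases p.2 <;> simp)⟩
  have he : Function.Bijective e := by
    constructor
    · rintro ⟨w, b⟩ ⟨w', b'⟩ h
      have h' := congrArg Subtype.val h
      simp only [e, Prod.mk.injEq] at h'
      obtain ⟨h1, rfl⟩ := h'
      cases b <;> cases b' <;> simp at h1 ⊢
    · rintro ⟨⟨a, w⟩, ha⟩
      rcases (key _ _ ((four m).self_cases w)).1 ha with h | h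
      · exact ⟨(w, false), Subtype.ext (by simpa [e] using h.symm)⟩
      · exact ⟨(w, true), Subtype.ext (by simpa [e] using h.symm)⟩
  rw [← Nat.card_eq_of_bijective e he, Nat.card_prod, Nat.card_fun, Nat.card_eq_fintype_card (α := KQuad),
    KQuad.card_eq, Nat.card_fin, Nat.card_eq_fintype_card, Fintype.card_bool, mul_comm]

end Cfsg.Lib.ThreeTr.TwoCorePerp.Unitary
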