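import Cfsg.Agent.ThreeTransposition.TwoCorePerp.Unitary.Count
import Cfsg.Agent.ThreeTransposition.TwoCorePerp.Unitary.Additive

/-!
Pairs of a member and a transvection generate a group of translations, transitive on the affine points and on
the members not commuting with `x`.
-/

set_option autoImplicit false
set_option linter.unusedSectionVars false
set_option linter.style.haveILetI false

namespace Cfsg.Lib.ThreeTr.TwoCorePerp.Unitary

open Cfsg Subgroup Cfsg.Lib.ThreeTr Cfsg.Lib.Classical Cfsg.Lib.TTUnitary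
open Cfsg.Lib.ThreeTr.SolvablePerp (cls perp_symm self_mem_cls)
open Cfsg.Lib.ThreeTr.SolvablePerp.Model (HS four)
open Cfsg.Lib.PrimeGraph (KQuad)

universe u

variable {G : Type u} [Group G] {S : Set G} {x z : G} {m : ℕ} {c e : Vec m → G}

/-- A member with its transvection. -/
noncomputable def pr (x : G) (c e : Vec m → G) (a : KQuad) (w : Vec m) : G × (HS (m + 2)).SIsom :=
  (phi x c e a w, tv (four (m + 2)) (pt m a 0 w))

/-- A translation. -/
noncomputable def Tr (x : G) (c e : Vec m → G) (r : Vec m) : G × (HS (m + 2)).SIsom :=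
  pr x c e 0 r * pr x c e 1 r

/-- The translation by one. -/
noncomputable def Xp (x : G) (c e : Vec m → G) : G × (HS (m + 2)).SIsom := pr x c e 1 0

/-- The group of translations. -/
noncomputable def Eg (x : G) (c e : Vec m → G) : Subgroup (G × (HS (m + 2)).SIsom) :=
  closure (insert (Xp x c e) (Tr x c e '' {r | Iso m r}))

/-- The vector completing the pair. -/
def vv (m : ℕ) : Vec (m + 2) := pt m 0 1 0

theorem vv_iso : (HS (m + 2)).h (vv m) (vv m) = 0 := by
  rw [vv, h_pt, (HS m).zero_left]; simp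

theorem xp_mem : Xp x c e ∈ Eg x c e := subset_closure (Set.mem_insert _ _)

theorem tr_mem' {r : Vec m} (hr : Iso m r) : Tr x c e r ∈ Eg x c e :=
  subset_closure (Set.mem_insert_of_mem _ ⟨r, hr, rfl⟩)

theorem h_vv (a : KQuad) (w : Vec m) : (HS (m + 2)).h (pt m a 0 w) (vv m) = a := by
  rw [vv, h_pt, (HS m).zero_right]; simp

variable [Finite G] (F : Frame S x z m c) (L : Label S x z m c e)
include F L

theorem pr_sq {a : KQuad} {w : Vec m} (h : Flat m a w) : pr x c e a w * pr x c e a w = 1 :=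
  Prod.ext (sq_eq_one F.uni.tr (phi_mem_S F L h)) (tv_sq (four (m + 2)) h.iso.2)

theorem pr_smul {a : KQuad} {w : Vec m} (h : Flat m a w) {k : KQuad} (hk : k ≠ 0) :
    pr x c e (k * a) (k • w) = pr x c e a w := by
  refine Prod.ext (phi_smul F L h hk) ?_
  show tv (four (m + 2)) (pt m (k * a) 0 (k • w)) = tv (four (m + 2)) (pt m a 0 w)
  rw [show pt m (k * a) 0 (k • w) = k • pt m a 0 w by rw [pt_smul, mul_zero], tv_smul (four (m + 2)) h.iso.2 hk]

theorem pr_conj {a a' : KQuad} {w w' : Vec m} (h : Flat m a w) (h' : Flat m a' w') :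
    pr x c e a w * pr x c e a' w' * pr x c e a w =
      pr x c e (a' + (HS m).h w' w * a) (w' + (HS m).h w' w • w) := by
  refine Prod.ext (phi_conj F L h h') ?_
  show tv (four (m + 2)) _ * tv (four (m + 2)) _ * tv (four (m + 2)) _ = tv (four (m + 2)) _
  have := tv_conj (four (m + 2)) (tv (four (m + 2)) (pt m a 0 w)) h'.iso.2
  rw [tv_inv (four (m + 2)) h.iso.2, tv_pt h.iso.2] at this
  rw [this]
  simp

theorem pr_commute {a a' : KQuad} {w w' : Vec m} (h : Flat m a w) (h' : Flat m a' w') (h0 : (HS m).h w' w = 0) :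
    Commute (pr x c e a w) (pr x c e a' w') := by
  have := pr_conj F L h h'
  rw [h0, zero_mul, add_zero, zero_smul, add_zero] at this
  calc pr x c e a w * pr x c e a' w' =
        pr x c e a w * pr x c e a' w' * pr x c e a w * pr x c e a w := by
        rw [mul_assoc (pr x c e a w * pr x c e a' w'), pr_sq F L h, mul_one]
    _ = pr x c e a' w' * pr x c e a w := by rw [this]

theorem tr_sq {r : Vec m} (hr : Iso m r) : Tr x c e r * Tr x c e r = 1 := by
  have hc := pr_commute F L (flat_of_iso hr 0) (flat_of_iso hr 1) hr.2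
  unfold Tr
  rw [hc.symm.mul_mul_mul_comm, pr_sq F L (flat_of_iso hr 0), pr_sq F L (flat_of_iso hr 1), one_mul]

theorem xp_sq : Xp x c e * Xp x c e = 1 := pr_sq F L (flat_x one_ne_zero)

theorem gen_inv {g : G × (HS (m + 2)).SIsom} (hg : g ∈ insert (Xp x c e) (Tr x c e '' {r | Iso m r})) : g⁻¹ = g := by
  rcases hg with rfl | ⟨r, hr, rfl⟩
  · exact inv_eq_of_mul_eq_one_right (xp_sq F L)
  · exact inv_eq_of_mul_eq_one_right (tr_sq F L hr)

theorem tr_apply {r : Vec m} (hr : Iso m r) (a b : KQuad) (w : Vec m) :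
    (Tr x c e r).2.1.1 (pt m a b w) = pt m (a + (HS m).h w r + b) b (w + b • r) := by
  show (tv (four (m + 2)) (pt m 0 0 r) * tv (four (m + 2)) (pt m 1 0 r)).1.1 _ = _
  rw [(HS (m + 2)).smul_mul_apply, tv_pt (flat_of_iso hr 1).iso.2, tv_pt (flat_of_iso hr 0).iso.2]
  simp only [mul_zero, mul_one, zero_mul, add_zero, zero_add, (HS m).add_left, (HS m).smul_left, hr.2,
    add_assoc]
  congr 1
  rw [← add_smul, add_comm ((HS m).h w r) b, add_assoc, kadd_self, add_zero]

theorem xp_apply (a b : KQuad) (w : Vec m) : (Xp x c e).2.1.1 (pt m a b w) = pt m (a + b) b w := by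
  show (tv (four (m + 2)) (pt m 1 0 0)).1.1 _ = _
  rw [tv_pt (flat_x one_ne_zero).iso.2, (HS m).zero_right]
  simp

/-- Translations respect the correspondence on the flat points. -/
def Good (x : G) (c e : Vec m → G) (S : Set G) (g : G × (HS (m + 2)).SIsom) : Prop :=
  g.1 ∈ closure (insert x (perp S x)) ∧ ∀ a w, Flat m a w → ∃ a' w', Flat m a' w' ∧
    g.2.1.1 (pt m a 0 w) = pt m a' 0 w' ∧ g.1 * phi x c e a w * g.1⁻¹ = phi x c e a' w'

theorem good_one : Good x c e S 1 :=
  ⟨one_mem _, fun a w h => ⟨a, w, h, rfl, by simp⟩⟩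

theorem good_mul {g k : G × (HS (m + 2)).SIsom} (hg : Good x c e S g) (hk : Good x c e S k) :
    Good x c e S (g * k) := by
  refine ⟨mul_mem hg.1 hk.1, fun a w h => ?_⟩
  obtain ⟨a', w', h', e1, e2⟩ := hk.2 a w h
  obtain ⟨a'', w'', h'', f1, f2⟩ := hg.2 a' w' h'
  refine ⟨a'', w'', h'', ?_, ?_⟩
  · show (g.2 * k.2).1.1 _ = _
    rw [(HS (m + 2)).smul_mul_apply, e1, f1]
  · show g.1 * k.1 * _ * (g.1 * k.1)⁻¹ = _
    rw [show g.1 * k.1 * phi x c e a w * (g.1 * k.1)⁻¹ = g.1 * (k.1 * phi x c e a w * k.1⁻¹) * g.1⁻¹ by group,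
      e2, f2]

theorem good_pr {a : KQuad} {w : Vec m} (h : Flat m a w) : Good x c e S (pr x c e a w) := by
  refine ⟨subset_closure (phi_mem F L h), fun a' w' h' => ?_⟩
  refine ⟨a' + (HS m).h w' w * a, w' + (HS m).h w' w • w, ?_, ?_, ?_⟩
  · have hi := h'.iso.map (tv (four (m + 2)) (pt m a 0 w))
    rw [tv_pt h.iso.2] at hi
    simp only [mul_zero, zero_mul, add_zero] at hi
    refine ⟨?_, ?_⟩
    · by_contra hn
      push Not at hn
      exact hi.1 (pt_eq_zero.2 ⟨hn.1, rfl, hn.2⟩)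
    · have := hi.2
      rw [h_pt] at this
      simpa using this
  · show (tv (four (m + 2)) (pt m a 0 w)).1.1 _ = _
    rw [tv_pt h.iso.2]
    simp
  · show phi x c e a w * _ * (phi x c e a w)⁻¹ = _
    rw [inv_eq F.uni.tr (phi_mem_S F L h)]
    exact phi_conj F L h h'

theorem good_of_mem {g : G × (HS (m + 2)).SIsom} (hg : g ∈ Eg x c e) : Good x c e S g := by
  have gen : ∀ g ∈ insert (Xp x c e) (Tr x c e '' {r | Iso m r}), Good x c e S g := by
    rintro g (rfl | ⟨r, hr, rfl⟩)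
    · exact good_pr F L (flat_x one_ne_zero)
    · exact good_mul F L (good_pr F L (flat_of_iso hr 0)) (good_pr F L (flat_of_iso hr 1))
  induction hg using closure_induction'' with
  | mem g hg => exact gen g hg
  | inv_mem g hg => rw [gen_inv F L hg]; exact gen g hg
  | one => exact good_one F L
  | mul g k _ _ hg hk => exact good_mul F L hg hk

theorem mem_commute {g : G × (HS (m + 2)).SIsom} (hg : g ∈ Eg x c e) : Commute g.1 x ∧ g.1 ∈ closure S := by
  have h := (good_of_mem F L hg).1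
  have hle : insert x (perp S x) ⊆ S := Set.insert_subset F.hx perp_sub
  refine ⟨?_, closure_mono hle h⟩
  have : closure (insert x (perp S x)) ≤ centralizer {x} := (closure_le _).2 fun y hy => by
    rw [SetLike.mem_coe, mem_centralizer_singleton_iff]
    rcases hy with rfl | hy
    · rfl
    · exact hy.2.2.symm.eq
  exact mem_centralizer_singleton_iff.1 (this h)

/-- Translations are transitive on the affine points. -/
theorem exists_translation (q : APt m) :
    ∃ g ∈ Eg x c e, g.2.1.1 (vv m) = pt m q.1.1 1 q.1.2 := by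
  have move : ∀ w : Vec m, ∀ a₀ w₀, ∃ g ∈ Eg x c e, ∃ a, g.2.1.1 (pt m a₀ 1 w₀) = pt m a 1 (w₀ + w) := by
    have one_step : ∀ w, (HS m).h w w = 0 → ∀ a₀ w₀, ∃ g ∈ Eg x c e, ∃ a,
        g.2.1.1 (pt m a₀ 1 w₀) = pt m a 1 (w₀ + w) := by
      intro w hw a₀ w₀
      by_cases h0 : w = 0
      · exact ⟨1, one_mem _, a₀, by rw [h0, add_zero]; rfl⟩
      · exact ⟨_, tr_mem' ⟨h0, hw⟩, a₀ + (HS m).h w₀ w + 1, by rw [tr_apply F L ⟨h0, hw⟩, one_smul]⟩
    intro w a₀ w₀
    rcases (four m).self_cases w with hw | hw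
    · exact one_step w hw a₀ w₀
    obtain ⟨r, hr, hrw⟩ := exists_iso_one (n := m) (w := w) (by have := F.dim; omega)
      (fun h => one_ne_zero (α := KQuad) (by rw [← hw, h, (HS m).zero_left])) 1 one_ne_zero
    have hr' := hr.smul om_ne_zero
    have hs : (HS m).h (w + om • r) (w + om • r) = 0 := by
      rw [(HS m).add_left, (HS m).add_right, (HS m).add_right, (HS m).smul_left, (HS m).smul_right, hw, hr'.2,
        hrw, conj_eq, show (HS m).h w r = 1 by rw [(HS m).symm, hrw, map_one]]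
      decide +kernel
    obtain ⟨g, hg, a, hga⟩ := one_step _ hs a₀ w₀
    obtain ⟨k, hk, a', hka⟩ := one_step _ hr'.2 a (w₀ + (w + om • r))
    refine ⟨k * g, mul_mem hk hg, a', ?_⟩
    show (k.2 * g.2).1.1 _ = _
    rw [(HS (m + 2)).smul_mul_apply, hga, hka,
      show w₀ + (w + om • r) + om • r = w₀ + (w + (om • r + om • r)) by abel, (four m).vadd_self, add_zero]
  obtain ⟨g, hg, a, hga⟩ := move q.1.2 0 0
  rw [zero_add] at hga
  have hi : (HS (m + 2)).h (pt m a 1 q.1.2) (pt m a 1 q.1.2) = 0 := by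
    rw [← hga, (HS (m + 2)).map_form]; exact vv_iso
  have ha := (apt_iff (a, q.1.2)).1 hi
  have hq := q.2
  have cases : ∀ a b : KQuad, a + a * a = b + b * b → b = a ∨ b = a + 1 := by
    simp only [KQuad.forall_iff]; decide +kernel
  rcases cases a q.1.1 (ha.trans hq.symm) with e' | e'
  · exact ⟨g, hg, by rw [e']; exact hga⟩
  · refine ⟨Xp x c e * g, mul_mem xp_mem hg, ?_⟩
    show ((Xp x c e).2 * g.2).1.1 _ = _
    rw [(HS (m + 2)).smul_mul_apply, show g.2.1.1 (vv m) = pt m a 1 q.1.2 from hga, xp_apply F L, e']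

theorem exists_affine {g : G × (HS (m + 2)).SIsom} (hg : g ∈ Eg x c e) :
    ∃ q : APt m, g.2.1.1 (vv m) = pt m q.1.1 1 q.1.2 := by
  obtain ⟨a, b, w, h⟩ := pt_surj (g.2.1.1 (vv m))
  obtain ⟨a', w', hf, e1, -⟩ := (good_of_mem F L hg).2 1 0 (flat_x one_ne_zero)
  have hu : g.2.1.1 (pt m 1 0 0) = pt m 1 0 0 := by
    have gen : ∀ g ∈ insert (Xp x c e) (Tr x c e '' {r | Iso m r}), g.2.1.1 (pt m 1 0 0) = pt m 1 0 0 := by
      rintro g (rfl | ⟨r, hr, rfl⟩)
      · rw [xp_apply F L]; simp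
      · rw [tr_apply F L hr, (HS m).zero_left]; simp
    clear h e1
    induction hg using closure_induction'' with
    | mem g hg => exact gen g hg
    | inv_mem g hg => rw [gen_inv F L hg]; exact gen g hg
    | one => rfl
    | mul g k _ _ hg hk =>
      show (g.2 * k.2).1.1 _ = _
      rw [(HS (m + 2)).smul_mul_apply, hk, hg]
  have hb : b = 1 := by
    have h1 : (HS (m + 2)).h (g.2.1.1 (vv m)) (g.2.1.1 (pt m 1 0 0)) = 1 := by
      rw [(HS (m + 2)).map_form, vv, h_pt, (HS m).zero_left]; simp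
    rw [hu, h, h_pt, (HS m).zero_right] at h1
    simpa using h1
  subst hb
  have hi : (HS (m + 2)).h (pt m a 1 w) (pt m a 1 w) = 0 := by
    rw [← h, (HS (m + 2)).map_form]; exact vv_iso
  exact ⟨⟨(a, w), (apt_iff (a, w)).1 hi⟩, h⟩

theorem commute_z {a : KQuad} {w : Vec m} (h : Flat m a w) : Commute (phi x c e a w) z ↔ a = 0 := by
  rcases h.cases x c e with ⟨rfl, hw, e1⟩ | ⟨ha, rfl, e1⟩ | ⟨ha, r, hr, rfl, e1⟩ <;> rw [e1]
  · exact iff_of_true (F.mem w hw).2.2.2.symm rfl
  · exact iff_of_false F.hxz ha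
  · refine iff_of_false (fun hc => cl_not_inter F (F.mem r hr) (L.mem r hr) ⟨(L.mem r hr).1.1, ?_⟩) ha
    exact ⟨(L.mem r hr).1.1.1, fun e' => F.hxz (e' ▸ (L.mem r hr).1.1.2.2), hc.symm⟩

/-- The member over a translation commutes with the members over the orthogonal flat points. -/
theorem commute_image {g : G × (HS (m + 2)).SIsom} (hg : g ∈ Eg x c e) {a : KQuad} {w : Vec m} (h : Flat m a w) :
    Commute (phi x c e a w) (g.1 * z * g.1⁻¹) ↔ (HS (m + 2)).h (pt m a 0 w) (g.2.1.1 (vv m)) = 0 := by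
  obtain ⟨a', w', h', e1, e2⟩ := (good_of_mem F L (inv_mem hg)).2 a w h
  have e3 : phi x c e a w = g.1 * phi x c e a' w' * g.1⁻¹ := by
    rw [← e2]; simp only [Prod.fst_inv]; group
  have e4 : pt m a 0 w = g.2.1.1 (pt m a' 0 w') := by
    rw [← e1]
    show _ = (g.2.1.1 (((g⁻¹).2).1.1 _))
    rw [← (HS (m + 2)).smul_mul_apply, ← Prod.snd_mul, mul_inv_cancel]
    rfl
  rw [e3, conj_commute_iff, commute_z F L h', e4, (HS (m + 2)).map_form, h_vv]

theorem image_off {g : G × (HS (m + 2)).SIsom} (hg : g ∈ Eg x c e) : g.1 * z * g.1⁻¹ ∈ Off S x := by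
  obtain ⟨hc, hS⟩ := mem_commute F L hg
  refine ⟨(F.uni.mem_iff hS z).2 F.hz, fun h => F.hxz ?_⟩
  rw [← conj_commute_iff g.1]
  rwa [CoreThree.conj_fix hc]

/-- Translations with the same image of `z` move the second vector to the same remainder. -/
theorem remainder_unique {g k : G × (HS (m + 2)).SIsom} (hg : g ∈ Eg x c e) (hk : k ∈ Eg x c e)
    (h : g.1 * z * g.1⁻¹ = k.1 * z * k.1⁻¹) {a a' : KQuad} {w w' : Vec m}
    (e1 : g.2.1.1 (vv m) = pt m a 1 w) (e2 : k.2.1.1 (vv m) = pt m a' 1 w') : w = w' := by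
  by_contra hne
  have hne' : w + w' ≠ 0 := fun e0 => hne ((four m).eq_of_vadd e0)
  obtain ⟨r, hr, hrw⟩ := exists_iso_one (by have := F.dim; omega) hne' 1 one_ne_zero
  have hf := flat_of_iso hr ((HS m).h r w)
  have h1 : Commute (phi x c e ((HS m).h r w) r) (g.1 * z * g.1⁻¹) := by
    rw [commute_image F L hg hf, e1, h_pt]
    simp [kadd_self]
  rw [h, commute_image F L hk hf, e2, h_pt] at h1
  rw [(HS m).add_right] at hrw
  simp only [mul_one, zero_mul, add_zero] at h1
  exact one_ne_zero (α := KQuad) (by rw [← hrw, add_comm, h1])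

theorem xp_image {g : G × (HS (m + 2)).SIsom} :
    (Xp x c e * g).1 * z * (Xp x c e * g).1⁻¹ = x * (g.1 * z * g.1⁻¹) * x := by
  have hX : (Xp x c e).1 = x := phi_x (c := c) (e := e) one_ne_zero
  rw [Prod.fst_mul, hX, mul_inv_rev, inv_eq F.uni.tr F.hx]
  group

/-- Each member not commuting with `x` is the image of `z`; there are two of them over each remainder. -/
theorem off_orbit :
    (∀ y ∈ Off S x, ∃ g ∈ Eg x c e, y = g.1 * z * g.1⁻¹) ∧
    ∀ g ∈ Eg x c e, ∀ k ∈ Eg x c e, ∀ a a' w, g.2.1.1 (vv m) = pt m a 1 w → k.2.1.1 (vv m) = pt m a' 1 w →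
      k.1 * z * k.1⁻¹ = g.1 * z * g.1⁻¹ ∨ k.1 * z * k.1⁻¹ = x * (g.1 * z * g.1⁻¹) * x := by
  classical
  have hex : ∀ w : Vec m, ∃ g ∈ Eg x c e, ∃ a, g.2.1.1 (vv m) = pt m a 1 w := fun w => by
    have h : ∃ a : KQuad, a + a * a = (HS m).h w w := by
      rcases (four m).self_cases w with h | h <;> rw [h]
      · exact ⟨0, by simp⟩
      · exact ⟨om, om_facts.1⟩
    obtain ⟨a, ha⟩ := h
    obtain ⟨g, hg, hga⟩ := exists_translation F L ⟨(a, w), ha⟩
    exact ⟨g, hg, a, hga⟩
  choose γ hγ α hα using hex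
  let δ : Vec m × Bool → G × (HS (m + 2)).SIsom := fun p => if p.2 then Xp x c e * γ p.1 else γ p.1
  have hδ : ∀ p, δ p ∈ Eg x c e ∧ ∃ a, (δ p).2.1.1 (vv m) = pt m a 1 p.1 := by
    rintro ⟨w, b⟩
    cases b
    · exact ⟨hγ w, α w, hα w⟩
    · refine ⟨mul_mem xp_mem (hγ w), α w + 1, ?_⟩
      show ((Xp x c e).2 * (γ w).2).1.1 _ = _
      rw [(HS (m + 2)).smul_mul_apply, hα w, xp_apply F L]
  let Ψ : Vec m × Bool → G := fun p => (δ p).1 * z * (δ p).1⁻¹
  have hfix : ∀ w, x * ((γ w).1 * z * (γ w).1⁻¹) * x ≠ (γ w).1 * z * (γ w).1⁻¹ := by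
    intro w h
    obtain ⟨hy, hxy⟩ := image_off F L (hγ w)
    refine hxy ?_
    set y := (γ w).1 * z * (γ w).1⁻¹
    calc x * y = x * y * x * x := by rw [mul_assoc (x * y), sq_eq_one F.uni.tr F.hx, mul_one]
      _ = y * x := by rw [h]
  have hinj : Function.Injective Ψ := by
    rintro ⟨w, b⟩ ⟨w', b'⟩ h
    obtain ⟨h1, a1, e1⟩ := hδ (w, b)
    obtain ⟨h2, a2, e2⟩ := hδ (w', b')
    obtain rfl : w = w' := remainder_unique F L h1 h2 h e1 e2
    cases b <;> cases b' <;> simp only [Ψ, δ, if_true, Bool.false_eq_true, if_false, xp_image F L] at h ⊢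
    exacts [absurd h.symm (hfix w), absurd h (hfix w)]
  have himg : Set.range Ψ = Off S x := by
    refine Set.eq_of_subset_of_ncard_le (Set.range_subset_iff.2 fun p => image_off F L (hδ p).1) ?_ (Set.toFinite _)
    rw [ncard_off F L, ← Nat.card_coe_set_eq, Nat.card_range_of_injective hinj, Nat.card_prod, Nat.card_fun,
      Nat.card_eq_fintype_card (α := KQuad), KQuad.card_eq, Nat.card_fin, Nat.card_eq_fintype_card,
      Fintype.card_bool, mul_comm]
  refine ⟨fun y hy => ?_, fun g hg k hk a a' w e1 e2 => ?_⟩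
  · rw [← himg] at hy
    obtain ⟨p, rfl⟩ := hy
    exact ⟨δ p, (hδ p).1, rfl⟩
  have two : ∀ g ∈ Eg x c e, ∀ a, g.2.1.1 (vv m) = pt m a 1 w → g.1 * z * g.1⁻¹ = (γ w).1 * z * (γ w).1⁻¹ ∨
      g.1 * z * g.1⁻¹ = x * ((γ w).1 * z * (γ w).1⁻¹) * x := by
    intro g hg a e1
    have hy := image_off F L hg
    rw [← himg] at hy
    obtain ⟨⟨w', b⟩, hp⟩ := hy
    obtain ⟨h2, a2, e2⟩ := hδ (w', b)
    obtain rfl : w' = w := remainder_unique F L h2 hg hp e2 e1
    cases b <;> simp only [Ψ, δ, if_true, Bool.false_eq_true, if_false, xp_image F L] at hp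
    · exact Or.inl hp.symm
    · exact Or.inr hp.symm
  have hxx := invol_conj_conj (sq_eq_one F.uni.tr F.hx) ((γ w).1 * z * (γ w).1⁻¹)
  rcases two g hg a e1 with h | h <;> rcases two k hk a' e2 with h' | h' <;> rw [h, h']
  · exact Or.inl rfl
  · exact Or.inr rfl
  · exact Or.inr hxx.symm
  · exact Or.inl rfl

/-- An element fixing `z` and all flat members is trivial. -/
theorem eq_one_of_fix {g : G} (hz : Commute g z) (hfl : ∀ a w, Flat m a w → Commute g (phi x c e a w)) : g = 1 := by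
  have hgen : ∀ y ∈ insert x (perp S x), Commute g y := fun y hy => by
    obtain ⟨a, w, hf, rfl⟩ := phi_surj F L hy
    exact hfl a w hf
  refine F.uni.cent g fun y hy => ?_
  by_cases hxy : Commute x y
  · by_cases hyx : y = x
    · exact hgen y (Or.inl hyx)
    · exact hgen y (Or.inr ⟨hy, hyx, hxy⟩)
  obtain ⟨k, hk, rfl⟩ := (off_orbit F L).1 y ⟨hy, hxy⟩
  have hgk : Commute g k.1 := by
    have : closure (insert x (perp S x)) ≤ centralizer {g} := (closure_le _).2 fun y hy => by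
      rw [SetLike.mem_coe, mem_centralizer_singleton_iff]
      exact (hgen y hy).symm.eq
    exact (mem_centralizer_singleton_iff.1 (this (good_of_mem F L hk).1) : Commute k.1 g).symm
  exact (hgk.mul_right hz).mul_right hgk.inv_right

end Cfsg.Lib.ThreeTr.TwoCorePerp.Unitary
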